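import Mathlib

/-! Kernel-friendly packed tables (12 bits per entry), loops written directly with recursors,
and the permutations / words given by such tables. -/

set_option autoImplicit false

namespace Cfsg.Agent.SporRec.R3.Kernel

/-- entry `i` of the packed table `T` (12 bits per entry) -/
def look (T i : ℕ) : ℕ := Nat.land (Nat.shiftRight T (Nat.mul 12 i)) 4095

/-- all `i < n` satisfy `p` (linear recursion: small `n` only) -/
noncomputable def allS (p : ℕ → Bool) (n : ℕ) : Bool :=
  Nat.rec (motive := fun _ => Bool) true (fun k ih => Bool.rec false ih (p k)) n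

/-- some `i < n` satisfies `p` (small `n` only) -/
noncomputable def anyS (p : ℕ → Bool) (n : ℕ) : Bool :=
  Nat.rec (motive := fun _ => Bool) false (fun k ih => Bool.rec ih true (p k)) n

/-- all `i` in `[lo, lo + 16 * 2^k)` with `i < n` satisfy `p` -/
noncomputable def allG (p : ℕ → Bool) (n k : ℕ) : ℕ → Bool :=
  Nat.rec (motive := fun _ => ℕ → Bool)
    (fun lo => allS (fun j => Bool.rec (p (Nat.add lo j)) true (Nat.ble n (Nat.add lo j))) 16)
    (fun k ih lo => Bool.rec (Bool.rec false (ih (Nat.add lo (Nat.mul 16 (Nat.pow 2 k)))) (ih lo))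
      true (Nat.ble n lo)) k

/-- all `i < n` satisfy `p` (logarithmic recursion depth) -/
noncomputable def allB (p : ℕ → Bool) (n : ℕ) : Bool := allG p n (Nat.succ (Nat.log2 n)) 0

/-- all entries of a list satisfy `p` -/
noncomputable def allL {β : Type} (p : β → Bool) (l : List β) : Bool :=
  List.rec (motive := fun _ => Bool) true (fun a _ ih => Bool.rec false ih (p a)) l

/-- some entry of a list satisfies `p` -/
noncomputable def anyL {β : Type} (p : β → Bool) (l : List β) : Bool :=
  List.rec (motive := fun _ => Bool) false (fun a _ ih => Bool.rec ih true (p a)) l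

/-- sum over `i < n` (small `n` only) -/
noncomputable def sumS (f : ℕ → ℕ) (n : ℕ) : ℕ :=
  Nat.rec (motive := fun _ => ℕ) 0 (fun k ih => Nat.add (f k) ih) n

/-- sum over `i` in `[lo, lo + 16 * 2^k)` with `i < n` -/
noncomputable def sumG (f : ℕ → ℕ) (n k : ℕ) : ℕ → ℕ :=
  Nat.rec (motive := fun _ => ℕ → ℕ)
    (fun lo => sumS (fun j => Bool.rec (f (Nat.add lo j)) 0 (Nat.ble n (Nat.add lo j))) 16)
    (fun k ih lo => Bool.rec (Nat.add (ih lo) (ih (Nat.add lo (Nat.mul 16 (Nat.pow 2 k)))))
      0 (Nat.ble n lo)) k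

/-- sum over `i < n` (logarithmic recursion depth) -/
noncomputable def sumB (f : ℕ → ℕ) (n : ℕ) : ℕ := sumG f n (Nat.succ (Nat.log2 n)) 0

/-- bitwise or over `i < n` (small `n` only) -/
noncomputable def orS (f : ℕ → ℕ) (n : ℕ) : ℕ :=
  Nat.rec (motive := fun _ => ℕ) 0 (fun k ih => Nat.lor (f k) ih) n

/-- `1` if the condition holds, else `0` -/
def b2n (b : Bool) : ℕ := Bool.rec 0 1 b

/-- evaluate the word `w` (leftmost letter applied last) at the point `i` -/
noncomputable def evalW {ι : Type} (tab : ι → ℕ) (w : List ι) : ℕ → ℕ :=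
  List.rec (motive := fun _ => ℕ → ℕ) (fun i => i) (fun g _ ih i => look (tab g) (ih i)) w

@[simp] theorem evalW_nil {ι : Type} (tab : ι → ℕ) (i : ℕ) : evalW tab [] i = i := rfl
@[simp] theorem evalW_cons {ι : Type} (tab : ι → ℕ) (g : ι) (w : List ι) (i : ℕ) :
    evalW tab (g :: w) i = look (tab g) (evalW tab w i) := rfl

theorem and3 (a b : Bool) : (Bool.rec false b a : Bool) = (a && b) := by cases a <;> rfl
theorem or3 (a b : Bool) : (Bool.rec b true a : Bool) = (a || b) := by cases a <;> rfl

theorem allS_succ (p : ℕ → Bool) (n : ℕ) : allS p (n+1) = (p n && allS p n) := by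
  rw [← and3]; rfl

theorem allS_iff (p : ℕ → Bool) (n : ℕ) : allS p n = true ↔ ∀ i < n, p i = true := by
  induction n with
  | zero => simp [allS]
  | succ n ih =>
      rw [allS_succ, Bool.and_eq_true, ih]
      constructor
      · rintro ⟨h1, h2⟩ i hi
        rcases Nat.lt_succ_iff_lt_or_eq.1 hi with h | h
        · exact h2 i h
        · rw [h]; exact h1
      · intro h
        exact ⟨h n (Nat.lt_succ_self n), fun i hi => h i (Nat.lt_succ_of_lt hi)⟩

theorem guard_iff (b c : Bool) : ((Bool.rec b true c : Bool) = true) ↔ (c = false → b = true) := by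
  cases b <;> cases c <;> simp

theorem ble_false {a b : ℕ} : Nat.ble a b = false ↔ b < a := by
  rw [Bool.eq_false_iff, ne_eq, Nat.ble_eq, not_le]

theorem allG_iff (p : ℕ → Bool) (n : ℕ) (k : ℕ) : ∀ lo, allG p n k lo = true ↔
    ∀ i, lo ≤ i → i < lo + 16 * 2 ^ k → i < n → p i = true := by
  induction k with
  | zero =>
    intro lo
    change allS (fun j => Bool.rec (p (lo + j)) true (Nat.ble n (lo + j))) 16 = true ↔ _
    rw [allS_iff]
    simp only [guard_iff, ble_false]
    constructor
    · intro h i h1 h2 h3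
      have := h (i - lo) (by omega)
      rw [show lo + (i - lo) = i by omega] at this
      exact this h3
    · intro h j hj h3
      exact h (lo + j) (by omega) (by omega) h3
  | succ k ih =>
    intro lo
    change (Bool.rec (Bool.rec false (allG p n k (lo + 16 * 2 ^ k)) (allG p n k lo)) true (Nat.ble n lo) : Bool)
      = true ↔ _
    rw [guard_iff, and3, Bool.and_eq_true, ih, ih, ble_false]
    have e : 16 * 2 ^ (k+1) = 16 * 2 ^ k + 16 * 2 ^ k := by ring
    constructor
    · intro h i h1 h2 h3
      obtain ⟨ha, hb⟩ := h (by omega)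
      by_cases hi : i < lo + 16 * 2 ^ k
      · exact ha i h1 hi h3
      · exact hb i (by omega) (by omega) h3
    · intro h _
      exact ⟨fun i h1 h2 h3 => h i h1 (by omega) h3, fun i h1 h2 h3 => h i (by omega) (by omega) h3⟩

theorem lt_cover (n : ℕ) : n < 16 * 2 ^ (Nat.succ (Nat.log2 n)) := by
  have : n < 2 ^ (Nat.log2 n + 1) := Nat.lt_log2_self
  have h2 : 2 ^ (Nat.log2 n + 1) ≤ 16 * 2 ^ (Nat.log2 n + 1) := Nat.le_mul_of_pos_left _ (by norm_num)
  exact lt_of_lt_of_le this h2

theorem allB_iff (p : ℕ → Bool) (n : ℕ) : allB p n = true ↔ ∀ i < n, p i = true := by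
  unfold allB
  rw [allG_iff]
  have := lt_cover n
  constructor
  · intro h i hi; exact h i (Nat.zero_le _) (by omega) hi
  · intro h i _ _ hi; exact h i hi

theorem anyS_succ (p : ℕ → Bool) (n : ℕ) : anyS p (n+1) = (p n || anyS p n) := by
  rw [← or3]; rfl

theorem anyS_iff (p : ℕ → Bool) (n : ℕ) : anyS p n = true ↔ ∃ i < n, p i = true := by
  induction n with
  | zero => simp [anyS]
  | succ n ih =>
      rw [anyS_succ, Bool.or_eq_true, ih]
      constructor
      · rintro (h1 | ⟨i, hi, h2⟩)
        · exact ⟨n, Nat.lt_succ_self n, h1⟩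
        · exact ⟨i, Nat.lt_succ_of_lt hi, h2⟩
      · rintro ⟨i, hi, h⟩
        rcases Nat.lt_succ_iff_lt_or_eq.1 hi with h' | h'
        · exact Or.inr ⟨i, h', h⟩
        · rw [h'] at h; exact Or.inl h

theorem allL_cons {β : Type} (p : β → Bool) (a : β) (l : List β) :
    allL p (a :: l) = (p a && allL p l) := by
  rw [← and3]; rfl

theorem allL_iff {β : Type} (p : β → Bool) (l : List β) : allL p l = true ↔ ∀ a ∈ l, p a = true := by
  induction l with
  | nil => simp [allL]
  | cons a l ih => rw [allL_cons, Bool.and_eq_true, ih]; simp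

theorem anyL_cons {β : Type} (p : β → Bool) (a : β) (l : List β) :
    anyL p (a :: l) = (p a || anyL p l) := by
  rw [← or3]; rfl

theorem anyL_iff {β : Type} (p : β → Bool) (l : List β) : anyL p l = true ↔ ∃ a ∈ l, p a = true := by
  induction l with
  | nil => simp [anyL]
  | cons a l ih => rw [anyL_cons, Bool.or_eq_true, ih]; simp

theorem sumS_eq (f : ℕ → ℕ) (n : ℕ) : sumS f n = ∑ i ∈ Finset.range n, f i := by
  induction n with
  | zero => rfl
  | succ n ih =>
      rw [Finset.sum_range_succ, ← ih]
      exact Nat.add_comm (f n) (sumS f n)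

theorem guard_ite (a n i : ℕ) : (Bool.rec a 0 (Nat.ble n i) : ℕ) = if i < n then a else 0 := by
  by_cases h : i < n
  · have : Nat.ble n i = false := ble_false.2 h
    rw [this, if_pos h]
  · have : Nat.ble n i = true := by rw [Nat.ble_eq]; omega
    rw [this, if_neg h]

theorem sumG_eq (f : ℕ → ℕ) (n : ℕ) (k : ℕ) : ∀ lo, sumG f n k lo =
    ∑ i ∈ Finset.range (16 * 2 ^ k), if lo + i < n then f (lo + i) else 0 := by
  induction k with
  | zero =>
    intro lo
    change sumS (fun j => Bool.rec (f (lo + j)) 0 (Nat.ble n (lo + j))) 16 = _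
    rw [sumS_eq]
    apply Finset.sum_congr rfl
    intro j _
    exact guard_ite _ _ _
  | succ k ih =>
    intro lo
    change (Bool.rec (sumG f n k lo + sumG f n k (lo + 16 * 2 ^ k)) 0 (Nat.ble n lo) : ℕ) = _
    rw [guard_ite, ih, ih]
    have e : 16 * 2 ^ (k+1) = 16 * 2 ^ k + 16 * 2 ^ k := by ring
    rw [e, Finset.sum_range_add]
    by_cases h : lo < n
    · rw [if_pos h]
      congr 1
      apply Finset.sum_congr rfl
      intro j _
      rw [add_assoc]
    · rw [if_neg h]
      have e1 : ∑ i ∈ Finset.range (16 * 2 ^ k), (if lo + i < n then f (lo + i) else 0) = 0 :=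
        Finset.sum_eq_zero fun j _ => if_neg (by omega)
      have e2 : ∑ i ∈ Finset.range (16 * 2 ^ k), (if lo + (16 * 2 ^ k + i) < n
          then f (lo + (16 * 2 ^ k + i)) else 0) = 0 :=
        Finset.sum_eq_zero fun j _ => if_neg (by omega)
      rw [e1, e2]

theorem sumB_eq (f : ℕ → ℕ) (n : ℕ) : sumB f n = ∑ i ∈ Finset.range n, f i := by
  unfold sumB
  rw [sumG_eq]
  have h := lt_cover n
  simp only [zero_add]
  rw [← Finset.sum_filter]
  apply Finset.sum_congr _ (fun _ _ => rfl)
  ext i
  rw [Finset.mem_filter, Finset.mem_range, Finset.mem_range]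
  exact ⟨fun h => h.2, fun h' => ⟨by omega, h'⟩⟩

theorem b2n_eq (b : Bool) : b2n b = if b = true then 1 else 0 := by cases b <;> rfl

theorem orS_testBit (f : ℕ → ℕ) (n y : ℕ) :
    (orS f n).testBit y = true ↔ ∃ i < n, (f i).testBit y = true := by
  induction n with
  | zero => simp [orS]
  | succ n ih =>
      have e : orS f (n+1) = (f n) ||| orS f n := rfl
      rw [e, Nat.testBit_or, Bool.or_eq_true, ih]
      constructor
      · rintro (h | ⟨i, hi, h⟩)
        · exact ⟨n, Nat.lt_succ_self n, h⟩
        · exact ⟨i, Nat.lt_succ_of_lt hi, h⟩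
      · rintro ⟨i, hi, h⟩
        rcases Nat.lt_succ_iff_lt_or_eq.1 hi with h' | h'
        · exact Or.inr ⟨i, h', h⟩
        · rw [h'] at h; exact Or.inl h

/-- check that the packed tables `T` and `T'` are inverse permutations of `{0..n-1}` -/
noncomputable def chkPerm (n T T' : ℕ) : Bool :=
  allB (fun i => Bool.rec false (Bool.rec false (Bool.rec false
    (Nat.beq (look T (look T' i)) i) (Nat.ble (Nat.succ (look T' i)) n))
    (Nat.beq (look T' (look T i)) i)) (Nat.ble (Nat.succ (look T i)) n)) n

theorem chkPerm_spec {n T T' : ℕ} (h : chkPerm n T T' = true) (i : ℕ) (hi : i < n) :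
    look T i < n ∧ look T' (look T i) = i ∧ look T' i < n ∧ look T (look T' i) = i := by
  have := (allB_iff _ _).1 h i hi
  simp only [and3, Bool.and_eq_true, Nat.ble_eq, Nat.beq_eq] at this
  obtain ⟨h1, h2, h3, h4⟩ := this
  exact ⟨h1, h2, h3, h4⟩

/-- the permutation of `Fin n` given by a pair of inverse tables -/
def mkPerm (n T T' : ℕ) (h : chkPerm n T T' = true) : Equiv.Perm (Fin n) where
  toFun i := ⟨look T i, (chkPerm_spec h i i.2).1⟩
  invFun i := ⟨look T' i, (chkPerm_spec h i i.2).2.2.1⟩
  left_inv i := Fin.ext (chkPerm_spec h i i.2).2.1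
  right_inv i := Fin.ext (chkPerm_spec h i i.2).2.2.2

@[simp] theorem mkPerm_val {n T T' : ℕ} (h : chkPerm n T T' = true) (i : Fin n) :
    ((mkPerm n T T' h i : Fin n) : ℕ) = look T i := rfl

/-- the group element of a word -/
def gw {ι H : Type*} [Group H] (gen : ι → H) (w : List ι) : H := (w.map gen).prod

@[simp] theorem gw_nil {ι H : Type*} [Group H] (gen : ι → H) : gw gen [] = 1 := rfl
@[simp] theorem gw_cons {ι H : Type*} [Group H] (gen : ι → H) (g : ι) (w : List ι) :
    gw gen (g :: w) = gen g * gw gen w := by simp [gw]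

theorem gw_append {ι H : Type*} [Group H] (gen : ι → H) (v w : List ι) :
    gw gen (v ++ w) = gw gen v * gw gen w := by simp [gw]

/-- `evalW` computes the action of the group element of a word -/
theorem evalW_spec {ι : Type} {H : Type*} [Group H] {n : ℕ} (gen : ι → H)
    (ρ : H →* Equiv.Perm (Fin n)) (tab : ι → ℕ)
    (hgen : ∀ g (y : Fin n), ((ρ (gen g) y : Fin n) : ℕ) = look (tab g) y) (w : List ι) (y : Fin n) :
    ((ρ (gw gen w) y : Fin n) : ℕ) = evalW tab w y := by
  induction w with
  | nil => simp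
  | cons g w ih =>
      rw [gw_cons, map_mul, Equiv.Perm.mul_apply, hgen, ih]; rfl

/-- inverse word, for an involution `inv` on letters -/
def winv {ι : Type} (inv : ι → ι) (w : List ι) : List ι := (w.map inv).reverse

theorem gw_winv {ι : Type} {H : Type*} [Group H] (gen : ι → H) (inv : ι → ι)
    (hinv : ∀ g, gen (inv g) = (gen g)⁻¹) (w : List ι) : gw gen (winv inv w) = (gw gen w)⁻¹ := by
  induction w with
  | nil => simp [winv]
  | cons g w ih =>
      have : winv inv (g :: w) = winv inv w ++ [inv g] := by simp [winv]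
      rw [this, gw_append, ih, gw_cons, gw_cons, hinv]; simp

end Cfsg.Agent.SporRec.R3.Kernel
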