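import Cfsg.Agent.SporRec.R3.Kernel

/-! A tiny certified search for 0/1 solutions of the systems
`#{s | x (lab i s)} = if x i then hi else lo`. -/

set_option autoImplicit false

namespace Cfsg.Agent.SporRec.R3.Search

open Cfsg.Agent.SporRec.R3.Kernel

/-- certificates -/
inductive Cert
  | zero (i j : ℕ) (t : Cert)
  | one (i j : ℕ) (t : Cert)
  | contra (i : ℕ)
  | branch (j : ℕ) (t1 t0 : Cert)
  | sol

/-- bit `j` of `m` as a number -/
def tb (m j : ℕ) : ℕ := Nat.land (Nat.shiftRight m j) 1

theorem tb_eq (m j : ℕ) : tb m j = b2n (m.testBit j) := by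
  have h1 : tb m j = (m / 2 ^ j) % 2 := by
    unfold tb
    change (m >>> j) &&& 1 = _
    rw [Nat.and_one_is_mod, Nat.shiftRight_eq_div_pow]
  rw [h1, ← Nat.toNat_testBit]
  cases m.testBit j <;> rfl

/-- number of labels of equation `i` in the mask -/
noncomputable def cM (EQ len i m : ℕ) : ℕ :=
  sumS (fun s => tb m (look EQ (Nat.add (Nat.mul len i) s))) len

/-- number of occurrences of `j` in equation `i` -/
noncomputable def cJ (EQ len i j : ℕ) : ℕ :=
  sumS (fun s => b2n (Nat.beq (look EQ (Nat.add (Nat.mul len i) s)) j)) len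

/-- right hand side -/
noncomputable def rhs (hi lo i ones : ℕ) : ℕ :=
  Bool.rec (motive := fun _ => ℕ) lo hi (Nat.beq (tb ones i) 1)

/-- force evaluation of a number -/
noncomputable def force (x : ℕ) (k : ℕ → Bool) : Bool :=
  Nat.rec (motive := fun _ => Bool) (k 0) (fun m _ => k (Nat.succ m)) x

theorem force_eq (x : ℕ) (k : ℕ → Bool) : force x k = k x := by cases x <;> rfl

noncomputable def run (K len EQ hi lo : ℕ) (allow : Bool) (SOL : ℕ) (t : Cert) : ℕ → ℕ → Bool :=
  Cert.rec (motive := fun _ => ℕ → ℕ → Bool)
    (fun i j _ ih ones free =>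
      Bool.rec false
        (force (Nat.xor free (Nat.pow 2 j)) fun f => ih ones f)
        (Bool.rec false (Bool.rec false (Bool.rec false (Bool.rec false (Bool.rec false
          (Nat.ble (Nat.succ (rhs hi lo i ones)) (Nat.add (cM EQ len i ones) (cJ EQ len i j)))
          (Nat.beq (tb ones j) 0)) (Nat.beq (tb free j) 1)) (Nat.beq (tb free i) 0))
          (Nat.ble (Nat.succ j) K)) (Nat.ble (Nat.succ i) K)))
    (fun i j _ ih ones free =>
      Bool.rec false
        (force (Nat.xor ones (Nat.pow 2 j)) fun o => force (Nat.xor free (Nat.pow 2 j)) fun f => ih o f)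
        (Bool.rec false (Bool.rec false (Bool.rec false (Bool.rec false (Bool.rec false
          (Nat.ble (Nat.succ (Nat.add (cM EQ len i ones) (cM EQ len i free)))
            (Nat.add (rhs hi lo i ones) (cJ EQ len i j)))
          (Nat.beq (tb ones j) 0)) (Nat.beq (tb free j) 1)) (Nat.beq (tb free i) 0))
          (Nat.ble (Nat.succ j) K)) (Nat.ble (Nat.succ i) K)))
    (fun i ones free =>
      Bool.rec false (Bool.rec false
        (Bool.rec (Nat.ble (Nat.succ (Nat.add (cM EQ len i ones) (cM EQ len i free))) (rhs hi lo i ones))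
          true (Nat.ble (Nat.succ (rhs hi lo i ones)) (cM EQ len i ones)))
        (Nat.beq (tb free i) 0)) (Nat.ble (Nat.succ i) K))
    (fun j _ _ ih1 ih0 ones free =>
      Bool.rec false
        (force (Nat.xor free (Nat.pow 2 j)) fun f =>
          Bool.rec false (ih0 ones f) (force (Nat.xor ones (Nat.pow 2 j)) fun o => ih1 o f))
        (Bool.rec false (Bool.rec false (Nat.beq (tb ones j) 0) (Nat.beq (tb free j) 1))
          (Nat.ble (Nat.succ j) K)))
    (fun ones free => Bool.rec false (Bool.rec false allow (Nat.beq ones SOL)) (Nat.beq free 0))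
    t

/-- the assignment `x` is consistent with the state -/
def Cons (K : ℕ) (x : ℕ → Bool) (ones free : ℕ) : Prop :=
  ∀ j < K, (ones.testBit j = true → x j = true) ∧
    (ones.testBit j = false → free.testBit j = false → x j = false)

variable {K len EQ hi lo : ℕ} {x : ℕ → Bool}

theorem b2n_le_one (b : Bool) : b2n b ≤ 1 := by cases b <;> decide

theorem sum_ge (hl : ∀ i < K, ∀ s < len, look EQ (len * i + s) < K) {i ones free : ℕ} (hi' : i < K)
    (hc : Cons K x ones free) :
    cM EQ len i ones ≤ ∑ s ∈ Finset.range len, b2n (x (look EQ (len * i + s))) := by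
  unfold cM
  rw [sumS_eq]
  apply Finset.sum_le_sum
  intro s hs
  rw [Finset.mem_range] at hs
  change tb ones (look EQ (len * i + s)) ≤ _
  rw [tb_eq]
  have := (hc _ (hl i hi' s hs)).1
  cases h : ones.testBit (look EQ (len * i + s)) with
  | false => simp [b2n]
  | true => rw [this h]

theorem sum_ge_j (hl : ∀ i < K, ∀ s < len, look EQ (len * i + s) < K) {i j ones free : ℕ} (hi' : i < K)
    (hc : Cons K x ones free) (hj : ones.testBit j = false) (hx : x j = true) :
    cM EQ len i ones + cJ EQ len i j ≤ ∑ s ∈ Finset.range len, b2n (x (look EQ (len * i + s))) := by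
  unfold cM cJ
  rw [sumS_eq, sumS_eq, ← Finset.sum_add_distrib]
  apply Finset.sum_le_sum
  intro s hs
  rw [Finset.mem_range] at hs
  change tb ones (look EQ (len * i + s)) + b2n (Nat.beq (look EQ (len * i + s)) j) ≤ _
  rw [tb_eq]
  by_cases he : look EQ (len * i + s) = j
  · rw [he, hj, hx]
    have : Nat.beq j j = true := by rw [Nat.beq_eq]
    rw [this]; decide
  · have : Nat.beq (look EQ (len * i + s)) j = false := by
      rw [Bool.eq_false_iff, ne_eq, Nat.beq_eq]; exact he
    rw [this]
    have h2 := (hc _ (hl i hi' s hs)).1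
    cases h : ones.testBit (look EQ (len * i + s)) with
    | false => simp [b2n]
    | true => rw [h2 h]; decide

theorem sum_le (hl : ∀ i < K, ∀ s < len, look EQ (len * i + s) < K) {i ones free : ℕ} (hi' : i < K)
    (hc : Cons K x ones free) :
    ∑ s ∈ Finset.range len, b2n (x (look EQ (len * i + s))) ≤ cM EQ len i ones + cM EQ len i free := by
  unfold cM
  rw [sumS_eq, sumS_eq, ← Finset.sum_add_distrib]
  apply Finset.sum_le_sum
  intro s hs
  rw [Finset.mem_range] at hs
  change _ ≤ tb ones (look EQ (len * i + s)) + tb free (look EQ (len * i + s))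
  rw [tb_eq, tb_eq]
  have h2 := (hc _ (hl i hi' s hs)).2
  cases h : ones.testBit (look EQ (len * i + s)) with
  | true => exact le_trans (b2n_le_one _) (by simp [b2n])
  | false =>
    cases h' : free.testBit (look EQ (len * i + s)) with
    | true => exact le_trans (b2n_le_one _) (by simp [b2n])
    | false => rw [h2 h h']; simp [b2n]

theorem sum_le_j (hl : ∀ i < K, ∀ s < len, look EQ (len * i + s) < K) {i j ones free : ℕ} (hi' : i < K)
    (hc : Cons K x ones free) (hj : free.testBit j = true) (hx : x j = false) :
    (∑ s ∈ Finset.range len, b2n (x (look EQ (len * i + s)))) + cJ EQ len i j ≤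
      cM EQ len i ones + cM EQ len i free := by
  unfold cM cJ
  rw [sumS_eq, sumS_eq, sumS_eq, ← Finset.sum_add_distrib, ← Finset.sum_add_distrib]
  apply Finset.sum_le_sum
  intro s hs
  rw [Finset.mem_range] at hs
  change _ + b2n (Nat.beq (look EQ (len * i + s)) j) ≤
    tb ones (look EQ (len * i + s)) + tb free (look EQ (len * i + s))
  rw [tb_eq, tb_eq]
  by_cases he : look EQ (len * i + s) = j
  · rw [he, hx, hj]
    have : Nat.beq j j = true := by rw [Nat.beq_eq]
    rw [this]
    simp [b2n]
  · have : Nat.beq (look EQ (len * i + s)) j = false := by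
      rw [Bool.eq_false_iff, ne_eq, Nat.beq_eq]; exact he
    rw [this]
    have h2 := (hc _ (hl i hi' s hs)).2
    cases h : ones.testBit (look EQ (len * i + s)) with
    | true =>
      have := b2n_le_one (x (look EQ (len * i + s)))
      simp [b2n] at this ⊢; omega
    | false =>
      cases h' : free.testBit (look EQ (len * i + s)) with
      | true =>
        have := b2n_le_one (x (look EQ (len * i + s)))
        simp [b2n] at this ⊢; omega
      | false => rw [h2 h h']

theorem rhs_eq (heq : ∀ i < K, ∑ s ∈ Finset.range len, b2n (x (look EQ (len * i + s))) =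
      if x i = true then hi else lo) {i ones free : ℕ} (hi' : i < K)
    (hc : Cons K x ones free) (hf : free.testBit i = false) :
    ∑ s ∈ Finset.range len, b2n (x (look EQ (len * i + s))) = rhs hi lo i ones := by
  rw [heq i hi']
  unfold rhs
  rw [tb_eq]
  cases h : ones.testBit i with
  | true => rw [(hc i hi').1 h]; rfl
  | false => rw [(hc i hi').2 h hf]; rfl

theorem xor_testBit_ne (m : ℕ) {j k : ℕ} (h : k ≠ j) : (Nat.xor m (Nat.pow 2 j)).testBit k = m.testBit k := by
  change (m ^^^ 2 ^ j).testBit k = _
  rw [Nat.testBit_xor, Nat.testBit_two_pow]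
  have : decide (j = k) = false := by simp [Ne.symm h]
  rw [this]; simp

theorem xor_testBit_self (m j : ℕ) : (Nat.xor m (Nat.pow 2 j)).testBit j = !(m.testBit j) := by
  change (m ^^^ 2 ^ j).testBit j = _
  rw [Nat.testBit_xor, Nat.testBit_two_pow]
  simp

theorem run_sound (allow : Bool) (SOL : ℕ)
    (hl : ∀ i < K, ∀ s < len, look EQ (len * i + s) < K)
    (heq : ∀ i < K, ∑ s ∈ Finset.range len, b2n (x (look EQ (len * i + s))) =
      if x i = true then hi else lo) (t : Cert) :
    ∀ ones free, run K len EQ hi lo allow SOL t ones free = true → Cons K x ones free →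
      allow = true ∧ ∀ j < K, x j = SOL.testBit j := by
  induction t with
  | zero i j t ih =>
    intro ones free h hc
    have h' : _ = true := h
    change (Bool.rec false
        (force (Nat.xor free (Nat.pow 2 j)) fun f => run K len EQ hi lo allow SOL t ones f)
        (Bool.rec false (Bool.rec false (Bool.rec false (Bool.rec false (Bool.rec false
          (Nat.ble (Nat.succ (rhs hi lo i ones)) (Nat.add (cM EQ len i ones) (cJ EQ len i j)))
          (Nat.beq (tb ones j) 0) : Bool) (Nat.beq (tb free j) 1) : Bool) (Nat.beq (tb free i) 0) : Bool)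
          (Nat.ble (Nat.succ j) K) : Bool) (Nat.ble (Nat.succ i) K) : Bool) : Bool) = true at h'
    simp only [and3, Bool.and_eq_true, Nat.ble_eq, Nat.beq_eq, force_eq] at h'
    obtain ⟨⟨hi', hj', hfi, hfj, hoj, hlt⟩, hrun⟩ := h'
    have b1 : free.testBit i = false := by
      rw [tb_eq] at hfi; cases hb : free.testBit i with
      | false => rfl
      | true => rw [hb] at hfi; exact absurd hfi (by decide)
    have b2 : ones.testBit j = false := by
      rw [tb_eq] at hoj; cases hb : ones.testBit j with
      | false => rfl
      | true => rw [hb] at hoj; exact absurd hoj (by decide)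
    have hxj : x j = false := by
      by_contra hx
      rw [Bool.not_eq_false] at hx
      have e1 := sum_ge_j hl hi' hc b2 hx
      have e2 := rhs_eq heq hi' hc b1
      have : rhs hi lo i ones + 1 ≤ cM EQ len i ones + cJ EQ len i j := hlt
      omega
    apply ih ones _ hrun
    intro k hk
    refine ⟨(hc k hk).1, fun h1 h2 => ?_⟩
    by_cases hkj : k = j
    · rw [hkj]; exact hxj
    · rw [xor_testBit_ne _ hkj] at h2
      exact (hc k hk).2 h1 h2
  | one i j t ih =>
    intro ones free h hc
    have h' : _ = true := h
    change (Bool.rec false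
        (force (Nat.xor ones (Nat.pow 2 j)) fun o => force (Nat.xor free (Nat.pow 2 j)) fun f =>
          run K len EQ hi lo allow SOL t o f)
        (Bool.rec false (Bool.rec false (Bool.rec false (Bool.rec false (Bool.rec false
          (Nat.ble (Nat.succ (Nat.add (cM EQ len i ones) (cM EQ len i free)))
            (Nat.add (rhs hi lo i ones) (cJ EQ len i j)))
          (Nat.beq (tb ones j) 0) : Bool) (Nat.beq (tb free j) 1) : Bool) (Nat.beq (tb free i) 0) : Bool)
          (Nat.ble (Nat.succ j) K) : Bool) (Nat.ble (Nat.succ i) K) : Bool) : Bool) = true at h'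
    simp only [and3, Bool.and_eq_true, Nat.ble_eq, Nat.beq_eq, force_eq] at h'
    obtain ⟨⟨hi', hj', hfi, hfj, hoj, hlt⟩, hrun⟩ := h'
    have b1 : free.testBit i = false := by
      rw [tb_eq] at hfi; cases hb : free.testBit i with
      | false => rfl
      | true => rw [hb] at hfi; exact absurd hfi (by decide)
    have b2 : ones.testBit j = false := by
      rw [tb_eq] at hoj; cases hb : ones.testBit j with
      | false => rfl
      | true => rw [hb] at hoj; exact absurd hoj (by decide)
    have b3 : free.testBit j = true := by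
      rw [tb_eq] at hfj; cases hb : free.testBit j with
      | true => rfl
      | false => rw [hb] at hfj; exact absurd hfj (by decide)
    have hxj : x j = true := by
      by_contra hx
      rw [Bool.not_eq_true] at hx
      have e1 := sum_le_j hl hi' hc b3 hx
      have e2 := rhs_eq heq hi' hc b1
      have : cM EQ len i ones + cM EQ len i free + 1 ≤ rhs hi lo i ones + cJ EQ len i j := hlt
      omega
    apply ih _ _ hrun
    intro k hk
    by_cases hkj : k = j
    · rw [hkj]
      refine ⟨fun _ => hxj, fun h1 _ => ?_⟩
      rw [xor_testBit_self, b2] at h1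
      exact absurd h1 (by decide)
    · rw [xor_testBit_ne _ hkj, xor_testBit_ne _ hkj]
      exact hc k hk
  | contra i =>
    intro ones free h hc
    have h' : _ = true := h
    change (Bool.rec false (Bool.rec false
        (Bool.rec (Nat.ble (Nat.succ (Nat.add (cM EQ len i ones) (cM EQ len i free))) (rhs hi lo i ones))
          true (Nat.ble (Nat.succ (rhs hi lo i ones)) (cM EQ len i ones)) : Bool)
        (Nat.beq (tb free i) 0) : Bool) (Nat.ble (Nat.succ i) K) : Bool) = true at h'
    simp only [and3, or3, Bool.and_eq_true, Bool.or_eq_true, Nat.ble_eq, Nat.beq_eq] at h'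
    obtain ⟨hi', hfi, hlt⟩ := h'
    have b1 : free.testBit i = false := by
      rw [tb_eq] at hfi; cases hb : free.testBit i with
      | false => rfl
      | true => rw [hb] at hfi; exact absurd hfi (by decide)
    exfalso
    have e1 := sum_ge hl hi' hc
    have e2 := sum_le hl hi' hc
    have e3 := rhs_eq heq hi' hc b1
    rcases hlt with h1 | h1
    · have : rhs hi lo i ones + 1 ≤ cM EQ len i ones := h1
      omega
    · have : cM EQ len i ones + cM EQ len i free + 1 ≤ rhs hi lo i ones := h1
      omega
  | branch j t1 t0 ih1 ih0 =>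
    intro ones free h hc
    have h' : _ = true := h
    change (Bool.rec false
        (force (Nat.xor free (Nat.pow 2 j)) fun f =>
          Bool.rec false (run K len EQ hi lo allow SOL t0 ones f)
            (force (Nat.xor ones (Nat.pow 2 j)) fun o => run K len EQ hi lo allow SOL t1 o f))
        (Bool.rec false (Bool.rec false (Nat.beq (tb ones j) 0) (Nat.beq (tb free j) 1) : Bool)
          (Nat.ble (Nat.succ j) K) : Bool) : Bool) = true at h'
    simp only [and3, Bool.and_eq_true, Nat.ble_eq, Nat.beq_eq, force_eq] at h'
    obtain ⟨⟨hj', hfj, hoj⟩, hr1, hr0⟩ := h'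
    have b2 : ones.testBit j = false := by
      rw [tb_eq] at hoj; cases hb : ones.testBit j with
      | false => rfl
      | true => rw [hb] at hoj; exact absurd hoj (by decide)
    cases hxj : x j with
    | true =>
      apply ih1 _ _ hr1
      intro k hk
      by_cases hkj : k = j
      · rw [hkj]
        refine ⟨fun _ => hxj, fun h1 _ => ?_⟩
        rw [xor_testBit_self, b2] at h1
        exact absurd h1 (by decide)
      · rw [xor_testBit_ne _ hkj, xor_testBit_ne _ hkj]
        exact hc k hk
    | false =>
      apply ih0 _ _ hr0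
      intro k hk
      refine ⟨(hc k hk).1, fun h1 h2 => ?_⟩
      by_cases hkj : k = j
      · rw [hkj]; exact hxj
      · rw [xor_testBit_ne _ hkj] at h2
        exact (hc k hk).2 h1 h2
  | sol =>
    intro ones free h hc
    have h' : _ = true := h
    change (Bool.rec false (Bool.rec false allow (Nat.beq ones SOL) : Bool) (Nat.beq free 0) : Bool) = true
      at h'
    simp only [and3, Bool.and_eq_true, Nat.beq_eq] at h'
    obtain ⟨h1, h2, h3⟩ := h'
    refine ⟨h3, fun j hj => ?_⟩
    cases hb : ones.testBit j with
    | true => rw [(hc j hj).1 hb, ← h2, hb]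
    | false => rw [(hc j hj).2 hb (by rw [h1]; simp), ← h2, hb]

/-- labels are in range -/
noncomputable def chkLab (K len EQ : ℕ) : Bool :=
  allB (fun i => allS (fun s => Nat.ble (Nat.succ (look EQ (Nat.add (Nat.mul len i) s))) K) len) K

theorem chkLab_spec (h : chkLab K len EQ = true) : ∀ i < K, ∀ s < len, look EQ (len * i + s) < K := by
  intro i hi s hs
  unfold chkLab at h
  rw [allB_iff] at h
  have h1 := h i hi
  rw [allS_iff] at h1
  have h2 := h1 s hs
  rw [Nat.ble_eq] at h2
  exact h2

/-- top level -/
theorem search_sound (allow : Bool) (SOL : ℕ) (t : Cert) (hlab : chkLab K len EQ = true)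
    (hrun : run K len EQ hi lo allow SOL t 0 (2 ^ K - 1) = true)
    (heq : ∀ i < K, ∑ s ∈ Finset.range len, b2n (x (look EQ (len * i + s))) =
      if x i = true then hi else lo) : allow = true ∧ ∀ j < K, x j = SOL.testBit j := by
  apply run_sound allow SOL (chkLab_spec hlab) heq t 0 _ hrun
  intro j hj
  refine ⟨fun h => by simp at h, fun _ h => ?_⟩
  rw [Nat.testBit_two_pow_sub_one] at h
  simp [hj] at h

end Cfsg.Agent.SporRec.R3.Search
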