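import Cfsg.Agent.SporRec.R3.SuzAut

/-! Any rank three configuration with the right parameters over `H` has group `Sp`. -/

set_option autoImplicit false

noncomputable section

namespace Cfsg.Agent.SporRec.R3.SuzFinal

open Finset
open Cfsg.Agent.SporRec.R3.Config Cfsg.Agent.SporRec.R3.YPart
open Cfsg.Agent.SporRec.R3.Kernel Cfsg.Agent.SporRec.R3.SuzData
open Cfsg.Agent.SporRec.R3.Scheme Cfsg.Agent.SporRec.R3.SchemeK Cfsg.Agent.SporRec.R3.SuzAct
open Cfsg.Agent.SporRec.R3.Orb Cfsg.Agent.SporRec.R3.SuzP1 Cfsg.Agent.SporRec.R3.SuzS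
open Cfsg.Agent.SporRec.R3.Glue Cfsg.Agent.SporRec.R3.SuzAut

variable {Ω : Type*} [Fintype Ω] [DecidableEq Ω]

theorem orb_Λ (C : Conf Ω Hs) {c : Ω} (hc : c ∈ C.Λ) : orb C.act ⊤ c = C.Λ := by
  ext x
  constructor
  · rintro ⟨p, _, rfl⟩; exact C.hΛ _ _ hc
  · intro hx
    obtain ⟨h, hh⟩ := C.tΛ c hc x hx
    exact ⟨h, trivial, hh⟩

/-- `Λ` is the set of points of the hexagon -/
theorem exists_M (hH : Nat.card Hs = 251596800) (C : Conf Ω Hs) (hΔ : C.Δ.card = 416)
    (hΛ : C.Λ.card = 1365) : Nonempty (YMap C ρP) := by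
  classical
  have : Finite Hs := Nat.finite_of_card_ne_zero (by rw [hH]; norm_num)
  obtain ⟨c, hc⟩ := C.neΛ
  have hP : Nat.card (stab C.act c) = 184320 := by
    have h1 := orb_card C.act ⊤ c
    rw [orb_Λ C hc, Set.ncard_coe_finset, hΛ, top_inf_eq, Nat.card_congr Subgroup.topEquiv.toEquiv, hH] at h1
    omega
  rcases parabolic hH _ hP with ⟨y, hy⟩ | ⟨l, hl⟩
  · exact ⟨ofStab C ρP hc y (fun z => by
      obtain ⟨u, hu⟩ := trP z
      obtain ⟨v, hv⟩ := trP y
      exact ⟨u * v⁻¹, by rw [map_mul, Equiv.Perm.mul_apply, ← hv, map_inv]; simp [hu]⟩) hy⟩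
  · exact (no_lines C hΔ (ofStab C ρL hc l (fun z => by
      obtain ⟨u, hu⟩ := trL z
      obtain ⟨v, hv⟩ := trL l
      exact ⟨u * v⁻¹, by rw [map_mul, Equiv.Perm.mul_apply, ← hv, map_inv]; simp [hu]⟩) hl)).elim

theorem S_act_inv {C : Conf Ω Hs} (M : YMap C ρP) (h : Hs) (d : Ω) (y : Fin 1365) :
    y ∈ M.S (C.act h d) ↔ ρP h⁻¹ y ∈ M.S d := by
  have := M.S_act h d (ρP h⁻¹ y)
  rw [ρ_inv_apply] at this
  exact this

theorem A_all {C : Conf Ω Hs} (hΔ : C.Δ.card = 416) (M : YMap C ρP) (h : Hs) (z : Fin 1365) :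
    z ∈ M.A (ρP h y0) ↔ cl (ρP h⁻¹ z) = 2 := by
  obtain ⟨_, _, hA⟩ := params C hΔ M stP
  rw [mem_A_rho, hA, mem_D]

section
variable (htr : ∀ x y : Fin 1782, ∃ g ∈ Sp, g x = y)
  (hst : ∀ g ∈ Sp, g o0 = o0 → ∃ h : Hs, ρO h = g)

theorem A_eq {C : Conf Ω Hs} (hΔ : C.Δ.card = 416) (M : YMap C ρP) (y : Fin 1365) :
    M.A y = (M0 htr hst).A y := by
  obtain ⟨h, rfl⟩ := trP y
  ext z
  rw [A_all hΔ M, A_all (C := C0 htr hst) card_Δ0 (M0 htr hst)]

/-- a point with the same neighbourhood as `d0` -/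
theorem exists_d {C : Conf Ω Hs} (hΔ : C.Δ.card = 416) (M : YMap C ρP) :
    ∃ d ∈ C.Δ, M.S d = (M0 htr hst).S d0 := by
  obtain ⟨d, hd, hS⟩ := points C hΔ M
  obtain ⟨d', hd', hS'⟩ := points (C0 htr hst) card_Δ0 (M0 htr hst)
  obtain ⟨k, hk⟩ := reachΔ d' hd'
  refine ⟨C.act k d, C.hΔ _ _ hd, ?_⟩
  ext y
  rw [S_act_inv, hS]
  have h1 := S_act_inv (M0 htr hst) k d' y
  change y ∈ (M0 htr hst).S (ρO k d') ↔ _ at h1
  rw [hk] at h1
  rw [h1, hS']

variable {htr hst}

theorem stab_iff {C : Conf Ω Hs} (hΔ : C.Δ.card = 416) (M : YMap C ρP) {d : Ω} (hd : d ∈ C.Δ)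
    (hS : M.S d = (M0 htr hst).S d0) (h : Hs) : C.act h d = d ↔ ρO h d0 = d0 := by
  have hd0 : d0 ∈ (C0 htr hst).Δ := by
    change d0 ∈ Δ0
    rw [mem_Δ0]; simp [d0]
  constructor
  · intro hh
    exact stab_sub (C := C) (M := M) (C' := C0 htr hst) (M' := M0 htr hst) hS hd0
      (fun e he he' => S_injective (C0 htr hst) card_Δ0 (M0 htr hst) he hd0 he') h hh
  · intro hh
    exact stab_sub (C := C0 htr hst) (M := M0 htr hst) (C' := C) (M' := M) hS.symm hd
      (fun e he he' => S_injective C hΔ M he hd he') h hh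

theorem act_eq_iff {C : Conf Ω Hs} (hΔ : C.Δ.card = 416) (M : YMap C ρP) {d : Ω} (hd : d ∈ C.Δ)
    (hS : M.S d = (M0 htr hst).S d0) (h k : Hs) : C.act h d = C.act k d ↔ ρO h d0 = ρO k d0 := by
  have h1 := stab_iff hΔ M hd hS (k⁻¹ * h)
  rw [map_mul, map_mul, Equiv.Perm.mul_apply, Equiv.Perm.mul_apply, map_inv, map_inv,
    Equiv.Perm.inv_eq_iff_eq, Equiv.Perm.inv_eq_iff_eq] at h1
  exact h1

theorem adj_char {C : Conf Ω Hs} (hΔ : C.Δ.card = 416) (M : YMap C ρP) {d : Ω} (hd : d ∈ C.Δ)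
    (hS : M.S d = (M0 htr hst).S d0) (h : Hs) :
    C.adj d (C.act h d) ↔ 317 ≤ (ρO h d0).val := by
  classical
  obtain ⟨_, hlam, _⟩ := params C hΔ M stP
  have hN : (C.Δ.filter fun z => C.adj d z).card = 100 := by rw [C.card_Δ_adj' hd, hlam]
  have hd0 : d0 ∈ Δ0 := by rw [mem_Δ0]; simp [d0]
  -- transport to `Δ0`
  have hφ : ∀ z ∈ C.Δ.filter (fun z => C.adj d z), ∃ k, C.act k d = z := by
    intro z hz
    rw [mem_filter] at hz
    exact C.tΔ d hd z hz.1
  choose! φ hφ' using hφ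
  let N' : Finset (Fin 1782) := (C.Δ.filter fun z => C.adj d z).image fun z => ρO (φ z) d0
  have hN'card : N'.card = 100 := by
    rw [← hN]
    apply card_image_of_injOn
    intro z hz w hw e
    have e' : ρO (φ z) d0 = ρO (φ w) d0 := e
    rw [← act_eq_iff hΔ M hd hS, hφ' z hz, hφ' w hw] at e'
    exact e'
  have hmem : ∀ k : Hs, ρO k d0 ∈ N' ↔ C.adj d (C.act k d) := by
    intro k
    constructor
    · intro hk
      rw [mem_image] at hk
      obtain ⟨z, hz, e⟩ := hk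
      rw [← act_eq_iff hΔ M hd hS, hφ' z hz] at e
      rw [← e]
      exact (mem_filter.1 hz).2
    · intro hk
      have hz : C.act k d ∈ C.Δ.filter (fun z => C.adj d z) := mem_filter.2 ⟨C.hΔ _ _ hd, hk⟩
      rw [mem_image]
      refine ⟨C.act k d, hz, ?_⟩
      rw [← act_eq_iff hΔ M hd hS, hφ' _ hz]
  -- no element below 317
  have hlow : ∀ x ∈ N', 317 ≤ x.val ∧ x.val < 417 := by
    intro x hx
    have hx' := hx
    rw [mem_image] at hx'
    obtain ⟨z, hz, rfl⟩ := hx'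
    have hxΔ := invΔ (φ z) d0 hd0
    rw [mem_Δ0] at hxΔ
    refine ⟨?_, hxΔ.2⟩
    by_contra hlt
    push Not at hlt
    -- x is not d0
    have hne : (ρO (φ z) d0).val ≠ 1 := by
      intro e
      have e' : ρO (φ z) d0 = d0 := Fin.ext e
      have h1 := (hmem (φ z)).1 hx
      rw [(stab_iff hΔ M hd hS _).2 e'] at h1
      exact C.not_adj_self _ h1
    have hsub : (Finset.univ.filter fun y : Fin 1782 => 2 ≤ y.val ∧ y.val < 2 + 315) ⊆ N' := by
      intro y hy
      rw [mem_filter] at hy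
      obtain ⟨u, hu, hu'⟩ := reach_of_chk tabO gen ρO hgenO _ 2 315 hreachJ1 (ρO (φ z) d0)
        (by omega) (by omega)
      obtain ⟨v, hv, hv'⟩ := reach_of_chk tabO gen ρO hgenO _ 2 315 hreachJ1 y hy.2.1 hy.2.2
      have e : ρO (v⁻¹ * u * φ z) d0 = y := by
        rw [map_mul, map_mul, Equiv.Perm.mul_apply, Equiv.Perm.mul_apply, map_inv,
          Equiv.Perm.inv_eq_iff_eq]
        exact Fin.ext (by rw [hu', hv'])
      rw [← e, hmem]
      have hfix : C.act (v⁻¹ * u) d = d := by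
        rw [stab_iff hΔ M hd hS]
        exact J_fix _ (Subgroup.mul_mem _ (Subgroup.inv_mem _ hv) hu)
      have h1 := C.adj_act (v⁻¹ * u) d (C.act (φ z) d)
      rw [hfix, ← Equiv.Perm.mul_apply, ← map_mul] at h1
      exact h1.2 ((hmem _).1 hx)
    have h315 : (Finset.univ.filter fun y : Fin 1782 => 2 ≤ y.val ∧ y.val < 2 + 315).card = 315 := by
      have : (Finset.univ.filter fun y : Fin 1782 => 2 ≤ y.val ∧ y.val < 2 + 315).card =
          ((Finset.range 1782).filter fun i => 2 ≤ i ∧ i < 2 + 315).card := by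
        rw [card_filter, card_filter, Finset.sum_range]
      have h2 : ((Finset.range 1782).filter fun i => 2 ≤ i ∧ i < 2 + 315) = Finset.Ico 2 317 := by
        ext i
        rw [mem_filter, Finset.mem_range, Finset.mem_Ico]
        omega
      rw [this, h2, Nat.card_Ico]
    have := card_le_card hsub
    rw [h315, hN'card] at this
    omega
  -- hence equality
  have h100 : (Finset.univ.filter fun y : Fin 1782 => 317 ≤ y.val ∧ y.val < 417).card = 100 := by
    have : (Finset.univ.filter fun y : Fin 1782 => 317 ≤ y.val ∧ y.val < 417).card =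
        ((Finset.range 1782).filter fun i => 317 ≤ i ∧ i < 417).card := by
      rw [card_filter, card_filter, Finset.sum_range]
    have h2 : ((Finset.range 1782).filter fun i => 317 ≤ i ∧ i < 417) = Finset.Ico 317 417 := by
      ext i
      rw [mem_filter, Finset.mem_range, Finset.mem_Ico]
      omega
    rw [this, h2, Nat.card_Ico]
  have heq : N' = Finset.univ.filter fun y : Fin 1782 => 317 ≤ y.val ∧ y.val < 417 :=
    eq_of_subset_of_card_le (fun x hx => mem_filter.2 ⟨mem_univ _, hlow x hx⟩) (by rw [h100, hN'card])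
  rw [← hmem h, heq, mem_filter]
  have hxΔ := invΔ h d0 hd0
  rw [mem_Δ0] at hxΔ
  exact ⟨fun h' => h'.2.1, fun h' => ⟨mem_univ _, h', hxΔ.2⟩⟩

variable (htr hst)

theorem card_G (hH : Nat.card Hs = 251596800) (C : Conf Ω Hs) (hΩ : Fintype.card Ω = 1782)
    (hinj : Function.Injective C.act) : Nat.card C.G = 448345497600 := by
  have h1 := orb_card (MonoidHom.id (Equiv.Perm Ω)) C.G C.α
  have h2 : orb (MonoidHom.id (Equiv.Perm Ω)) C.G C.α = Set.univ := by
    ext x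
    obtain ⟨g, hg, e⟩ := C.trans C.α x
    exact ⟨fun _ => trivial, fun _ => ⟨g, hg, e⟩⟩
  have h3 : Nat.card (C.G ⊓ stab (MonoidHom.id (Equiv.Perm Ω)) C.α : Subgroup (Equiv.Perm Ω)) =
      Nat.card Hs := by
    symm
    apply Nat.card_congr
    apply Equiv.ofBijective (fun h : Hs => (⟨C.act h, C.act_mem h, C.act_fix h⟩ :
      (C.G ⊓ stab (MonoidHom.id (Equiv.Perm Ω)) C.α : Subgroup (Equiv.Perm Ω))))
    constructor
    · intro h k e
      exact hinj (congrArg Subtype.val e)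
    · rintro ⟨g, hg, hg'⟩
      obtain ⟨h, hh⟩ := C.act_surj g hg hg'
      exact ⟨h, Subtype.ext hh⟩
  rw [h2, h3, Set.ncard_univ, Nat.card_eq_fintype_card, hH] at h1
  rw [← h1]
  calc Fintype.card Ω * 251596800 = 1782 * 251596800 := congrArg (· * 251596800) hΩ
    _ = 448345497600 := by norm_num

include hst htr in
theorem final (hH : Nat.card Hs = 251596800) (hSp : Nat.card Sp = 448345497600)
    (hsimple : IsSimpleGroup Sp) (C : Conf Ω Hs) (hΩ : Fintype.card Ω = 1782)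
    (hΔ : C.Δ.card = 416) (hΛ : C.Λ.card = 1365) (hinj : Function.Injective C.act) :
    Nonempty (C.G ≃* Sp) := by
  classical
  obtain ⟨M⟩ := exists_M hH C hΔ hΛ
  obtain ⟨d, hd, hS⟩ := exists_d htr hst hΔ M
  have hd0 : d0 ∈ (C0 htr hst).Δ := by
    change d0 ∈ Δ0
    rw [mem_Δ0]; simp [d0]
  obtain ⟨F, _, hF⟩ := glue (C := C) (M := M) (C' := C0 htr hst) (M' := M0 htr hst) hd hd0 hS
    (A_eq htr hst hΔ M)
    (fun h => by
      rw [adj_char hΔ M hd hS h]
      exact (adj_char (C := C0 htr hst) card_Δ0 (M0 htr hst) hd0 rfl h).symm)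
    (fun e he he' => S_injective C hΔ M he hd he')
    (fun e he he' => S_injective (C0 htr hst) card_Δ0 (M0 htr hst) he hd0 he')
  refine iso_of_bound C (C0 htr hst) F hF hsimple ?_ ?_ ?_
  · change Nat.card C.G = Nat.card Sp
    rw [hSp, card_G hH C hΩ hinj]
  · change 2 < Nat.card Sp
    rw [hSp]; norm_num
  · change Nat.card (Aut (C0 htr hst)) ≤ 2 * Nat.card Sp
    rw [hSp]
    exact card_Aut card_Δ0 (M0 htr hst) (Fintype.card_fin _)

end

end Cfsg.Agent.SporRec.R3.SuzFinal
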