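import Cfsg.Agent.SporRec.R3.Orb

/-! Two rank three configurations over the same `H` with the same neighbourhoods are isomorphic. -/

set_option autoImplicit false
set_option linter.unusedSectionVars false

namespace Cfsg.Agent.SporRec.R3.Glue

open Finset Cfsg.Agent.SporRec.R3.Config Cfsg.Agent.SporRec.R3.YPart

variable {H : Type*} [Group H] {Y : Type*} [Fintype Y] [DecidableEq Y] {ρ : H →* Equiv.Perm Y}
variable {Ω : Type*} [Fintype Ω] [DecidableEq Ω] {Ω' : Type*} [Fintype Ω'] [DecidableEq Ω']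

/-- automorphisms of the graph -/
def Aut (C : Conf Ω H) : Subgroup (Equiv.Perm Ω) where
  carrier := {t | ∀ x y, C.adj (t x) (t y) ↔ C.adj x y}
  one_mem' := fun x y => Iff.rfl
  mul_mem' := by
    intro s t hs ht x y
    rw [Equiv.Perm.mul_apply, Equiv.Perm.mul_apply, hs, ht]
  inv_mem' := by
    intro s hs x y
    rw [← hs (s⁻¹ x) (s⁻¹ y)]; simp

theorem mem_Aut {C : Conf Ω H} {t : Equiv.Perm Ω} :
    t ∈ Aut C ↔ ∀ x y, C.adj (t x) (t y) ↔ C.adj x y := Iff.rfl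

theorem G_le_Aut (C : Conf Ω H) : C.G ≤ Aut C := fun _ hg x y => C.adj_smul hg x y

/-- the correspondence -/
def R (C : Conf Ω H) (M : YMap C ρ) (d : Ω) (C' : Conf Ω' H) (M' : YMap C' ρ) (d' : Ω')
    (x : Ω) (x' : Ω') : Prop :=
  (x = C.α ∧ x' = C'.α) ∨ (∃ h, C.act h d = x ∧ C'.act h d' = x') ∨ (∃ y, M.f y = x ∧ M'.f y = x')

theorem R_symm {C : Conf Ω H} {M : YMap C ρ} {d : Ω} {C' : Conf Ω' H} {M' : YMap C' ρ} {d' : Ω'}
    {x : Ω} {x' : Ω'} (h : R C M d C' M' d' x x') : R C' M' d' C M d x' x := by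
  rcases h with ⟨h1, h2⟩ | ⟨h, h1, h2⟩ | ⟨y, h1, h2⟩
  · exact Or.inl ⟨h2, h1⟩
  · exact Or.inr (Or.inl ⟨h, h2, h1⟩)
  · exact Or.inr (Or.inr ⟨y, h2, h1⟩)

theorem R_total {C : Conf Ω H} {M : YMap C ρ} {d : Ω} {C' : Conf Ω' H} {M' : YMap C' ρ} {d' : Ω'}
    (hd : d ∈ C.Δ) (x : Ω) : ∃ x', R C M d C' M' d' x x' := by
  rcases C.cover x with h | h | h
  · exact ⟨_, Or.inl ⟨h, rfl⟩⟩
  · obtain ⟨k, hk⟩ := C.tΔ d hd x h
    exact ⟨_, Or.inr (Or.inl ⟨k, hk, rfl⟩)⟩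
  · obtain ⟨y, hy⟩ := M.surj x h
    exact ⟨_, Or.inr (Or.inr ⟨y, hy, rfl⟩)⟩

/-- equality of the stabilisers -/
theorem stab_sub {C : Conf Ω H} {M : YMap C ρ} {d : Ω} {C' : Conf Ω' H} {M' : YMap C' ρ} {d' : Ω'}
    (hS : M.S d = M'.S d') (hd' : d' ∈ C'.Δ)
    (hinj : ∀ e ∈ C'.Δ, M'.S e = M'.S d' → e = d') (h : H) (hh : C.act h d = d) : C'.act h d' = d' := by
  apply hinj _ (C'.hΔ h d' hd')
  ext y
  have e1 := M'.S_act h d' (ρ h⁻¹ y)
  rw [← Equiv.Perm.mul_apply, ← map_mul, mul_inv_cancel, map_one, Equiv.Perm.one_apply] at e1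
  rw [e1, ← hS]
  have e2 := M.S_act h d (ρ h⁻¹ y)
  rw [← Equiv.Perm.mul_apply, ← map_mul, mul_inv_cancel, map_one, Equiv.Perm.one_apply, hh] at e2
  exact e2.symm

theorem R_fun {C : Conf Ω H} {M : YMap C ρ} {d : Ω} {C' : Conf Ω' H} {M' : YMap C' ρ} {d' : Ω'}
    (hd : d ∈ C.Δ) (hS : M.S d = M'.S d') (hd' : d' ∈ C'.Δ)
    (hinj : ∀ e ∈ C'.Δ, M'.S e = M'.S d' → e = d')
    {x : Ω} {x' x'' : Ω'} (h1 : R C M d C' M' d' x x') (h2 : R C M d C' M' d' x x'') : x' = x'' := by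
  have hα : ∀ h, C.act h d ≠ C.α := fun h e => C.αΔ (e ▸ C.hΔ h d hd)
  have hβ : ∀ y, M.f y ≠ C.α := fun y e => C.αΛ (e ▸ M.mem y)
  have hγ : ∀ h y, C.act h d ≠ M.f y := fun h y e =>
    (Finset.disjoint_left.1 C.disj) (C.hΔ h d hd) (e ▸ M.mem y)
  rcases h1 with ⟨a1, a2⟩ | ⟨h, a1, a2⟩ | ⟨y, a1, a2⟩ <;>
    rcases h2 with ⟨b1, b2⟩ | ⟨k, b1, b2⟩ | ⟨z, b1, b2⟩
  · rw [a2, b2]
  · exact absurd (b1.trans a1) (hα k)
  · exact absurd (b1.trans a1) (hβ z)
  · exact absurd (a1.trans b1) (hα h)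
  · have e : C.act (k⁻¹ * h) d = d := by
      rw [map_mul, Equiv.Perm.mul_apply, a1, ← b1, map_inv]; simp
    have e' := stab_sub (C := C) (M := M) hS hd' hinj _ e
    rw [map_mul, Equiv.Perm.mul_apply, map_inv, Equiv.Perm.inv_eq_iff_eq] at e'
    rw [← a2, ← b2, e']
  · exact absurd (a1.trans b1.symm) (hγ h z)
  · exact absurd (a1.trans b1) (hβ y)
  · exact absurd (b1.trans a1.symm) (hγ k y)
  · have : y = z := M.inj (a1.trans b1.symm)
    rw [← a2, ← b2, this]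

theorem R_adj {C : Conf Ω H} {M : YMap C ρ} {d : Ω} {C' : Conf Ω' H} {M' : YMap C' ρ} {d' : Ω'}
    (hd : d ∈ C.Δ) (hd' : d' ∈ C'.Δ) (hS : M.S d = M'.S d') (hA : ∀ y, M.A y = M'.A y)
    (hN : ∀ h, C.adj d (C.act h d) ↔ C'.adj d' (C'.act h d'))
    {x y : Ω} {x' y' : Ω'} (h1 : R C M d C' M' d' x x') (h2 : R C M d C' M' d' y y') :
    C.adj x y ↔ C'.adj x' y' := by
  have key : ∀ (h : H) (z : Y), C.adj (C.act h d) (M.f z) ↔ C'.adj (C'.act h d') (M'.f z) := by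
    intro h z
    rw [← M.mem_S, ← M'.mem_S]
    have e1 := M'.S_act h d' (ρ h⁻¹ z)
    rw [← Equiv.Perm.mul_apply, ← map_mul, mul_inv_cancel, map_one, Equiv.Perm.one_apply] at e1
    have e2 := M.S_act h d (ρ h⁻¹ z)
    rw [← Equiv.Perm.mul_apply, ← map_mul, mul_inv_cancel, map_one, Equiv.Perm.one_apply] at e2
    rw [e1, e2, hS]
  have kΔ : ∀ h : H, C.adj C.α (C.act h d) ∧ C'.adj C'.α (C'.act h d') := fun h =>
    ⟨(C.adj_alpha _).2 (C.hΔ h d hd), (C'.adj_alpha _).2 (C'.hΔ h d' hd')⟩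
  have kΛ : ∀ z : Y, ¬ C.adj C.α (M.f z) ∧ ¬ C'.adj C'.α (M'.f z) := fun z =>
    ⟨fun e => (Finset.disjoint_left.1 C.disj) ((C.adj_alpha _).1 e) (M.mem z),
      fun e => (Finset.disjoint_left.1 C'.disj) ((C'.adj_alpha _).1 e) (M'.mem z)⟩
  rcases h1 with ⟨rfl, rfl⟩ | ⟨h, rfl, rfl⟩ | ⟨z, rfl, rfl⟩ <;>
    rcases h2 with ⟨rfl, rfl⟩ | ⟨k, rfl, rfl⟩ | ⟨w, rfl, rfl⟩
  · exact ⟨fun e => absurd e (C.not_adj_self _), fun e => absurd e (C'.not_adj_self _)⟩
  · exact ⟨fun _ => (kΔ k).2, fun _ => (kΔ k).1⟩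
  · exact ⟨fun e => absurd e (kΛ w).1, fun e => absurd e (kΛ w).2⟩
  · rw [C.adj_comm, C'.adj_comm]
    exact ⟨fun _ => (kΔ h).2, fun _ => (kΔ h).1⟩
  · have e1 := C.adj_act h⁻¹ (C.act h d) (C.act k d)
    have e2 := C'.adj_act h⁻¹ (C'.act h d') (C'.act k d')
    rw [← Equiv.Perm.mul_apply, ← map_mul, inv_mul_cancel, map_one, Equiv.Perm.one_apply,
      ← Equiv.Perm.mul_apply, ← map_mul] at e1 e2
    rw [← e1, ← e2]
    exact hN _
  · exact key h w
  · rw [C.adj_comm, C'.adj_comm]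
    exact ⟨fun e => absurd e (kΛ z).1, fun e => absurd e (kΛ z).2⟩
  · rw [C.adj_comm, C'.adj_comm]; exact key k z
  · rw [← M.mem_A, ← M'.mem_A, hA]

/-- the gluing theorem -/
theorem glue {C : Conf Ω H} {M : YMap C ρ} {d : Ω} {C' : Conf Ω' H} {M' : YMap C' ρ} {d' : Ω'}
    (hd : d ∈ C.Δ) (hd' : d' ∈ C'.Δ) (hS : M.S d = M'.S d') (hA : ∀ y, M.A y = M'.A y)
    (hN : ∀ h, C.adj d (C.act h d) ↔ C'.adj d' (C'.act h d'))
    (hinj : ∀ e ∈ C.Δ, M.S e = M.S d → e = d) (hinj' : ∀ e ∈ C'.Δ, M'.S e = M'.S d' → e = d') :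
    ∃ F : Ω ≃ Ω', F C.α = C'.α ∧ ∀ x y, C.adj x y ↔ C'.adj (F x) (F y) := by
  classical
  have t1 := fun x => R_total (M := M) (C' := C') (M' := M') (d' := d') hd x
  have t2 := fun x => R_total (M := M') (C' := C) (M' := M) (d' := d) hd' x
  refine ⟨⟨fun x => (t1 x).choose, fun x' => (t2 x').choose, fun x => ?_, fun x' => ?_⟩, ?_, ?_⟩
  · exact R_fun hd' hS.symm hd hinj (t2 _).choose_spec (R_symm (t1 x).choose_spec)
  · exact R_fun hd hS hd' hinj' (t1 _).choose_spec (R_symm (t2 x').choose_spec)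
  · exact R_fun hd hS hd' hinj' (t1 _).choose_spec (Or.inl ⟨rfl, rfl⟩)
  · intro x y
    exact R_adj hd hd' hS hA hN (t1 x).choose_spec (t1 y).choose_spec

/-- the conjugate of `C.G` -/
def conjG (C : Conf Ω H) (F : Ω ≃ Ω') : Subgroup (Equiv.Perm Ω') where
  carrier := {t | (F.trans (t.trans F.symm) : Equiv.Perm Ω) ∈ C.G}
  one_mem' := by
    change (F.trans ((1 : Equiv.Perm Ω').trans F.symm) : Equiv.Perm Ω) ∈ C.G
    have : (F.trans ((1 : Equiv.Perm Ω').trans F.symm) : Equiv.Perm Ω) = 1 := by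
      ext x; simp
    rw [this]; exact C.G.one_mem
  mul_mem' := by
    intro s t hs ht
    change (F.trans ((s * t : Equiv.Perm Ω').trans F.symm) : Equiv.Perm Ω) ∈ C.G
    have : (F.trans ((s * t : Equiv.Perm Ω').trans F.symm) : Equiv.Perm Ω) =
        (F.trans (s.trans F.symm) : Equiv.Perm Ω) * (F.trans (t.trans F.symm) : Equiv.Perm Ω) := by
      ext x; simp
    rw [this]; exact C.G.mul_mem hs ht
  inv_mem' := by
    intro s hs
    change (F.trans ((s⁻¹ : Equiv.Perm Ω').trans F.symm) : Equiv.Perm Ω) ∈ C.G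
    have : (F.trans ((s⁻¹ : Equiv.Perm Ω').trans F.symm) : Equiv.Perm Ω) =
        (F.trans (s.trans F.symm) : Equiv.Perm Ω)⁻¹ := by
      ext x
      simp only [Equiv.trans_apply]
      rw [Equiv.Perm.eq_inv_iff_eq]
      simp
    rw [this]; exact C.G.inv_mem hs

theorem mem_conjG {C : Conf Ω H} {F : Ω ≃ Ω'} {t : Equiv.Perm Ω'} :
    t ∈ conjG C F ↔ (F.trans (t.trans F.symm) : Equiv.Perm Ω) ∈ C.G := Iff.rfl

/-- the isomorphism with the conjugate -/
def conjEquiv (C : Conf Ω H) (F : Ω ≃ Ω') : C.G ≃* conjG C F where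
  toFun g := ⟨F.symm.trans ((g : Equiv.Perm Ω).trans F), by
    rw [mem_conjG]
    have : (F.trans ((F.symm.trans ((g : Equiv.Perm Ω).trans F)).trans F.symm) : Equiv.Perm Ω) = g := by
      ext x; simp
    rw [this]; exact g.2⟩
  invFun t := ⟨F.trans ((t : Equiv.Perm Ω').trans F.symm), t.2⟩
  left_inv g := Subtype.ext (by ext x; simp)
  right_inv t := Subtype.ext (by ext x; simp)
  map_mul' g g' := Subtype.ext (by ext x; simp)

theorem conjG_le (C : Conf Ω H) (C' : Conf Ω' H) (F : Ω ≃ Ω')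
    (hF : ∀ x y, C.adj x y ↔ C'.adj (F x) (F y)) : conjG C F ≤ Aut C' := by
  intro t ht x y
  rw [mem_conjG] at ht
  have h := C.adj_smul ht (F.symm x) (F.symm y)
  simp only [Equiv.trans_apply, Equiv.apply_symm_apply] at h
  rw [hF, hF (F.symm x), Equiv.apply_symm_apply, Equiv.apply_symm_apply, Equiv.apply_symm_apply,
    Equiv.apply_symm_apply] at h
  exact h

/-- conclusion: if the automorphism group is small and `C'.G` is simple, the groups are isomorphic -/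
theorem iso_of_bound (C : Conf Ω H) (C' : Conf Ω' H) (F : Ω ≃ Ω')
    (hF : ∀ x y, C.adj x y ↔ C'.adj (F x) (F y)) (hs : IsSimpleGroup C'.G)
    (hcard : Nat.card C.G = Nat.card C'.G) (h2 : 2 < Nat.card C'.G)
    (hA : Nat.card (Aut C') ≤ 2 * Nat.card C'.G) : Nonempty (C.G ≃* C'.G) := by
  have hle := conjG_le C C' F hF
  have hle' := G_le_Aut C'
  have hc1 : Nat.card (conjG C F) = Nat.card C'.G := by
    rw [← hcard]; exact (Nat.card_congr (conjEquiv C F).toEquiv).symm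
  have hpos : 0 < Nat.card C'.G := by omega
  have hidx : (conjG C F).relIndex (Aut C') ≤ 2 := by
    have h1 := Subgroup.card_mul_index ((conjG C F).subgroupOf (Aut C'))
    have h3 : Nat.card ((conjG C F).subgroupOf (Aut C')) = Nat.card C'.G := by
      rw [← hc1]; exact Nat.card_congr (Subgroup.subgroupOfEquivOfLe hle).toEquiv
    rw [h3] at h1
    change ((conjG C F).subgroupOf (Aut C')).index ≤ 2
    by_contra hc
    push Not at hc
    have : Nat.card C'.G * 3 ≤ Nat.card C'.G * ((conjG C F).subgroupOf (Aut C')).index :=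
      Nat.mul_le_mul_left _ hc
    rw [h1] at this
    omega
  have hne : (conjG C F).relIndex (Aut C') ≠ 0 := by
    change ((conjG C F).subgroupOf (Aut C')).index ≠ 0
    exact Subgroup.index_ne_zero_of_finite
  have hidx2 : (conjG C F).relIndex C'.G ≤ 2 :=
    le_trans (Subgroup.relIndex_le_of_le_right hle' hne) hidx
  have hne2 : (conjG C F).relIndex C'.G ≠ 0 := by
    change ((conjG C F).subgroupOf C'.G).index ≠ 0
    exact Subgroup.index_ne_zero_of_finite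
  set N := (conjG C F).subgroupOf C'.G with hN
  have hNi : N.index ≤ 2 := hidx2
  have hNi0 : N.index ≠ 0 := hne2
  have hnorm : N.Normal := by
    by_cases h1 : N.index = 2
    · exact Subgroup.normal_of_index_eq_two h1
    · have : N = ⊤ := Subgroup.index_eq_one.1 (by omega)
      rw [this]; infer_instance
  have htop : N = ⊤ := by
    rcases hs.eq_bot_or_eq_top_of_normal N hnorm with h | h
    · exfalso
      rw [h, Subgroup.index_bot] at hNi
      omega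
    · exact h
  have hsub : C'.G ≤ conjG C F := Subgroup.subgroupOf_eq_top.1 htop
  have heq : C'.G = conjG C F := by
    apply SetLike.coe_injective
    exact Set.eq_of_subset_of_ncard_le hsub (by
      have : (conjG C F : Set (Equiv.Perm Ω')).ncard = Nat.card (conjG C F) := rfl
      have h' : (C'.G : Set (Equiv.Perm Ω')).ncard = Nat.card C'.G := rfl
      rw [this, h', hc1]) (Set.toFinite _)
  exact ⟨(conjEquiv C F).trans (MulEquiv.subgroupCongr heq.symm)⟩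

end Cfsg.Agent.SporRec.R3.Glue
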