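import Cfsg.Agent.SporRec.R3.SuzS
import Cfsg.Agent.SporRec.R3.Glue

/-! The standard configuration on 1782 points and the bound for its automorphism group. -/

set_option autoImplicit false
set_option exponentiation.threshold 2000

noncomputable section

namespace Cfsg.Agent.SporRec.R3.SuzAut

open Finset
open Cfsg.Agent.SporRec.R3.Config Cfsg.Agent.SporRec.R3.YPart
open Cfsg.Agent.SporRec.R3.Kernel Cfsg.Agent.SporRec.R3.Search Cfsg.Agent.SporRec.R3.SuzData
open Cfsg.Agent.SporRec.R3.Base Cfsg.Agent.SporRec.R3.Base.Geo Cfsg.Agent.SporRec.R3.Geom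
open Cfsg.Agent.SporRec.R3.Scheme Cfsg.Agent.SporRec.R3.SchemeK Cfsg.Agent.SporRec.R3.SuzAct
open Cfsg.Agent.SporRec.R3.Orb Cfsg.Agent.SporRec.R3.SuzP1 Cfsg.Agent.SporRec.R3.SuzS
open Cfsg.Agent.SporRec.R3.Glue

/-! ### collinearity from common neighbours -/

section
variable {Ω : Type*} [Fintype Ω] [DecidableEq Ω] (C : Conf Ω Hs) (hΔ : C.Δ.card = 416) (M : YMap C ρP)

/-- third root word -/
def r3 : List Gen := nth rP 2
theorem r3a : Nat.beq (evalW tabP r3 0) 341 = true := by decide +kernel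
theorem r3c : Nat.beq (cntC 1365 tabP cls 2 (winv id r3)) 75 = true := by decide +kernel

include hΔ in
theorem inter_class (w : List Gen) (r c p : ℕ) (_hr : r < 1365) (hw : evalW tabP w 0 = r) (hc : cls r = c)
    (hp : cntC 1365 tabP cls 2 (winv id w) = p) (z : Fin 1365) (hz : cl z = c) :
    (M.A y0 ∩ M.A z).card = p := by
  obtain ⟨_, _, hA⟩ := params C hΔ M stP
  have h1 : cl (ρP (gw gen w) y0) = c := by
    unfold cl
    rw [evalW_spec gen ρP tabP hgenP]
    change cls (evalW tabP w 0) = _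
    rw [hw, hc]
  have h2 := m_class M stP hA (c := c) (p := p) (gw gen w) h1 (by
    rw [← hp]; exact cntC_spec tabP gen ρP hgenP id gen_inv cls 2 w) z hz
  have h3 := M.m_add y0 z
  omega

include hΔ in
theorem nb_iff_card (y z : Fin 1365) :
    (geo.nb y.val).testBit z.val = true ↔ y = z ∨ (M.A y ∩ M.A z).card = 48 := by
  -- base case
  have base : ∀ z : Fin 1365, (geo.nb y0.val).testBit z.val = true ↔
      y0 = z ∨ (M.A y0 ∩ M.A z).card = 48 := by
    intro z
    have e0 : (geo.nb y0.val).testBit z.val = true ↔ z.val ≤ 20 := nb0_iff z.val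
    rw [e0]
    have b1 : evalW tabP sideP.r1 0 = 1 := by have := sideP.h1; rw [Nat.beq_eq] at this; exact this
    have b2 : evalW tabP sideP.r2 0 = 21 := by have := sideP.h2; rw [Nat.beq_eq] at this; exact this
    have b3 : evalW tabP r3 0 = 341 := by have := r3a; rw [Nat.beq_eq] at this; exact this
    have c1 : cntC 1365 tabP cls 2 (winv id sideP.r1) = 48 := by
      have := sideP.c1; rw [Nat.beq_eq] at this; exact this
    have c2 : cntC 1365 tabP cls 2 (winv id sideP.r2) = 76 := by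
      have := sideP.c2; rw [Nat.beq_eq] at this; exact this
    have c3 : cntC 1365 tabP cls 2 (winv id r3) = 75 := by
      have := r3c; rw [Nat.beq_eq] at this; exact this
    rcases cls_cases z.val with h | h | h | h
    · have : y0 = z := Fin.ext h.1.symm
      exact ⟨fun _ => Or.inl this, fun _ => by omega⟩
    · have := inter_class C hΔ M sideP.r1 1 1 48 (by norm_num) b1
        (by rcases cls_cases 1 with h' | h' | h' | h' <;> omega) c1 z h.2.2
      exact ⟨fun _ => Or.inr this, fun _ => h.2.1⟩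
    · have := inter_class C hΔ M sideP.r2 21 2 76 (by norm_num) b2
        (by rcases cls_cases 21 with h' | h' | h' | h' <;> omega) c2 z h.2.2
      refine ⟨fun h' => by omega, fun h' => ?_⟩
      rcases h' with h' | h'
      · rw [← h'] at h; exact absurd h.1 (by simp [y0])
      · omega
    · have := inter_class C hΔ M r3 341 3 75 (by norm_num) b3
        (by rcases cls_cases 341 with h' | h' | h' | h' <;> omega) c3 z h.2
      refine ⟨fun h' => by omega, fun h' => ?_⟩
      rcases h' with h' | h'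
      · rw [← h'] at h; exact absurd h.1 (by simp [y0])
      · omega
  obtain ⟨h, hh⟩ := trP y
  have h1 := nbInv h y0 (ρP h⁻¹ z)
  rw [ρ_inv_apply, hh] at h1
  rw [← h1, base]
  have h2 := M.A_inter_act h y0 (ρP h⁻¹ z)
  rw [ρ_inv_apply, hh] at h2
  rw [h2]
  constructor
  · rintro (h3 | h3)
    · left; rw [← hh, h3, ρ_inv_apply]
    · exact Or.inr h3
  · rintro (h3 | h3)
    · left; rw [← h3, ← hh, ρ_inv_apply']
    · exact Or.inr h3

end

/-! ### the standard configuration -/

theorem ρO_mem (h : Hs) : ρO h ∈ Sp := by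
  refine Hs_induction (p := fun h => ρO h ∈ Sp) ?_ ?_ ?_ h
  · intro x
    exact Subgroup.subset_closure (Set.mem_insert_of_mem _ ⟨x, rfl⟩)
  · rw [map_one]; exact Sp.one_mem
  · intro u v hu hv
    rw [map_mul]; exact Sp.mul_mem hu hv

theorem card_Δ0 : Δ0.card = 416 := by
  have : Δ0.card = ((Finset.range 1782).filter fun i => 1 ≤ i ∧ i < 417).card := by
    rw [Δ0, card_filter, card_filter, Finset.sum_range]
  have h2 : ((Finset.range 1782).filter fun i => 1 ≤ i ∧ i < 417) = Finset.Ico 1 417 := by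
    ext i
    rw [mem_filter, Finset.mem_range, Finset.mem_Ico]
    omega
  rw [this, h2, Nat.card_Ico]

theorem card_Λ0 : Λ0.card = 1365 := by
  have : Λ0 = univ.map ⟨emb, emb_inj⟩ := by
    ext x
    simp only [mem_map, mem_univ, true_and, Function.Embedding.coeFn_mk]
    exact ⟨fun h => Λ0_emb x h, fun ⟨y, hy⟩ => hy ▸ emb_mem y⟩
  rw [this, card_map, card_univ, Fintype.card_fin]

/-- the standard configuration -/
def C0 (htr : ∀ x y : Fin 1782, ∃ g ∈ Sp, g x = y)
    (hst : ∀ g ∈ Sp, g o0 = o0 → ∃ h : Hs, ρO h = g) : Conf (Fin 1782) Hs where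
  G := Sp
  α := o0
  act := ρO
  Δ := Δ0
  Λ := Λ0
  trans := htr
  act_mem := ρO_mem
  act_fix := ρO_zero
  act_surj := hst
  hΔ h x hx := invΔ h x hx
  hΛ h x hx := invΛ h x hx
  tΔ x hx y hy := transΔ x y hx hy
  tΛ x hx y hy := transΛ x y hx hy
  cover x := by
    by_cases h0 : x.val = 0
    · left; exact Fin.ext h0
    · right
      by_cases h1 : x.val < 417
      · left; rw [mem_Δ0]; omega
      · right; rw [mem_Λ0]; omega
  αΔ h := by rw [mem_Δ0] at h; simp [o0] at h
  αΛ h := by rw [mem_Λ0] at h; simp [o0] at h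
  disj := by
    rw [Finset.disjoint_left]
    intro x hx hx'
    rw [mem_Δ0] at hx
    rw [mem_Λ0] at hx'
    omega
  neΔ := ⟨d0, by rw [mem_Δ0]; simp [d0]⟩
  neΛ := ⟨emb y0, emb_mem _⟩
  card_ne := by rw [card_Δ0, card_Λ0]; norm_num

/-- its parametrisation -/
def M0 (htr : ∀ x y : Fin 1782, ∃ g ∈ Sp, g x = y)
    (hst : ∀ g ∈ Sp, g o0 = o0 → ∃ h : Hs, ρO h = g) : YMap (C0 htr hst) ρP where
  f := emb
  inj := emb_inj
  mem := emb_mem
  surj := Λ0_emb
  eqv h y := (ρO_emb h y).symm

/-! ### the bound -/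

theorem S_injective {Ω : Type*} [Fintype Ω] [DecidableEq Ω] (C : Conf Ω Hs) (hΔ : C.Δ.card = 416)
    (M : YMap C ρP) {d d' : Ω} (hd : d ∈ C.Δ) (hd' : d' ∈ C.Δ) (h : M.S d = M.S d') : d = d' := by
  obtain ⟨h1, h2, _⟩ := params C hΔ M stP
  exact M.S_inj (s := 315) (by omega) (by omega) (by omega) hd hd' h

/-- collinearity preserving permutations -/
def PresG : Subgroup (Equiv.Perm (Fin 1365)) where
  carrier := {t | ∀ x y : Fin 1365, (geo.nb x.val).testBit y.val = true ↔
    (geo.nb (t x).val).testBit (t y).val = true}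
  one_mem' := fun x y => Iff.rfl
  mul_mem' := by
    intro s t hs ht x y
    rw [ht x y, hs (t x) (t y)]; rfl
  inv_mem' := by
    intro s hs x y
    rw [hs (s⁻¹ x) (s⁻¹ y)]; simp

theorem chk1 : geo.chkChoices Fend choices (Nat.pow 2 0) = true := by decide +kernel
theorem chk2 : geo.chkRun clos closN Fend = true := by decide +kernel
theorem chk3 : Nat.ble (Nat.succ Fend) (2 ^ 1365) = true := by decide +kernel
theorem chk4 : ∀ s ∈ choices, s.1 < 1365 ∧ s.1 ∈ s.2.2 := by decide +kernel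
theorem chk5 : prodLen choices = 368640 := by decide +kernel

theorem card_PresG : Nat.card PresG ≤ 503193600 := by
  have h := card_bound (g := geo) (nl := 1365) hgeo PresG (fun t ht => ht) y0 choices Fend
    chk4 chk1 (by have := chk3; rw [Nat.ble_eq] at this; exact this) clos closN chk2
  rw [chk5] at h
  exact h

section
variable {Ω : Type*} [Fintype Ω] [DecidableEq Ω] {C : Conf Ω Hs}

/-- the stabiliser of the base point in the automorphism group -/
def AutSt (C : Conf Ω Hs) : Subgroup (Equiv.Perm Ω) where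
  carrier := {t | t ∈ Aut C ∧ t C.α = C.α}
  one_mem' := ⟨Subgroup.one_mem _, rfl⟩
  mul_mem' := by
    rintro s t ⟨h1, h2⟩ ⟨h3, h4⟩
    exact ⟨Subgroup.mul_mem _ h1 h3, by rw [Equiv.Perm.mul_apply, h4, h2]⟩
  inv_mem' := by
    rintro s ⟨h1, h2⟩
    exact ⟨Subgroup.inv_mem _ h1, by rw [Equiv.Perm.inv_eq_iff_eq, h2]⟩

theorem AutSt_Δ {t : Equiv.Perm Ω} (ht : t ∈ AutSt C) {x : Ω} : t x ∈ C.Δ ↔ x ∈ C.Δ := by
  have := ht.1 C.α x
  rw [ht.2, C.adj_alpha, C.adj_alpha] at this
  exact this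

theorem AutSt_Λ {t : Equiv.Perm Ω} (ht : t ∈ AutSt C) {x : Ω} (hx : x ∈ C.Λ) : t x ∈ C.Λ := by
  rcases C.cover (t x) with h | h | h
  · exfalso
    have : x = C.α := by
      apply t.injective
      rw [h, ht.2]
    exact C.αΛ (this ▸ hx)
  · exfalso
    rw [AutSt_Δ ht] at h
    exact (Finset.disjoint_left.1 C.disj) h hx
  · exact h

variable (hΔ : C.Δ.card = 416) (M : YMap C ρP)

/-- the induced map on the hexagon points -/
def ind (t : Equiv.Perm Ω) (ht : t ∈ AutSt C) (y : Fin 1365) : Fin 1365 :=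
  (M.surj _ (AutSt_Λ ht (M.mem y))).choose

theorem ind_spec (t : Equiv.Perm Ω) (ht : t ∈ AutSt C) (y : Fin 1365) :
    M.f (ind M t ht y) = t (M.f y) := (M.surj _ (AutSt_Λ ht (M.mem y))).choose_spec

/-- the induced permutation -/
def indP (t : Equiv.Perm Ω) (ht : t ∈ AutSt C) : Equiv.Perm (Fin 1365) where
  toFun := ind M t ht
  invFun := ind M t⁻¹ ((AutSt C).inv_mem ht)
  left_inv y := M.inj (by rw [ind_spec, ind_spec]; simp)
  right_inv y := M.inj (by rw [ind_spec, ind_spec]; simp)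

theorem indP_spec (t : Equiv.Perm Ω) (ht : t ∈ AutSt C) (y : Fin 1365) :
    M.f (indP M t ht y) = t (M.f y) := ind_spec M t ht y

include hΔ in
theorem indP_mem (t : Equiv.Perm Ω) (ht : t ∈ AutSt C) : indP M t ht ∈ PresG := by
  have hA : ∀ y z, indP M t ht z ∈ M.A (indP M t ht y) ↔ z ∈ M.A y := by
    intro y z
    rw [M.mem_A, M.mem_A, indP_spec, indP_spec]
    exact ht.1 _ _
  have hc : ∀ y z, (M.A (indP M t ht y) ∩ M.A (indP M t ht z)).card = (M.A y ∩ M.A z).card := by
    intro y z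
    have : M.A (indP M t ht y) ∩ M.A (indP M t ht z) =
        (M.A y ∩ M.A z).map (indP M t ht).toEmbedding := by
      ext w
      rw [Finset.mem_map_equiv, mem_inter, mem_inter, ← hA y, ← hA z]
      simp
    rw [this, card_map]
  intro x y
  rw [nb_iff_card C hΔ M, nb_iff_card C hΔ M, hc]
  constructor
  · rintro (h | h)
    · left; rw [h]
    · exact Or.inr h
  · rintro (h | h)
    · left; exact (indP M t ht).injective h
    · exact Or.inr h

include hΔ in
theorem indP_inj {s t : Equiv.Perm Ω} (hs : s ∈ AutSt C) (ht : t ∈ AutSt C)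
    (h : indP M s hs = indP M t ht) : s = t := by
  have hΛ : ∀ x ∈ C.Λ, s x = t x := by
    intro x hx
    obtain ⟨y, rfl⟩ := M.surj x hx
    rw [← indP_spec M s hs, ← indP_spec M t ht, h]
  ext x
  rcases C.cover x with h1 | h1 | h1
  · rw [h1, hs.2, ht.2]
  · apply S_injective C hΔ M ((AutSt_Δ hs).2 h1) ((AutSt_Δ ht).2 h1)
    ext y
    have key : ∀ {u : Equiv.Perm Ω} (hu : u ∈ AutSt C), y ∈ M.S (u x) ↔
        (indP M u hu)⁻¹ y ∈ M.S x := by
      intro u hu
      rw [M.mem_S, M.mem_S, ← hu.1 x, ← indP_spec M u hu]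
      simp
    rw [key hs, key ht, h]
  · exact hΛ x h1

include hΔ M in
theorem card_AutSt : Nat.card (AutSt C) ≤ 503193600 := by
  refine le_trans ?_ card_PresG
  apply Nat.card_le_card_of_injective (fun t : AutSt C => (⟨indP M t t.2, indP_mem hΔ M t t.2⟩ : PresG))
  intro s t h
  have h1 : indP M s s.2 = indP M t t.2 := congrArg Subtype.val h
  exact Subtype.ext (indP_inj hΔ M s.2 t.2 h1)

include hΔ M in
theorem card_Aut (hΩ : Fintype.card Ω = 1782) : Nat.card (Aut C) ≤ 896690995200 := by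
  have h1 := orb_card (MonoidHom.id (Equiv.Perm Ω)) (Aut C) C.α
  have h2 : Nat.card (Aut C ⊓ stab (MonoidHom.id (Equiv.Perm Ω)) C.α : Subgroup (Equiv.Perm Ω)) =
      Nat.card (AutSt C) := rfl
  have h3 : (orb (MonoidHom.id (Equiv.Perm Ω)) (Aut C) C.α).ncard ≤ 1782 := by
    have h4 : (orb (MonoidHom.id (Equiv.Perm Ω)) (Aut C) C.α).ncard ≤ (Set.univ : Set Ω).ncard :=
      Set.ncard_le_ncard (Set.subset_univ _) (Set.toFinite _)
    rw [Set.ncard_univ, Nat.card_eq_fintype_card] at h4
    exact h4.trans hΩ.le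
  rw [← h1, h2]
  calc _ ≤ 1782 * 503193600 := Nat.mul_le_mul h3 (card_AutSt hΔ M)
    _ = 896690995200 := by norm_num

end

end Cfsg.Agent.SporRec.R3.SuzAut
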