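import Cfsg.Prelude.Def_Spor_Suz
import Cfsg.Agent.SporRec.R3.SuzData

/-!
The permutation representation of the presented Suzuki sporadic group on 1782 points (cosets of the subgroup generated by a, ..., f), checked by kernel computation on packed tables.
-/

set_option autoImplicit false
set_option linter.unusedSimpArgs false

namespace Cfsg.Agent.SporRec.R3.SuzRel

open Cfsg.Spor Cfsg.Agent.SporRec.R3

/-- Entry `i` of a packed table (12 bits per entry). -/
def app (t i : ℕ) : ℕ := Nat.land (Nat.shiftRight t (Nat.mul 12 i)) 4095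

/-- `f` holds on `[s, s + 2^d)`. -/
def allP (f : ℕ → Bool) (d : ℕ) : ℕ → Bool :=
  Nat.rec (motive := fun _ => ℕ → Bool) (fun s => f s)
    (fun k ih s => Bool.and (ih s) (ih (Nat.add s (Nat.pow 2 k)))) d

theorem allP_zero (f : ℕ → Bool) (s : ℕ) : allP f 0 s = f s := rfl

theorem allP_succ (f : ℕ → Bool) (d s : ℕ) :
    allP f (d + 1) s = (allP f d s && allP f d (s + 2 ^ d)) := rfl

theorem allP_spec (f : ℕ → Bool) (d : ℕ) : ∀ s, allP f d s = true →
    ∀ i, s ≤ i → i < s + 2 ^ d → f i = true := by
  induction d with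
  | zero =>
    intro s h i h1 h2
    have : i = s := by simp at h2; omega
    subst this
    exact h
  | succ d ih =>
    intro s h i h1 h2
    rw [allP_succ, Bool.and_eq_true] at h
    rw [pow_succ] at h2
    by_cases h3 : i < s + 2 ^ d
    · exact ih s h.1 i h1 h3
    · exact ih _ h.2 i (by omega) (by omega)

/-- The table of a generator. -/
noncomputable def tab : Suz.Gen → ℕ := fun x => Suz.Gen.rec (motive := fun _ => ℕ) SuzData.Oa SuzData.Ob SuzData.Oc SuzData.Od SuzData.Oe SuzData.Of SuzData.Og x

/-- Action of a word (first letter acts last) on a point. -/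
noncomputable def tr (w : List Suz.Gen) (i : ℕ) : ℕ := List.rec (motive := fun _ => ℕ) i (fun x _ ih => app (tab x) ih) w

theorem tr_nil (i : ℕ) : tr [] i = i := rfl
theorem tr_cons (x : Suz.Gen) (w : List Suz.Gen) (i : ℕ) : tr (x :: w) i = app (tab x) (tr w i) := rfl

/-- Check that the word `w` fixes all points. -/
noncomputable def chk (w : List Suz.Gen) : Bool :=
  allP (fun i => Bool.or (Nat.ble 1782 i) (Nat.beq (tr w i) i)) 12 0

theorem chk_spec {w : List Suz.Gen} (h : chk w = true) {i : ℕ} (hi : i < 1782) : tr w i = i := by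
  have h1 := allP_spec _ 12 0 h i (Nat.zero_le _) (by norm_num; omega)
  rw [Bool.or_eq_true] at h1
  rcases h1 with h1 | h1
  · have := Nat.le_of_ble_eq_true h1
    omega
  · exact Nat.eq_of_beq_eq_true h1

/-- Check that a table maps `[0, 1782)` into itself. -/
noncomputable def bnd (x : Suz.Gen) : Bool :=
  allP (fun i => Bool.or (Nat.ble 1782 i) (Nat.ble (app (tab x) i) 1781)) 12 0

theorem bnd_spec {x : Suz.Gen} (h : bnd x = true) {i : ℕ} (hi : i < 1782) : app (tab x) i < 1782 := by
  have h1 := allP_spec _ 12 0 h i (Nat.zero_le _) (by norm_num; omega)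
  rw [Bool.or_eq_true] at h1
  rcases h1 with h1 | h1
  · have := Nat.le_of_ble_eq_true h1
    omega
  · have := Nat.le_of_ble_eq_true h1
    omega

theorem bnd_a : bnd .a = true := by decide +kernel
theorem bnd_b : bnd .b = true := by decide +kernel
theorem bnd_c : bnd .c = true := by decide +kernel
theorem bnd_d : bnd .d = true := by decide +kernel
theorem bnd_e : bnd .e = true := by decide +kernel
theorem bnd_f : bnd .f = true := by decide +kernel
theorem bnd_g : bnd .g = true := by decide +kernel
theorem inv_a : chk [.a, .a] = true := by decide +kernel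
theorem inv_b : chk [.b, .b] = true := by decide +kernel
theorem inv_c : chk [.c, .c] = true := by decide +kernel
theorem inv_d : chk [.d, .d] = true := by decide +kernel
theorem inv_e : chk [.e, .e] = true := by decide +kernel
theorem inv_f : chk [.f, .f] = true := by decide +kernel
theorem inv_g : chk [.g, .g] = true := by decide +kernel
theorem chk_ab : chk [.a, .b, .a, .b, .a, .b, .a, .b, .a, .b] = true := by decide +kernel
theorem chk_ac : chk [.a, .c, .a, .c] = true := by decide +kernel
theorem chk_ad : chk [.a, .d, .a, .d] = true := by decide +kernel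
theorem chk_ae : chk [.a, .e, .a, .e] = true := by decide +kernel
theorem chk_af : chk [.a, .f, .a, .f] = true := by decide +kernel
theorem chk_ag : chk [.a, .g, .a, .g] = true := by decide +kernel
theorem chk_bc : chk [.b, .c, .b, .c, .b, .c] = true := by decide +kernel
theorem chk_bd : chk [.b, .d, .b, .d] = true := by decide +kernel
theorem chk_be : chk [.b, .e, .b, .e] = true := by decide +kernel
theorem chk_bf : chk [.b, .f, .b, .f, .b, .f] = true := by decide +kernel
theorem chk_bg : chk [.b, .g, .b, .g, .b, .g] = true := by decide +kernel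
theorem chk_cd : chk [.c, .d, .c, .d, .c, .d, .c, .d, .c, .d, .c, .d, .c, .d, .c, .d] = true := by decide +kernel
theorem chk_ce : chk [.c, .e, .c, .e] = true := by decide +kernel
theorem chk_cf : chk [.c, .f, .c, .f] = true := by decide +kernel
theorem chk_cg : chk [.c, .g, .c, .g] = true := by decide +kernel
theorem chk_de : chk [.d, .e, .d, .e, .d, .e] = true := by decide +kernel
theorem chk_df : chk [.d, .f, .d, .f] = true := by decide +kernel
theorem chk_dg : chk [.d, .g, .d, .g] = true := by decide +kernel
theorem chk_ef : chk [.e, .f, .e, .f] = true := by decide +kernel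
theorem chk_eg : chk [.e, .g, .e, .g] = true := by decide +kernel
theorem chk_fg : chk [.f, .g, .f, .g, .f, .g, .f, .g] = true := by decide +kernel
theorem chk_x1 : chk [.a, .d, .c, .d, .c, .d, .c, .d, .c] = true := by decide +kernel
theorem chk_x2 : chk [.a, .g, .f, .g, .f] = true := by decide +kernel
theorem chk_x3 : chk [.a, .b, .c, .f, .a, .b, .c, .f, .a, .b, .c, .f, .a, .b, .c, .f, .a, .b, .c, .f] = true := by decide +kernel
theorem chk_x4 : chk [.b, .f, .g, .b, .f, .g, .b, .f, .g, .b, .f, .g, .b, .f, .g] = true := by decide +kernel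
theorem chk_x5 : chk [.b, .c, .d, .c, .d, .b, .c, .d, .c, .d, .b, .c, .d, .c, .d, .b, .c, .d, .c, .d, .b, .c, .d, .c, .d, .e, .b, .c, .d, .c, .d, .b, .c, .d, .c, .d, .b, .c, .d, .c, .d, .b, .c, .d, .c, .d, .b, .c, .d, .c, .d, .e, .b, .c, .d, .c, .d, .b, .c, .d, .c, .d, .b, .c, .d, .c, .d, .b, .c, .d, .c, .d, .b, .c, .d, .c, .d, .e] = true := by decide +kernel

theorem bnd_all (x : Suz.Gen) : bnd x = true := by
  cases x
  · exact bnd_a
  · exact bnd_b
  · exact bnd_c
  · exact bnd_d
  · exact bnd_e
  · exact bnd_f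
  · exact bnd_g

theorem inv_all (x : Suz.Gen) : chk [x, x] = true := by
  cases x
  · exact inv_a
  · exact inv_b
  · exact inv_c
  · exact inv_d
  · exact inv_e
  · exact inv_f
  · exact inv_g

/-- The function of a generator on the points. -/
noncomputable def fn (x : Suz.Gen) (i : Fin 1782) : Fin 1782 := ⟨app (tab x) i, bnd_spec (bnd_all x) i.2⟩

theorem fn_val (x : Suz.Gen) (i : Fin 1782) : (fn x i : ℕ) = app (tab x) i := rfl

theorem fn_involutive (x : Suz.Gen) : Function.Involutive (fn x) := by
  intro i
  apply Fin.ext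
  rw [fn_val, fn_val]
  exact chk_spec (inv_all x) i.2

/-- The permutation of a generator. -/
noncomputable def gen (x : Suz.Gen) : Equiv.Perm (Fin 1782) := (fn_involutive x).toPerm

theorem gen_apply (x : Suz.Gen) (i : Fin 1782) : gen x i = fn x i := rfl

theorem gen_val (x : Suz.Gen) (i : Fin 1782) : (gen x i : ℕ) = app (tab x) i := rfl

theorem prod_val (w : List Suz.Gen) (i : Fin 1782) : (((w.map gen).prod i : Fin 1782) : ℕ) = tr w i := by
  induction w with
  | nil => rfl
  | cons x w ih =>
    rw [List.map_cons, List.prod_cons, Equiv.Perm.mul_apply, gen_val, ih, tr_cons]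

theorem prod_eq_one {w : List Suz.Gen} (h : chk w = true) : (w.map gen).prod = 1 := by
  ext i
  rw [prod_val, chk_spec h i.2]
  rfl

theorem gen_sq (x : Suz.Gen) : gen x * gen x = 1 := by
  have := prod_eq_one (inv_all x)
  simpa using this

theorem gen_inv (x : Suz.Gen) : (gen x)⁻¹ = gen x := by
  rw [inv_eq_iff_mul_eq_one]
  exact gen_sq x

/-- Alternating word `(x y)^m` as a list. -/
def alt (x y : Suz.Gen) : ℕ → List Suz.Gen
  | 0 => []
  | m + 1 => x :: y :: alt x y m

theorem alt_prod (x y : Suz.Gen) (m : ℕ) : ((alt x y m).map gen).prod = (gen x * gen y) ^ m := by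
  induction m with
  | zero => rfl
  | succ m ih =>
    rw [alt, List.map_cons, List.map_cons, List.prod_cons, List.prod_cons, ih, pow_succ', mul_assoc]

theorem pair_rel {x y : Suz.Gen} {m : ℕ} (h : chk (alt x y m) = true) : (gen x * gen y) ^ m = 1 := by
  rw [← alt_prod]
  exact prod_eq_one h

theorem pair_rel_symm {x y : Suz.Gen} {m : ℕ} (h : (gen x * gen y) ^ m = 1) : (gen y * gen x) ^ m = 1 := by
  have h1 : (gen y * gen x) = (gen x * gen y)⁻¹ := by
    rw [mul_inv_rev, gen_inv, gen_inv]
  rw [h1, inv_pow, h, inv_one]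

theorem cox (x y : Suz.Gen) : (gen x * gen y) ^ coxLabel Suz.edges x y = 1 := by
  cases x <;> cases y
  · exact (pow_one _).trans (gen_sq _)
  · exact pair_rel chk_ab
  · exact pair_rel chk_ac
  · exact pair_rel chk_ad
  · exact pair_rel chk_ae
  · exact pair_rel chk_af
  · exact pair_rel chk_ag
  · exact pair_rel_symm (pair_rel chk_ab)
  · exact (pow_one _).trans (gen_sq _)
  · exact pair_rel chk_bc
  · exact pair_rel chk_bd
  · exact pair_rel chk_be
  · exact pair_rel chk_bf
  · exact pair_rel chk_bg
  · exact pair_rel_symm (pair_rel chk_ac)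
  · exact pair_rel_symm (pair_rel chk_bc)
  · exact (pow_one _).trans (gen_sq _)
  · exact pair_rel chk_cd
  · exact pair_rel chk_ce
  · exact pair_rel chk_cf
  · exact pair_rel chk_cg
  · exact pair_rel_symm (pair_rel chk_ad)
  · exact pair_rel_symm (pair_rel chk_bd)
  · exact pair_rel_symm (pair_rel chk_cd)
  · exact (pow_one _).trans (gen_sq _)
  · exact pair_rel chk_de
  · exact pair_rel chk_df
  · exact pair_rel chk_dg
  · exact pair_rel_symm (pair_rel chk_ae)
  · exact pair_rel_symm (pair_rel chk_be)
  · exact pair_rel_symm (pair_rel chk_ce)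
  · exact pair_rel_symm (pair_rel chk_de)
  · exact (pow_one _).trans (gen_sq _)
  · exact pair_rel chk_ef
  · exact pair_rel chk_eg
  · exact pair_rel_symm (pair_rel chk_af)
  · exact pair_rel_symm (pair_rel chk_bf)
  · exact pair_rel_symm (pair_rel chk_cf)
  · exact pair_rel_symm (pair_rel chk_df)
  · exact pair_rel_symm (pair_rel chk_ef)
  · exact (pow_one _).trans (gen_sq _)
  · exact pair_rel chk_fg
  · exact pair_rel_symm (pair_rel chk_ag)
  · exact pair_rel_symm (pair_rel chk_bg)
  · exact pair_rel_symm (pair_rel chk_cg)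
  · exact pair_rel_symm (pair_rel chk_dg)
  · exact pair_rel_symm (pair_rel chk_eg)
  · exact pair_rel_symm (pair_rel chk_fg)
  · exact (pow_one _).trans (gen_sq _)

theorem rel_x1 : FreeGroup.lift gen (Suz.a * ((Suz.c * Suz.d) ^ 4)⁻¹) = 1 := by
  have h := prod_eq_one chk_x1
  simp only [List.map_cons, List.map_nil, List.prod_cons, List.prod_nil, mul_one] at h
  simp only [map_mul, map_inv, map_pow, FreeGroup.lift_apply_of, ← inv_pow, mul_inv_rev, gen_inv,
    pow_succ, pow_zero, one_mul, mul_assoc]
  simpa only [mul_assoc] using h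

theorem rel_x2 : FreeGroup.lift gen (Suz.a * ((Suz.f * Suz.g) ^ 2)⁻¹) = 1 := by
  have h := prod_eq_one chk_x2
  simp only [List.map_cons, List.map_nil, List.prod_cons, List.prod_nil, mul_one] at h
  simp only [map_mul, map_inv, map_pow, FreeGroup.lift_apply_of, ← inv_pow, mul_inv_rev, gen_inv,
    pow_succ, pow_zero, one_mul, mul_assoc]
  simpa only [mul_assoc] using h

theorem rel_x3 : FreeGroup.lift gen ((Suz.a * Suz.b * Suz.c * Suz.f) ^ 5) = 1 := by
  have h := prod_eq_one chk_x3
  simp only [List.map_cons, List.map_nil, List.prod_cons, List.prod_nil, mul_one] at h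
  simp only [map_mul, map_inv, map_pow, FreeGroup.lift_apply_of, ← inv_pow, mul_inv_rev, gen_inv,
    pow_succ, pow_zero, one_mul, mul_assoc]
  simpa only [mul_assoc] using h

theorem rel_x4 : FreeGroup.lift gen ((Suz.b * Suz.f * Suz.g) ^ 5) = 1 := by
  have h := prod_eq_one chk_x4
  simp only [List.map_cons, List.map_nil, List.prod_cons, List.prod_nil, mul_one] at h
  simp only [map_mul, map_inv, map_pow, FreeGroup.lift_apply_of, ← inv_pow, mul_inv_rev, gen_inv,
    pow_succ, pow_zero, one_mul, mul_assoc]
  simpa only [mul_assoc] using h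

theorem rel_x5 : FreeGroup.lift gen (((Suz.b * Suz.c * Suz.d * Suz.c * Suz.d) ^ 5 * Suz.e) ^ 3) = 1 := by
  have h := prod_eq_one chk_x5
  simp only [List.map_cons, List.map_nil, List.prod_cons, List.prod_nil, mul_one] at h
  simp only [map_mul, map_inv, map_pow, FreeGroup.lift_apply_of, ← inv_pow, mul_inv_rev, gen_inv,
    pow_succ, pow_zero, one_mul, mul_assoc]
  simpa only [mul_assoc] using h

theorem rels_hold : ∀ r ∈ (coxRelators Suz.edges ∪ {r | r ∈ Suz.extra} : Set (FreeGroup Suz.Gen)),
    FreeGroup.lift gen r = 1 := by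
  rintro r (⟨x, _, y, _, rfl⟩ | hr)
  · rw [map_pow, map_mul, FreeGroup.lift_apply_of, FreeGroup.lift_apply_of]
    exact cox x y
  · change r ∈ Suz.extra at hr
    rw [Suz.extra, List.mem_cons, List.mem_cons, List.mem_cons, List.mem_cons, List.mem_singleton] at hr
    rcases hr with rfl | rfl | rfl | rfl | rfl
    · exact rel_x1
    · exact rel_x2
    · exact rel_x3
    · exact rel_x4
    · exact rel_x5

/-- The permutation representation of degree 1782. -/
noncomputable def φ : Suz →* Equiv.Perm (Fin 1782) := PresentedGroup.toGroup rels_hold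

theorem φ_of (x : Suz.Gen) :
    φ (PresentedGroup.mk (coxRelators Suz.edges ∪ {r | r ∈ Suz.extra}) (FreeGroup.of x)) = gen x :=
  PresentedGroup.toGroup.of rels_hold

end Cfsg.Agent.SporRec.R3.SuzRel
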