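import Cfsg.Agent.S1679
import Cfsg.Agent.S1694
import Cfsg.Agent.ChevalleyStructure.FieldIso
import Cfsg.Agent.SporRec.R3.SuzRel
import Cfsg.Agent.SporRec.R3.SuzAut

/-! The presented Suzuki group acts as `Sp`, the group `G₂(4)` is `Hs`. -/

set_option autoImplicit false

noncomputable section

namespace Cfsg.Agent.SporRec.R3.SuzLink

open Cfsg Cfsg.Agent.S1679
open Cfsg.Agent.SporRec Cfsg.Agent.SporRec.GF4 Cfsg.Agent.SporRec.G24Mat
  Cfsg.Agent.SporRec.G24Match Cfsg.Agent.SporRec.G24Suz Cfsg.Agent.SporRec.G24Rel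
open Cfsg.Agent.SporRec.R3.Kernel Cfsg.Agent.SporRec.R3.SuzAct
open Cfsg.Agent.SporRec.R3.Orb

/-- letters -/
def g6 : Fin 6 → SuzData.Gen
  | 0 => .a
  | 1 => .b
  | 2 => .c
  | 3 => .d
  | 4 => .e
  | 5 => .f

theorem g6_surj : Function.Surjective g6 := by
  intro x
  cases x
  · exact ⟨0, rfl⟩
  · exact ⟨1, rfl⟩
  · exact ⟨2, rfl⟩
  · exact ⟨3, rfl⟩
  · exact ⟨4, rfl⟩
  · exact ⟨5, rfl⟩

/-- generator triples -/
def ys (i : Fin 6) : Equiv.Perm (Fin 1782) × Equiv.Perm (Fin 1365) × Equiv.Perm (Fin 1365) := gen0 (g6 i)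

theorem closure_ys : Subgroup.closure (Set.range ys) = Hs := by
  unfold Hs
  congr 1
  ext u
  constructor
  · rintro ⟨i, rfl⟩; exact ⟨g6 i, rfl⟩
  · rintro ⟨x, rfl⟩
    obtain ⟨i, rfl⟩ := g6_surj x
    exact ⟨i, rfl⟩

theorem chkR6 : R6.all (fun w => SuzS.chkEqW (w.map g6) []) = true := by decide +kernel

theorem ys_rel : ∀ w ∈ R6, (w.map ys).prod = 1 := by
  intro w hw
  have h1 := List.all_eq_true.1 chkR6 w hw
  have h2 := SuzS.gw_eq h1
  have h3 : ∀ v : List (Fin 6), (v.map ys).prod = ((gw gen (v.map g6) : Hs) : _) := by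
    intro v
    induction v with
    | nil => rfl
    | cons i v ih => rw [List.map_cons, List.prod_cons, ih]; rfl
  rw [h3, h2]; rfl

/-- the subgroup `⟨a,...,f⟩` of `Suz` -/
def D6 : Subgroup Spor.Suz := Subgroup.closure (Set.range xs)

theorem D6_ge (_ : Finite D6) : 251596800 ≤ Nat.card D6 := by
  obtain ⟨φ, hφ⟩ := G24Lower.exists_hom
  rw [map_closure_eq] at hφ
  exact hφ.trans (Nat.card_le_card_of_surjective _ (MonoidHom.subgroupMap_surjective φ _))

theorem D6_fin : Finite D6 := (G24Upper.card_closure_le xs xs_rel).1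

theorem card_D6 : Nat.card D6 = 251596800 :=
  le_antisymm (G24Upper.card_closure_le xs xs_rel).2 (D6_ge D6_fin)

/-- the action of `Suz` -/
def φ : Spor.Suz →* Equiv.Perm (Fin 1782) := SuzRel.φ

theorem φ_xs (i : Fin 6) : φ (xs i) = pO (g6 i) := by
  have h : φ (xs i) = SuzRel.gen (G24Suz.gen i) := SuzRel.φ_of (G24Suz.gen i)
  rw [h]
  ext y
  fin_cases i <;> rfl

theorem φ_g : φ (q (FreeGroup.of .g)) = pOg := by
  have h : φ (q (FreeGroup.of .g)) = SuzRel.gen .g := SuzRel.φ_of .g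
  rw [h]
  ext y
  rfl

theorem chk_a : (Nat.beq (look (SuzData.tabO .b) 3) 3) = false := by decide +kernel

theorem φ_inj : Function.Injective φ := by
  rw [← MonoidHom.ker_eq_bot_iff]
  rcases S1694.result.1.eq_bot_or_eq_top_of_normal φ.ker inferInstance with h | h
  · exact h
  · exfalso
    have h1 : xs 1 ∈ φ.ker := by rw [h]; trivial
    rw [MonoidHom.mem_ker, φ_xs] at h1
    have h2 := congrArg (fun p : Equiv.Perm (Fin 1782) => (p ⟨3, by norm_num⟩).val) h1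
    have h3 : look (SuzData.tabO .b) 3 = 3 := h2
    have h4 := chk_a
    rw [h3] at h4
    exact absurd h4 (by decide)

theorem range_ρO : ρO.range = D6.map φ := by
  rw [D6, MonoidHom.map_closure, MonoidHom.range_eq_map, ← gen_clo, MonoidHom.map_closure]
  congr 1
  ext u
  constructor
  · rintro ⟨_, ⟨x, rfl⟩, rfl⟩
    obtain ⟨i, rfl⟩ := g6_surj x
    exact ⟨xs i, ⟨i, rfl⟩, φ_xs i⟩
  · rintro ⟨_, ⟨i, rfl⟩, rfl⟩
    exact ⟨gen (g6 i), ⟨g6 i, rfl⟩, (φ_xs i).symm⟩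

theorem card_range_ρO : Nat.card ρO.range = 251596800 := by
  rw [range_ρO, ← card_D6]
  exact (Nat.card_congr (Subgroup.equivMapOfInjective D6 φ φ_inj).toEquiv).symm

theorem Hs_ge (_ : Finite Hs) : 251596800 ≤ Nat.card Hs := by
  rw [← card_range_ρO]
  exact Nat.card_le_card_of_surjective _ ρO.rangeRestrict_surjective

theorem Hs_fin : Finite Hs := by
  have := (G24Upper.card_closure_le ys ys_rel).1
  rwa [closure_ys] at this

theorem card_Hs : Nat.card Hs = 251596800 := by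
  have := (G24Upper.card_closure_le ys ys_rel).2
  rw [closure_ys] at this
  exact le_antisymm this (Hs_ge Hs_fin)

theorem Hs_iso : Nonempty (Hs ≃* Gp) :=
  iso_of_gens ys A ys_rel A_rel _ Gp closure_ys closure_A Hs_ge card_Gp_ge

theorem link_H (K : Type) [Field K] [Fintype K] (hK : Fintype.card K = 4) :
    Nonempty (Cfsg.Lie.chevG2.group K ≃* Hs) := by
  obtain ⟨e⟩ := Hs_iso
  have f : K ≃+* F4 := FiniteField.ringEquivOfCardEq (by rw [hK, F4.card_F4])
  exact ⟨(ChevalleyStructure.FieldIso.groupEquiv Cfsg.Lie.chevG2 f).trans e.symm⟩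

theorem ρO_inj : Function.Injective ρO := by
  have := Hs_fin
  have h : Function.Injective ρO.rangeRestrict :=
    ((Nat.bijective_iff_surjective_and_card ρO.rangeRestrict).2
      ⟨ρO.rangeRestrict_surjective, by rw [card_Hs, card_range_ρO]⟩).1
  intro x y hxy
  exact h (Subtype.ext hxy)

theorem range_φ : φ.range = Sp := by
  apply le_antisymm
  · rintro _ ⟨x, rfl⟩
    obtain ⟨w, rfl⟩ : ∃ w, q w = x := QuotientGroup.mk'_surjective _ x
    induction w using FreeGroup.induction_on with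
    | C1 => simp
    | of x =>
      cases x
      · exact (φ_xs 0).symm ▸ Subgroup.subset_closure (Set.mem_insert_of_mem _ ⟨_, rfl⟩)
      · exact (φ_xs 1).symm ▸ Subgroup.subset_closure (Set.mem_insert_of_mem _ ⟨_, rfl⟩)
      · exact (φ_xs 2).symm ▸ Subgroup.subset_closure (Set.mem_insert_of_mem _ ⟨_, rfl⟩)
      · exact (φ_xs 3).symm ▸ Subgroup.subset_closure (Set.mem_insert_of_mem _ ⟨_, rfl⟩)
      · exact (φ_xs 4).symm ▸ Subgroup.subset_closure (Set.mem_insert_of_mem _ ⟨_, rfl⟩)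
      · exact (φ_xs 5).symm ▸ Subgroup.subset_closure (Set.mem_insert_of_mem _ ⟨_, rfl⟩)
      · exact φ_g.symm ▸ Subgroup.subset_closure (Set.mem_insert _ _)
    | inv_of x ih => rw [map_inv, map_inv]; exact Sp.inv_mem ih
    | mul x y hx hy => rw [map_mul, map_mul]; exact Sp.mul_mem hx hy
  · unfold Sp
    rw [Subgroup.closure_le]
    rintro _ (rfl | ⟨x, rfl⟩)
    · exact ⟨_, φ_g⟩
    · obtain ⟨i, rfl⟩ := g6_surj x
      exact ⟨_, φ_xs i⟩

theorem link_Sp : Nonempty (Cfsg.Spor.Suz ≃* Sp) :=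
  ⟨(MonoidHom.ofInjective φ_inj).trans (MulEquiv.subgroupCongr range_φ)⟩

theorem card_Sp : Nat.card Sp = 448345497600 := by
  obtain ⟨e⟩ := link_Sp
  rw [← Nat.card_congr e.toEquiv]
  exact S1694.result.2

theorem simple_Sp : IsSimpleGroup Sp := by
  obtain ⟨e⟩ := link_Sp
  have := S1694.result.1
  exact MulEquiv.isSimpleGroup e.symm

theorem chk_g0 : Nat.ble 417 (look SuzData.Og 0) = true := by decide +kernel
theorem chk_g2 : Nat.ble 417 (look SuzData.Og 11) = true := by decide +kernel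

theorem Sp_trans0 (x : Fin 1782) : ∃ g ∈ Sp, g o0 = x := by
  have hg : pOg ∈ Sp := Subgroup.subset_closure (Set.mem_insert _ _)
  have h0 : pOg o0 ∈ Λ0 := by
    rw [mem_Λ0]; have := chk_g0; rw [Nat.ble_eq] at this; exact this
  have hΛ : ∀ y ∈ Λ0, ∃ g ∈ Sp, g o0 = y := by
    intro y hy
    obtain ⟨h, hh⟩ := transΛ _ y h0 hy
    exact ⟨ρO h * pOg, Sp.mul_mem (SuzAut.ρO_mem h) hg, by rw [Equiv.Perm.mul_apply, hh]⟩
  by_cases h1 : x ∈ Λ0
  · exact hΛ x h1
  · by_cases h2 : x = o0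
    · exact ⟨1, Sp.one_mem, by rw [h2]; rfl⟩
    · have h3 : x ∈ Δ0 := by
        rw [mem_Δ0]
        rw [mem_Λ0] at h1
        have : x.val ≠ 0 := fun e => h2 (Fin.ext e)
        omega
      have h4 : (⟨11, by norm_num⟩ : Fin 1782) ∈ Δ0 := by rw [mem_Δ0]; simp
      obtain ⟨k, hk⟩ := transΔ _ x h4 h3
      have h5 : pOg ⟨11, by norm_num⟩ ∈ Λ0 := by
        rw [mem_Λ0]; have := chk_g2; rw [Nat.ble_eq] at this; exact this
      obtain ⟨u, hu, hu'⟩ := hΛ _ h5
      refine ⟨ρO k * (pOg⁻¹ * u), Sp.mul_mem (SuzAut.ρO_mem k) (Sp.mul_mem (Sp.inv_mem hg) hu), ?_⟩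
      rw [Equiv.Perm.mul_apply, Equiv.Perm.mul_apply, hu', ← hk]
      simp

theorem Sp_trans (x y : Fin 1782) : ∃ g ∈ Sp, g x = y := by
  obtain ⟨u, hu, rfl⟩ := Sp_trans0 x
  obtain ⟨v, hv, rfl⟩ := Sp_trans0 y
  exact ⟨v * u⁻¹, Sp.mul_mem hv (Sp.inv_mem hu), by rw [Equiv.Perm.mul_apply]; simp⟩

theorem Sp_stab : ∀ g ∈ Sp, g o0 = o0 → ∃ h : Hs, ρO h = g := by
  have h1 := orb_card (MonoidHom.id (Equiv.Perm (Fin 1782))) Sp o0
  have h2 : orb (MonoidHom.id (Equiv.Perm (Fin 1782))) Sp o0 = Set.univ := by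
    ext x
    exact ⟨fun _ => trivial, fun _ => Sp_trans0 x⟩
  rw [h2, Set.ncard_univ, Nat.card_fin, card_Sp] at h1
  have h3 : ρO.range ≤ (Sp ⊓ stab (MonoidHom.id (Equiv.Perm (Fin 1782))) o0 :
      Subgroup (Equiv.Perm (Fin 1782))) := by
    rintro _ ⟨h, rfl⟩
    exact ⟨SuzAut.ρO_mem h, ρO_zero h⟩
  have h4 := eq_of_le_of_card h3 (by rw [card_range_ρO]; omega)
  intro g hg hg0
  have h5 : g ∈ ρO.range := by rw [h4]; exact ⟨hg, hg0⟩
  exact h5

end Cfsg.Agent.SporRec.R3.SuzLink
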