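import Cfsg.Agent.SporRec.R3.Config

/-! The part `Λ` of a rank three configuration identified with a known `H`-set `Y`. -/

set_option autoImplicit false
set_option linter.unusedSectionVars false

namespace Cfsg.Agent.SporRec.R3.YPart

open Finset Cfsg.Agent.SporRec.R3.Config

variable {Ω : Type*} [Fintype Ω] [DecidableEq Ω] {H : Type*} [Group H]
variable {Y : Type*} [Fintype Y] [DecidableEq Y]

/-- an equivariant parametrisation of `Λ` by `Y` -/
structure YMap (C : Conf Ω H) (ρ : H →* Equiv.Perm Y) where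
  f : Y → Ω
  inj : Function.Injective f
  mem : ∀ y, f y ∈ C.Λ
  surj : ∀ x ∈ C.Λ, ∃ y, f y = x
  eqv : ∀ h y, f (ρ h y) = C.act h (f y)

namespace YMap

variable {C : Conf Ω H} {ρ : H →* Equiv.Perm Y} (M : YMap C ρ)

/-- the set of points of `Y` adjacent to `d` -/
noncomputable def S (d : Ω) : Finset Y := univ.filter fun y => C.adj d (M.f y)

/-- adjacency inside `Y` -/
noncomputable def A (y : Y) : Finset Y := univ.filter fun w => C.adj (M.f y) (M.f w)

theorem mem_S (d : Ω) (y : Y) : y ∈ M.S d ↔ C.adj d (M.f y) := by simp [S]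
theorem mem_A (y w : Y) : w ∈ M.A y ↔ C.adj (M.f y) (M.f w) := by simp [A]

theorem S_act (h : H) (d : Ω) (y : Y) : ρ h y ∈ M.S (C.act h d) ↔ y ∈ M.S d := by
  rw [mem_S, mem_S, M.eqv, C.adj_act]

theorem A_act (h : H) (y w : Y) : ρ h w ∈ M.A (ρ h y) ↔ w ∈ M.A y := by
  rw [mem_A, mem_A, M.eqv, M.eqv, C.adj_act]

theorem self_notMem_A (y : Y) : y ∉ M.A y := by rw [mem_A]; exact C.not_adj_self _

theorem mem_A_comm (y w : Y) : w ∈ M.A y ↔ y ∈ M.A w := by rw [mem_A, mem_A, C.adj_comm]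

theorem Λ_eq : C.Λ = univ.map ⟨M.f, M.inj⟩ := by
  ext x
  simp only [mem_map, mem_univ, true_and, Function.Embedding.coeFn_mk]
  exact ⟨fun h => M.surj x h, fun ⟨y, hy⟩ => hy ▸ M.mem y⟩

include M in
theorem card_Λ : C.Λ.card = Fintype.card Y := by rw [M.Λ_eq, card_map, card_univ]

theorem filter_Λ_card (p : Ω → Prop) [DecidablePred p] :
    (C.Λ.filter p).card = (univ.filter fun y => p (M.f y)).card := by
  rw [M.Λ_eq, filter_map, card_map]; rfl

theorem card_A (y : Y) : (M.A y).card + C.mu = C.Δ.card := by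
  have := C.card_Λ_adj' (M.mem y)
  rw [M.filter_Λ_card] at this
  exact this

theorem card_S {d : Ω} (hd : d ∈ C.Δ) : (M.S d).card + C.lam + 1 = C.Δ.card := by
  have := C.card_Λ_adj hd
  rw [M.filter_Λ_card] at this
  exact this

/-- number of `d ∈ Δ` adjacent to both `y` and `z` -/
noncomputable def m (M : YMap C ρ) (y z : Y) : ℕ := (C.Δ.filter fun d => y ∈ M.S d ∧ z ∈ M.S d).card

theorem m_self (y : Y) : M.m y y = C.mu := by
  rw [← C.card_Δ_adj (M.mem y)]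
  unfold m
  congr 1
  ext d
  simp [mem_S]

theorem m_add (y z : Y) : M.m y z + (M.A y ∩ M.A z).card = C.cn (M.f y) (M.f z) := by
  classical
  have e : (M.A y ∩ M.A z).card = (C.Λ.filter fun w => C.adj (M.f y) w ∧ C.adj (M.f z) w).card := by
    rw [M.filter_Λ_card]
    congr 1
    ext w
    simp [mem_A]
  rw [e]
  unfold m Conf.cn
  rw [← card_union_of_disjoint]
  · congr 1
    ext w
    simp only [mem_union, mem_filter, mem_univ, true_and, mem_S]
    constructor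
    · rintro (⟨h1, h2, h3⟩ | ⟨h1, h2, h3⟩)
      · exact ⟨C.adj_symm h2, C.adj_symm h3⟩
      · exact ⟨h2, h3⟩
    · rintro ⟨h2, h3⟩
      rcases C.cover w with h | h | h
      · exfalso
        rw [h, C.adj_comm, C.adj_alpha] at h2
        exact (Finset.disjoint_left.1 C.disj) h2 (M.mem y)
      · exact Or.inl ⟨h, C.adj_symm h2, C.adj_symm h3⟩
      · exact Or.inr ⟨h, h2, h3⟩
  · rw [Finset.disjoint_left]
    intro w hw hw'
    exact (Finset.disjoint_left.1 C.disj) (mem_filter.1 hw).1 (mem_filter.1 hw').1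

theorem m_act (h : H) (y z : Y) : M.m (ρ h y) (ρ h z) = M.m y z := by
  classical
  unfold m
  have : (C.Δ.filter fun d => ρ h y ∈ M.S d ∧ ρ h z ∈ M.S d) =
      (C.Δ.filter fun d => y ∈ M.S d ∧ z ∈ M.S d).map (C.act h).toEmbedding := by
    ext d
    rw [Finset.mem_map_equiv]
    simp only [mem_filter]
    have e : (Equiv.symm (C.act h)) d = C.act h⁻¹ d := by
      rw [map_inv]; rfl
    rw [e]
    have hd : d ∈ C.Δ ↔ C.act h⁻¹ d ∈ C.Δ := by
      constructor
      · exact C.hΔ _ _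
      · intro hh
        have := C.hΔ h _ hh
        rw [← Equiv.Perm.mul_apply, ← map_mul] at this
        simpa using this
    rw [← hd, ← M.S_act h (C.act h⁻¹ d) y, ← M.S_act h (C.act h⁻¹ d) z,
      ← Equiv.Perm.mul_apply, ← map_mul]
    simp
  rw [this, card_map]

theorem m_comm (y z : Y) : M.m y z = M.m z y := by
  unfold m; congr 1; ext d; simp [and_comm]

theorem A_inter_act (h : H) (y z : Y) :
    (M.A (ρ h y) ∩ M.A (ρ h z)).card = (M.A y ∩ M.A z).card := by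
  have : M.A (ρ h y) ∩ M.A (ρ h z) = (M.A y ∩ M.A z).map (ρ h).toEmbedding := by
    ext w
    rw [Finset.mem_map_equiv, mem_inter, mem_inter, ← M.A_act h y, ← M.A_act h z]
    simp
  rw [this, card_map]

/-- an orbit of the stabiliser of `y0` lies in `A y0` or misses it -/
theorem sub_or_disj {y0 : Y} {D : Finset Y}
    (hD : ∀ y ∈ D, ∀ z ∈ D, ∃ h, ρ h y0 = y0 ∧ ρ h y = z) :
    D ⊆ M.A y0 ∨ Disjoint D (M.A y0) := by
  by_cases hx : ∃ y ∈ D, y ∈ M.A y0
  · obtain ⟨y, hy, hyA⟩ := hx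
    left
    intro z hz
    obtain ⟨h, h0, hh⟩ := hD y hy z hz
    rw [← hh, ← h0, M.A_act]
    exact hyA
  · right
    rw [Finset.disjoint_left]
    intro y hy hyA
    exact hx ⟨y, hy, hyA⟩

/-- injectivity of `S` on `Δ` -/
theorem S_inj {s : ℕ} (h1 : C.lam < s) (h2 : C.mu < s) (h3 : s + C.lam + 1 = C.Δ.card)
    {d d' : Ω} (hd : d ∈ C.Δ) (_hd' : d' ∈ C.Δ) (h : M.S d = M.S d') : d = d' := by
  classical
  by_contra hne
  have hs : (M.S d).card = s := by have := M.card_S hd; omega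
  have hle : (M.S d).card ≤ C.cn d d' := by
    unfold Conf.cn
    rw [← card_map ⟨M.f, M.inj⟩]
    apply card_le_card
    intro x hx
    rw [mem_map] at hx
    obtain ⟨y, hy, rfl⟩ := hx
    rw [mem_filter]
    refine ⟨mem_univ _, ?_, ?_⟩
    · exact (M.mem_S d y).1 hy
    · rw [h] at hy
      exact (M.mem_S d' y).1 hy
  by_cases ha : C.adj d d'
  · rw [C.cn_adj ha] at hle; omega
  · rw [C.cn_nonadj hne ha] at hle; omega

end YMap

/-- the sum of squares identity -/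
theorem sumsq {ι : Type*} (Δ : Finset ι) (S : ι → Finset Y) (D : Finset Y) (y0 : Y) (a b : ℤ) :
    ∑ d ∈ Δ, (((S d ∩ D).card : ℤ) - a * (if y0 ∈ S d then 1 else 0) - b) ^ 2 =
      (∑ q ∈ D, ∑ q' ∈ D, ((Δ.filter fun d => q ∈ S d ∧ q' ∈ S d).card : ℤ))
      + a ^ 2 * ((Δ.filter fun d => y0 ∈ S d ∧ y0 ∈ S d).card : ℤ)
      + b ^ 2 * (Δ.card : ℤ)
      - 2 * a * (∑ q ∈ D, ((Δ.filter fun d => y0 ∈ S d ∧ q ∈ S d).card : ℤ))
      - 2 * b * (∑ q ∈ D, ((Δ.filter fun d => q ∈ S d ∧ q ∈ S d).card : ℤ))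
      + 2 * a * b * ((Δ.filter fun d => y0 ∈ S d ∧ y0 ∈ S d).card : ℤ) := by
  classical
  set I : ι → Y → ℤ := fun d q => if q ∈ S d then 1 else 0 with hI
  have hm : ∀ q q', ((Δ.filter fun d => q ∈ S d ∧ q' ∈ S d).card : ℤ) = ∑ d ∈ Δ, I d q * I d q' := by
    intro q q'
    rw [card_filter]
    push_cast
    apply sum_congr rfl
    intro d _
    by_cases h1 : q ∈ S d <;> by_cases h2 : q' ∈ S d <;> simp [hI, h1, h2]
  have hc : ∀ d, ((S d ∩ D).card : ℤ) = ∑ q ∈ D, I d q := by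
    intro d
    rw [inter_comm, ← filter_mem_eq_inter, card_filter]
    push_cast
    rfl
  have hII : ∀ d q, I d q * I d q = I d q := by
    intro d q
    by_cases h1 : q ∈ S d <;> simp [hI, h1]
  simp only [hm, hc]
  have e0 : ∀ d, (if y0 ∈ S d then (1:ℤ) else 0) = I d y0 := fun d => rfl
  simp only [e0]
  obtain ⟨P, hP⟩ : ∃ P : ι → ℤ, ∀ d, P d = ∑ q ∈ D, ∑ q' ∈ D, I d q * I d q' := ⟨_, fun _ => rfl⟩
  obtain ⟨Q, hQ⟩ : ∃ Q : ι → ℤ, ∀ d, Q d = ∑ q ∈ D, I d y0 * I d q := ⟨_, fun _ => rfl⟩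
  obtain ⟨R, hR⟩ : ∃ R : ι → ℤ, ∀ d, R d = ∑ q ∈ D, I d q * I d q := ⟨_, fun _ => rfl⟩
  have expand : ∀ d, (∑ q ∈ D, I d q - a * I d y0 - b) ^ 2 =
      P d + a ^ 2 * (I d y0 * I d y0) + b ^ 2
      - 2 * a * Q d - 2 * b * R d + 2 * a * b * (I d y0 * I d y0) := by
    intro d
    have h1 : P d = (∑ q ∈ D, I d q) * (∑ q ∈ D, I d q) := by
      rw [hP, sum_mul_sum]
    have h2 : Q d = I d y0 * ∑ q ∈ D, I d q := by rw [hQ, mul_sum]
    have h3 : R d = ∑ q ∈ D, I d q := by rw [hR]; exact sum_congr rfl fun q _ => hII d q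
    rw [h1, h2, h3]
    have h4 := hII d y0
    linear_combination (2 * a * b) * (-h4 )
  rw [sum_congr rfl (fun d _ => expand d)]
  simp only [sum_add_distrib, sum_sub_distrib, ← mul_sum]
  have s1 : ∑ q ∈ D, ∑ q' ∈ D, ∑ d ∈ Δ, I d q * I d q' = ∑ d ∈ Δ, P d := by
    simp only [hP]
    symm
    rw [sum_comm]
    apply sum_congr rfl
    intro q _
    rw [sum_comm]
  have s2 : ∑ q ∈ D, ∑ d ∈ Δ, I d y0 * I d q = ∑ d ∈ Δ, Q d := by
    simp only [hQ]; exact sum_comm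
  have s3 : ∑ q ∈ D, ∑ d ∈ Δ, I d q * I d q = ∑ d ∈ Δ, R d := by
    simp only [hR]; exact sum_comm
  rw [s1, s2, s3]
  simp only [sum_const, nsmul_eq_mul]
  ring

end Cfsg.Agent.SporRec.R3.YPart
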