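import Cfsg.Agent.SporRec.R3.Kernel
import Cfsg.Agent.SporRec.R3.Search

/-! Order bound for the automorphism group of a point-line geometry given by packed tables:
base points with candidate sets, then a closure certificate. -/

set_option autoImplicit false

namespace Cfsg.Agent.SporRec.R3.Base

open Cfsg.Agent.SporRec.R3.Kernel Cfsg.Agent.SporRec.R3.Search

/-- geometry tables: `L2P` lists the `s1` points of each line, `P2L` the `t1` lines of each point -/
structure Geo where
  n : ℕ
  s1 : ℕ
  t1 : ℕ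
  L2P : ℕ
  P2L : ℕ

namespace Geo

variable (g : Geo)

/-- the points on line `l`, as a bit mask -/
noncomputable def lineMask (l : ℕ) : ℕ :=
  orS (fun k => Nat.pow 2 (look g.L2P (Nat.add (Nat.mul g.s1 l) k))) g.s1

/-- the points collinear with or equal to `x`, as a bit mask -/
noncomputable def nb (x : ℕ) : ℕ :=
  orS (fun k => g.lineMask (look g.P2L (Nat.add (Nat.mul g.t1 x) k))) g.t1

/-- the points at distance at most two -/
noncomputable def nb2 (x : ℕ) : ℕ :=
  orS (fun k => orS (fun j => g.nb (look g.L2P (Nat.add (Nat.mul g.s1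
    (look g.P2L (Nat.add (Nat.mul g.t1 x) k))) j))) g.s1) g.t1

/-- the points at distance exactly two -/
noncomputable def row2 (x : ℕ) : ℕ := Nat.xor (g.nb2 x) (Nat.land (g.nb2 x) (g.nb x))

theorem two_pow_testBit (a y : ℕ) : (Nat.pow 2 a).testBit y = true ↔ a = y := by
  change (2 ^ a).testBit y = true ↔ a = y
  rw [Nat.testBit_two_pow]; simp

theorem lineMask_iff (l y : ℕ) :
    (g.lineMask l).testBit y = true ↔ ∃ k < g.s1, look g.L2P (g.s1 * l + k) = y := by
  unfold lineMask
  rw [orS_testBit]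
  simp only [two_pow_testBit]
  rfl

theorem nb_iff (x y : ℕ) :
    (g.nb x).testBit y = true ↔ ∃ k < g.t1, (g.lineMask (look g.P2L (g.t1 * x + k))).testBit y = true := by
  unfold nb
  rw [orS_testBit]
  rfl

theorem nb2_iff (x y : ℕ) :
    (g.nb2 x).testBit y = true ↔ ∃ p, (g.nb x).testBit p = true ∧ (g.nb p).testBit y = true := by
  unfold nb2
  rw [orS_testBit]
  simp only [orS_testBit]
  constructor
  · rintro ⟨k, hk, j, hj, h⟩
    refine ⟨_, ?_, h⟩
    rw [nb_iff]
    refine ⟨k, hk, ?_⟩
    rw [lineMask_iff]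
    exact ⟨j, hj, rfl⟩
  · rintro ⟨p, h1, h2⟩
    rw [nb_iff] at h1
    obtain ⟨k, hk, h1⟩ := h1
    rw [lineMask_iff] at h1
    obtain ⟨j, hj, h1⟩ := h1
    refine ⟨k, hk, j, hj, ?_⟩
    have : Nat.add (Nat.mul g.s1 (look g.P2L (Nat.add (Nat.mul g.t1 x) k))) j =
        g.s1 * look g.P2L (g.t1 * x + k) + j := rfl
    rw [this, h1]; exact h2

theorem row2_iff (x y : ℕ) :
    (g.row2 x).testBit y = true ↔
      (∃ p, (g.nb x).testBit p = true ∧ (g.nb p).testBit y = true) ∧ (g.nb x).testBit y = false := by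
  unfold row2
  change ((g.nb2 x) ^^^ ((g.nb2 x) &&& (g.nb x))).testBit y = true ↔ _
  rw [Nat.testBit_xor, Nat.testBit_and, ← nb2_iff]
  cases (g.nb2 x).testBit y <;> cases (g.nb x).testBit y <;> simp

/-- mask of a constraint -/
noncomputable def cmask (c : Bool × ℕ) : ℕ := Bool.rec (g.nb c.2) (g.row2 c.2) c.1

/-- intersection of constraints, starting from `m` -/
noncomputable def cmasks (m : ℕ) (l : List (Bool × ℕ)) : ℕ :=
  List.rec (motive := fun _ => ℕ) m (fun c _ ih => Nat.land (g.cmask c) ih) l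

/-- union of `2^q` -/
noncomputable def pows (l : List ℕ) : ℕ :=
  List.rec (motive := fun _ => ℕ) 0 (fun q _ ih => Nat.lor (Nat.pow 2 q) ih) l

/-- all points mask -/
def allM (n : ℕ) : ℕ := Nat.sub (Nat.pow 2 n) 1

/-- points are below `n`, nothing else occurs -/
noncomputable def chkGeo (nl : ℕ) : Bool :=
  Bool.rec false
    (allB (fun x => allS (fun k => Nat.ble (Nat.succ (look g.P2L (Nat.add (Nat.mul g.t1 x) k))) nl) g.t1) g.n)
    (allB (fun l => allS (fun k => Nat.ble (Nat.succ (look g.L2P (Nat.add (Nat.mul g.s1 l) k))) g.n) g.s1) nl)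

theorem nb_lt {nl : ℕ} (h : g.chkGeo nl = true) {x y : ℕ} (hx : x < g.n)
    (hy : (g.nb x).testBit y = true) : y < g.n := by
  unfold chkGeo at h
  rw [and3, Bool.and_eq_true, allB_iff, allB_iff] at h
  obtain ⟨h1, h2⟩ := h
  rw [nb_iff] at hy
  obtain ⟨k, hk, hy⟩ := hy
  rw [lineMask_iff] at hy
  obtain ⟨j, hj, hy⟩ := hy
  have a1 := h2 x hx
  rw [allS_iff] at a1
  have a2 := a1 k hk
  rw [Nat.ble_eq] at a2
  have b1 := h1 _ a2
  rw [allS_iff] at b1
  have b2 := b1 j hj
  rw [Nat.ble_eq] at b2
  rw [← hy]; exact b2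

/-- one choice step: point, constraints, candidates -/
noncomputable def chkChoice (F : ℕ) (l : List (Bool × ℕ)) (cands : List ℕ) : Bool :=
  Bool.rec false
    (Nat.beq (g.cmasks (Nat.xor (allM g.n) F) l) (pows cands))
    (allL (fun c => Nat.beq (tb F c.2) 1) l)

/-- a list of choice steps; returns whether all checks succeed and the final mask equals `Fend` -/
noncomputable def chkChoices (Fend : ℕ) (st : List (ℕ × List (Bool × ℕ) × List ℕ)) : ℕ → Bool :=
  List.rec (motive := fun _ => ℕ → Bool) (fun F => Nat.beq F Fend)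
    (fun s _ ih F => Bool.rec false (force (Nat.lor F (Nat.pow 2 s.1)) ih) (g.chkChoice F s.2.1 s.2.2)) st

/-- one closure step: record `k` is `z, x1, x2, x3` (`x3 = 4095`: no third constraint);
returns the new mask, or `0` if a check fails -/
noncomputable def stepC (cert k F : ℕ) : ℕ :=
  Bool.rec (motive := fun _ => ℕ) 0 (Nat.lor F (Nat.pow 2 (look cert (Nat.mul 4 k))))
    (Bool.rec false (Bool.rec false
        (Bool.rec
          (Bool.rec false
            (Nat.beq (Nat.land (Nat.land (g.nb (look cert (Nat.add (Nat.mul 4 k) 1)))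
                (g.nb (look cert (Nat.add (Nat.mul 4 k) 2))))
              (Nat.land (g.row2 (look cert (Nat.add (Nat.mul 4 k) 3))) (Nat.xor (allM g.n) F)))
              (Nat.pow 2 (look cert (Nat.mul 4 k))))
            (Nat.beq (tb F (look cert (Nat.add (Nat.mul 4 k) 3))) 1))
          (Nat.beq (Nat.land (Nat.land (g.nb (look cert (Nat.add (Nat.mul 4 k) 1)))
                (g.nb (look cert (Nat.add (Nat.mul 4 k) 2)))) (Nat.xor (allM g.n) F))
              (Nat.pow 2 (look cert (Nat.mul 4 k))))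
          (Nat.beq (look cert (Nat.add (Nat.mul 4 k) 3)) 4095))
        (Nat.beq (tb F (look cert (Nat.add (Nat.mul 4 k) 2))) 1))
      (Nat.beq (tb F (look cert (Nat.add (Nat.mul 4 k) 1))) 1))

/-- force a number before passing it on -/
noncomputable def forceN (x : ℕ) (k : ℕ → ℕ) : ℕ :=
  Nat.rec (motive := fun _ => ℕ) (k 0) (fun m _ => k (Nat.succ m)) x

theorem forceN_eq (x : ℕ) (k : ℕ → ℕ) : forceN x k = k x := by cases x <;> rfl

/-- the steps `off, ..., min (off + 2^k) cnt - 1` -/
noncomputable def runC (cert cnt k : ℕ) : ℕ → ℕ → ℕ :=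
  Nat.rec (motive := fun _ => ℕ → ℕ → ℕ)
    (fun off F => Bool.rec (Bool.rec (g.stepC cert off F) 0 (Nat.beq F 0)) F (Nat.ble cnt off))
    (fun k ih off F => Bool.rec
      (forceN (ih off F) fun F' => ih (Nat.add off (Nat.pow 2 k)) F') F (Nat.ble cnt off)) k

/-- closure run -/
noncomputable def chkRun (cert cnt F : ℕ) : Bool :=
  Nat.beq (g.runC cert cnt (Nat.succ (Nat.log2 cnt)) 0 F) (allM g.n)

/-- preservation of collinearity-or-equality -/
def Pres (t : Equiv.Perm (Fin g.n)) : Prop :=
  ∀ x y : Fin g.n, (g.nb x).testBit y = true ↔ (g.nb (t x : Fin g.n)).testBit (t y : Fin g.n) = true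

variable {g}

theorem Pres.row2 {nl : ℕ} (hg : g.chkGeo nl = true) {t : Equiv.Perm (Fin g.n)} (ht : g.Pres t)
    (x y : Fin g.n) (h : (g.row2 x).testBit y = true) :
    (g.row2 (t x : Fin g.n)).testBit (t y : Fin g.n) = true := by
  rw [row2_iff] at h ⊢
  obtain ⟨⟨p, h1, h2⟩, h3⟩ := h
  have hp : p < g.n := g.nb_lt hg x.2 h1
  refine ⟨⟨(t ⟨p, hp⟩ : Fin g.n), (ht x ⟨p, hp⟩).1 h1, (ht ⟨p, hp⟩ y).1 h2⟩, ?_⟩
  rw [Bool.eq_false_iff] at h3 ⊢
  exact fun h => h3 ((ht x y).2 h)

theorem cmask_pres {nl : ℕ} (hg : g.chkGeo nl = true) {t : Equiv.Perm (Fin g.n)} (ht : g.Pres t)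
    (c : Bool) (x y : Fin g.n) (hx : t x = x) (h : (g.cmask (c, x)).testBit y = true) :
    (g.cmask (c, x)).testBit (t y : Fin g.n) = true := by
  cases c with
  | false =>
    change (g.nb x).testBit y = true at h
    change (g.nb x).testBit (t y : Fin g.n) = true
    have := (ht x y).1 h
    rwa [hx] at this
  | true =>
    change (g.row2 x).testBit y = true at h
    change (g.row2 x).testBit (t y : Fin g.n) = true
    have := ht.row2 hg x y h
    rwa [hx] at this

theorem allM_testBit (n y : ℕ) : (allM n).testBit y = decide (y < n) := by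
  change (2 ^ n - 1).testBit y = _
  rw [Nat.testBit_two_pow_sub_one]

theorem xor_allM (n F y : ℕ) (hy : y < n) : (Nat.xor (allM n) F).testBit y = !(F.testBit y) := by
  change ((allM n) ^^^ F).testBit y = _
  rw [Nat.testBit_xor, allM_testBit]; simp [hy]

/-- `t` fixes all points in the mask -/
def Fixes (t : Equiv.Perm (Fin g.n)) (F : ℕ) : Prop := ∀ x : Fin g.n, F.testBit x = true → t x = x

theorem tb_one {F x : ℕ} (h : Nat.beq (tb F x) 1 = true) : F.testBit x = true := by
  rw [Nat.beq_eq, tb_eq] at h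
  cases hb : F.testBit x with
  | true => rfl
  | false => rw [hb] at h; exact absurd h (by decide)

theorem not_fixed_moves {t : Equiv.Perm (Fin g.n)} {F : ℕ} (hF : Fixes t F) {y : Fin g.n}
    (hy : F.testBit y = false) : F.testBit (t y : Fin g.n) = false := by
  rw [Bool.eq_false_iff]
  intro h
  have := hF (t y) h
  have h2 := t.injective this
  rw [h2] at h
  rw [h] at hy; exact Bool.noConfusion hy

theorem cmasks_pres {nl : ℕ} (hg : g.chkGeo nl = true) {t : Equiv.Perm (Fin g.n)} (ht : g.Pres t)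
    {F : ℕ} (hF : Fixes t F) (l : List (Bool × ℕ)) (hl : ∀ c ∈ l, c.2 < g.n ∧ F.testBit c.2 = true)
    (y : Fin g.n) (h : (g.cmasks (Nat.xor (allM g.n) F) l).testBit y = true) :
    (g.cmasks (Nat.xor (allM g.n) F) l).testBit (t y : Fin g.n) = true := by
  induction l with
  | nil =>
    change (Nat.xor (allM g.n) F).testBit y = true at h
    change (Nat.xor (allM g.n) F).testBit (t y : Fin g.n) = true
    rw [xor_allM _ _ _ y.2] at h
    rw [xor_allM _ _ _ (t y).2, not_fixed_moves hF (by simpa using h)]; rfl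
  | cons c l ih =>
    change ((g.cmask c) &&& (g.cmasks (Nat.xor (allM g.n) F) l)).testBit y = true at h
    change ((g.cmask c) &&& (g.cmasks (Nat.xor (allM g.n) F) l)).testBit (t y : Fin g.n) = true
    rw [Nat.testBit_and, Bool.and_eq_true] at h ⊢
    refine ⟨?_, ih (fun c hc => hl c (List.mem_cons_of_mem _ hc)) h.2⟩
    obtain ⟨c1, c2⟩ := c
    obtain ⟨hc, hcF⟩ := hl (c1, c2) (List.mem_cons_self)
    exact cmask_pres hg ht c1 ⟨c2, hc⟩ y (hF ⟨c2, hc⟩ hcF) h.1

theorem pows_iff (l : List ℕ) (y : ℕ) : (pows l).testBit y = true ↔ y ∈ l := by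
  induction l with
  | nil => change (0 : ℕ).testBit y = true ↔ _; simp
  | cons q l ih =>
    change ((2 ^ q) ||| pows l).testBit y = true ↔ _
    rw [Nat.testBit_or, Bool.or_eq_true, ih]
    have := two_pow_testBit q y
    change (2 ^ q).testBit y = true ↔ _ at this
    rw [this, List.mem_cons, eq_comm]

theorem stepC_sound {nl : ℕ} (hg : g.chkGeo nl = true) (cert k : ℕ) {t : Equiv.Perm (Fin g.n)}
    (ht : g.Pres t) (F : ℕ) (hFlt : F < 2 ^ g.n) (hF : Fixes t F) (h0 : g.stepC cert k F ≠ 0) :
    g.stepC cert k F < 2 ^ g.n ∧ Fixes t (g.stepC cert k F) := by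
  unfold stepC at h0 ⊢
  generalize look cert (Nat.mul 4 k) = z at h0 ⊢
  generalize look cert (Nat.add (Nat.mul 4 k) 1) = x1 at h0 ⊢
  generalize look cert (Nat.add (Nat.mul 4 k) 2) = x2 at h0 ⊢
  generalize look cert (Nat.add (Nat.mul 4 k) 3) = x3 at h0 ⊢
  generalize hcond : (Bool.rec false (Bool.rec false
        (Bool.rec
          (Bool.rec false
            (Nat.beq (Nat.land (Nat.land (g.nb x1) (g.nb x2))
              (Nat.land (g.row2 x3) (Nat.xor (allM g.n) F))) (Nat.pow 2 z))
            (Nat.beq (tb F x3) 1))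
          (Nat.beq (Nat.land (Nat.land (g.nb x1) (g.nb x2)) (Nat.xor (allM g.n) F)) (Nat.pow 2 z))
          (Nat.beq x3 4095))
        (Nat.beq (tb F x2) 1))
      (Nat.beq (tb F x1) 1) : Bool) = cond at h0 ⊢
  cases cond with
  | false => exact absurd rfl h0
  | true =>
    change (Nat.lor F (Nat.pow 2 z)) < 2 ^ g.n ∧ Fixes t (Nat.lor F (Nat.pow 2 z))
    simp only [and3] at hcond
    rw [Bool.and_eq_true, Bool.and_eq_true] at hcond
    obtain ⟨hx1, hx2, h3⟩ := hcond
    have hx1' := tb_one hx1
    have hx2' := tb_one hx2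
    have lt_of_bit : ∀ {y : ℕ}, F.testBit y = true → y < g.n := by
      intro y hy
      by_contra hc
      push Not at hc
      have : F < 2 ^ y := lt_of_lt_of_le hFlt (Nat.pow_le_pow_right (by norm_num) hc)
      rw [Nat.testBit_lt_two_pow this] at hy
      exact Bool.noConfusion hy
    have key : ∀ l : List (Bool × ℕ), (∀ c ∈ l, c.2 < g.n ∧ F.testBit c.2 = true) →
        g.cmasks (Nat.xor (allM g.n) F) l = Nat.pow 2 z →
        (Nat.lor F (Nat.pow 2 z)) < 2 ^ g.n ∧ Fixes t (Nat.lor F (Nat.pow 2 z)) := by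
      intro l hl he
      have hz : (g.cmasks (Nat.xor (allM g.n) F) l).testBit z = true := by
        rw [he, two_pow_testBit]
      have hzF : ∀ (l : List (Bool × ℕ)) (y : ℕ),
          (g.cmasks (Nat.xor (allM g.n) F) l).testBit y = true → y < g.n := by
        intro l
        induction l with
        | nil =>
          intro y hy
          change (Nat.xor (allM g.n) F).testBit y = true at hy
          change ((allM g.n) ^^^ F).testBit y = true at hy
          rw [Nat.testBit_xor, allM_testBit] at hy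
          by_contra hc
          have hF0 : F.testBit y = false := by
            rw [Bool.eq_false_iff]; exact fun h => hc (lt_of_bit h)
          rw [hF0] at hy
          simp [hc] at hy
        | cons c l ih =>
          intro y hy
          change ((g.cmask c) &&& (g.cmasks (Nat.xor (allM g.n) F) l)).testBit y = true at hy
          rw [Nat.testBit_and, Bool.and_eq_true] at hy
          exact ih y hy.2
      have hzn := hzF l z hz
      have htz : t ⟨z, hzn⟩ = ⟨z, hzn⟩ := by
        have := cmasks_pres hg ht hF l hl ⟨z, hzn⟩ hz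
        rw [he, two_pow_testBit] at this
        exact Fin.ext this.symm
      refine ⟨Nat.or_lt_two_pow hFlt (Nat.pow_lt_pow_right (by norm_num) hzn), ?_⟩
      intro w hw
      change (F ||| 2 ^ z).testBit w = true at hw
      rw [Nat.testBit_or, Bool.or_eq_true] at hw
      rcases hw with hw | hw
      · exact hF w hw
      · have := (two_pow_testBit z w).1 hw
        have : w = ⟨z, hzn⟩ := Fin.ext this.symm
        rw [this, htz]
    have m1 : (x1 < g.n ∧ F.testBit x1 = true) := ⟨lt_of_bit hx1', hx1'⟩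
    have m2 : (x2 < g.n ∧ F.testBit x2 = true) := ⟨lt_of_bit hx2', hx2'⟩
    cases hb : Nat.beq x3 4095 with
    | true =>
      rw [hb] at h3
      change Nat.beq _ _ = true at h3
      rw [Nat.beq_eq] at h3
      apply key [(false, x1), (false, x2)]
      · intro c hc
        simp only [List.mem_cons, List.not_mem_nil, or_false] at hc
        rcases hc with rfl | rfl
        · exact m1
        · exact m2
      · rw [← h3]
        change (g.nb x1) &&& ((g.nb x2) &&& (Nat.xor (allM g.n) F)) =
          ((g.nb x1) &&& (g.nb x2)) &&& (Nat.xor (allM g.n) F)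
        rw [Nat.and_assoc]
    | false =>
      rw [hb] at h3
      change (_ && _) = true at h3
      simp only [Bool.and_eq_true, Nat.beq_eq] at h3
      obtain ⟨hx3, he⟩ := h3
      have hx3' := tb_one (by rw [Nat.beq_eq]; exact hx3)
      apply key [(false, x1), (false, x2), (true, x3)]
      · intro c hc
        simp only [List.mem_cons, List.not_mem_nil, or_false] at hc
        rcases hc with rfl | rfl | rfl
        · exact m1
        · exact m2
        · exact ⟨lt_of_bit hx3', hx3'⟩
      · rw [← he]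
        change (g.nb x1) &&& ((g.nb x2) &&& ((g.row2 x3) &&& (Nat.xor (allM g.n) F))) =
          ((g.nb x1) &&& (g.nb x2)) &&& ((g.row2 x3) &&& (Nat.xor (allM g.n) F))
        rw [Nat.and_assoc]

theorem runC_sound {nl : ℕ} (hg : g.chkGeo nl = true) (cert cnt : ℕ) {t : Equiv.Perm (Fin g.n)}
    (ht : g.Pres t) : ∀ (k off F : ℕ), F < 2 ^ g.n → (F ≠ 0 → Fixes t F) →
      g.runC cert cnt k off F < 2 ^ g.n ∧
        (g.runC cert cnt k off F ≠ 0 → Fixes t (g.runC cert cnt k off F)) := by
  intro k
  induction k with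
  | zero =>
    intro off F hlt hF
    change (Bool.rec (Bool.rec (g.stepC cert off F) 0 (Nat.beq F 0)) F (Nat.ble cnt off) : ℕ) < _ ∧
      ((Bool.rec (Bool.rec (g.stepC cert off F) 0 (Nat.beq F 0)) F (Nat.ble cnt off) : ℕ) ≠ 0 →
        Fixes t (Bool.rec (Bool.rec (g.stepC cert off F) 0 (Nat.beq F 0)) F (Nat.ble cnt off) : ℕ))
    cases Nat.ble cnt off with
    | true => exact ⟨hlt, hF⟩
    | false =>
      cases hb : Nat.beq F 0 with
      | true => exact ⟨Nat.two_pow_pos _, fun h => absurd rfl h⟩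
      | false =>
        have hF0 : F ≠ 0 := by
          intro h; rw [h] at hb; exact absurd hb (by decide)
        change g.stepC cert off F < _ ∧ (g.stepC cert off F ≠ 0 → Fixes t (g.stepC cert off F))
        by_cases h0 : g.stepC cert off F = 0
        · rw [h0]; exact ⟨Nat.two_pow_pos _, fun h => absurd rfl h⟩
        · have := stepC_sound hg cert off ht F hlt (hF hF0) h0
          exact ⟨this.1, fun _ => this.2⟩
  | succ k ih =>
    intro off F hlt hF
    change (Bool.rec (forceN (g.runC cert cnt k off F) fun F' => g.runC cert cnt k (off + 2 ^ k) F')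
        F (Nat.ble cnt off) : ℕ) < _ ∧
      ((Bool.rec (forceN (g.runC cert cnt k off F) fun F' => g.runC cert cnt k (off + 2 ^ k) F')
        F (Nat.ble cnt off) : ℕ) ≠ 0 → Fixes t
      (Bool.rec (forceN (g.runC cert cnt k off F) fun F' => g.runC cert cnt k (off + 2 ^ k) F')
        F (Nat.ble cnt off) : ℕ))
    rw [forceN_eq]
    cases Nat.ble cnt off with
    | true => exact ⟨hlt, hF⟩
    | false =>
      obtain ⟨h1, h2⟩ := ih off F hlt hF
      exact ih (off + 2 ^ k) _ h1 h2

theorem chkRun_sound {nl : ℕ} (hg : g.chkGeo nl = true) (cert : ℕ) {t : Equiv.Perm (Fin g.n)}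
    (ht : g.Pres t) (cnt F : ℕ) (hFlt : F < 2 ^ g.n) (h : g.chkRun cert cnt F = true) (hF : Fixes t F)
    (x : Fin g.n) : t x = x := by
  unfold chkRun at h
  rw [Nat.beq_eq] at h
  obtain ⟨h1, h2⟩ := runC_sound hg cert cnt ht (Nat.succ (Nat.log2 cnt)) 0 F hFlt (fun _ => hF)
  have hx : (allM g.n).testBit x = true := by rw [allM_testBit]; simp
  rw [h] at h2
  refine h2 ?_ x hx
  intro h0; rw [h0] at hx; simp at hx

/-- stabiliser of a mask inside a subgroup -/
def stF (A : Subgroup (Equiv.Perm (Fin g.n))) (F : ℕ) : Subgroup (Equiv.Perm (Fin g.n)) where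
  carrier := {t | t ∈ A ∧ Fixes t F}
  one_mem' := ⟨A.one_mem, fun x _ => rfl⟩
  mul_mem' := by
    rintro s t ⟨hs, hs'⟩ ⟨ht, ht'⟩
    refine ⟨A.mul_mem hs ht, fun x hx => ?_⟩
    rw [Equiv.Perm.mul_apply, ht' x hx, hs' x hx]
  inv_mem' := by
    rintro s ⟨hs, hs'⟩
    refine ⟨A.inv_mem hs, fun x hx => ?_⟩
    rw [Equiv.Perm.inv_eq_iff_eq, hs' x hx]

theorem mem_stF {A : Subgroup (Equiv.Perm (Fin g.n))} {F : ℕ} {t : Equiv.Perm (Fin g.n)} :
    t ∈ stF A F ↔ t ∈ A ∧ Fixes t F := Iff.rfl

theorem card_chain (A : Subgroup (Equiv.Perm (Fin g.n))) (F : ℕ) (z : Fin g.n)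
    (cands : Finset (Fin g.n)) (h : ∀ t ∈ stF A F, t z ∈ cands) :
    Nat.card (stF A F) ≤ cands.card * Nat.card (stF A (Nat.lor F (Nat.pow 2 z))) := by
  classical
  let B := stF A F
  have h1 : Nat.card B = Nat.card (MulAction.orbit B z) * Nat.card (MulAction.stabilizer B z) := by
    rw [← Nat.card_prod]
    exact (Nat.card_congr (MulAction.orbitProdStabilizerEquivGroup B z)).symm
  have h2 : Nat.card (MulAction.orbit B z) ≤ cands.card := by
    have : MulAction.orbit B z ⊆ (cands : Set (Fin g.n)) := by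
      rintro _ ⟨t, rfl⟩
      exact h t.1 t.2
    calc Nat.card (MulAction.orbit B z) ≤ Nat.card (cands : Set (Fin g.n)) :=
          Nat.card_mono (Finset.finite_toSet _) this
      _ = cands.card := by simp
  have h3 : Nat.card (MulAction.stabilizer B z) ≤ Nat.card (stF A (Nat.lor F (Nat.pow 2 z))) := by
    refine Nat.card_le_card_of_injective
      (fun t : MulAction.stabilizer B z => (⟨t.1.1, ?_⟩ : stF A (Nat.lor F (Nat.pow 2 z)))) ?_
    · obtain ⟨⟨t, ht⟩, hts⟩ := t
      rw [mem_stF]
      refine ⟨ht.1, fun x hx => ?_⟩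
      change (F ||| 2 ^ (z : ℕ)).testBit x = true at hx
      rw [Nat.testBit_or, Bool.or_eq_true] at hx
      rcases hx with hx | hx
      · exact ht.2 x hx
      · have e := (two_pow_testBit (z : ℕ) (x : ℕ)).1 hx
        have e2 : x = z := Fin.ext e.symm
        rw [e2]
        exact hts
    · intro s t hst
      apply Subtype.ext
      apply Subtype.ext
      exact congrArg (fun u : stF A (Nat.lor F (Nat.pow 2 z)) => u.1) hst
  rw [h1]
  exact Nat.mul_le_mul h2 h3

/-- product of the numbers of candidates -/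
def prodLen (st : List (ℕ × List (Bool × ℕ) × List ℕ)) : ℕ := (st.map fun s => s.2.2.length).prod

theorem chkChoices_sound {nl : ℕ} (hg : g.chkGeo nl = true) (A : Subgroup (Equiv.Perm (Fin g.n)))
    (hA : ∀ t ∈ A, g.Pres t) (Fend : ℕ) (st : List (ℕ × List (Bool × ℕ) × List ℕ)) :
    ∀ F, F < 2 ^ g.n → (∀ s ∈ st, s.1 < g.n ∧ s.1 ∈ s.2.2) → g.chkChoices Fend st F = true →
      Nat.card (stF A F) ≤ prodLen st * Nat.card (stF A Fend) := by
  classical
  induction st with
  | nil =>
    intro F _ _ h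
    change Nat.beq F Fend = true at h
    rw [Nat.beq_eq] at h
    rw [h]; simp [prodLen]
  | cons s st ih =>
    intro F hFlt hst h
    have h' : (Bool.rec false (force (Nat.lor F (Nat.pow 2 s.1)) (g.chkChoices Fend st))
      (g.chkChoice F s.2.1 s.2.2) : Bool) = true := h
    rw [and3, Bool.and_eq_true, force_eq] at h'
    obtain ⟨hc, hrec⟩ := h'
    unfold chkChoice at hc
    rw [and3, Bool.and_eq_true, allL_iff, Nat.beq_eq] at hc
    obtain ⟨hc1, hc2⟩ := hc
    obtain ⟨hz, hzc⟩ := hst s List.mem_cons_self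
    have lt_of_bit : ∀ {y : ℕ}, F.testBit y = true → y < g.n := by
      intro y hy
      by_contra hc
      push Not at hc
      have : F < 2 ^ y := lt_of_lt_of_le hFlt (Nat.pow_le_pow_right (by norm_num) hc)
      rw [Nat.testBit_lt_two_pow this] at hy
      exact Bool.noConfusion hy
    have hl : ∀ c ∈ s.2.1, c.2 < g.n ∧ F.testBit c.2 = true := by
      intro c hcm
      have := tb_one (hc1 c hcm)
      exact ⟨lt_of_bit this, this⟩
    let cands : Finset (Fin g.n) := Finset.univ.filter fun y => (y : ℕ) ∈ s.2.2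
    have hcard : cands.card ≤ s.2.2.length := by
      calc cands.card ≤ (cands.map Fin.valEmbedding).card := by rw [Finset.card_map]
        _ ≤ s.2.2.toFinset.card := by
            apply Finset.card_le_card
            intro y hy
            rw [Finset.mem_map] at hy
            obtain ⟨w, hw, rfl⟩ := hy
            rw [List.mem_toFinset]
            exact (Finset.mem_filter.1 hw).2
        _ ≤ s.2.2.length := List.toFinset_card_le _
    have hstep := card_chain A F ⟨s.1, hz⟩ cands (by
      intro t ht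
      rw [mem_stF] at ht
      rw [Finset.mem_filter]
      refine ⟨Finset.mem_univ _, ?_⟩
      rw [← pows_iff, ← hc2]
      apply cmasks_pres hg (hA t ht.1) ht.2 _ hl
      rw [hc2, pows_iff]
      exact hzc)
    have hrec' := ih (Nat.lor F (Nat.pow 2 s.1))
      (Nat.or_lt_two_pow hFlt (Nat.pow_lt_pow_right (by norm_num) hz))
      (fun s' hs' => hst s' (List.mem_cons_of_mem _ hs')) hrec
    calc Nat.card (stF A F) ≤ cands.card * Nat.card (stF A (Nat.lor F (Nat.pow 2 s.1))) := hstep
      _ ≤ s.2.2.length * (prodLen st * Nat.card (stF A Fend)) := Nat.mul_le_mul hcard hrec'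
      _ = prodLen (s :: st) * Nat.card (stF A Fend) := by
          unfold prodLen; rw [List.map_cons, List.prod_cons, mul_assoc]

/-- the final bound: first base point `b0` (any image), then the choices, then the closure -/
theorem card_bound {nl : ℕ} (hg : g.chkGeo nl = true) (A : Subgroup (Equiv.Perm (Fin g.n)))
    (hA : ∀ t ∈ A, g.Pres t) (b0 : Fin g.n) (st : List (ℕ × List (Bool × ℕ) × List ℕ)) (Fend : ℕ)
    (hst : ∀ s ∈ st, s.1 < g.n ∧ s.1 ∈ s.2.2)
    (h1 : g.chkChoices Fend st (Nat.pow 2 b0) = true) (hF : Fend < 2 ^ g.n) (cert cnt : ℕ)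
    (h2 : g.chkRun cert cnt Fend = true) :
    Nat.card A ≤ g.n * prodLen st := by
  classical
  have e0 : stF A 0 = A := by
    ext t
    rw [mem_stF]
    exact ⟨fun h => h.1, fun h => ⟨h, fun x hx => by simp at hx⟩⟩
  have s0 := card_chain A 0 b0 Finset.univ (fun _ _ => Finset.mem_univ _)
  rw [e0, Finset.card_univ, Fintype.card_fin] at s0
  have e1 : Nat.lor 0 (Nat.pow 2 b0) = Nat.pow 2 b0 := by
    change 0 ||| _ = _; simp
  rw [e1] at s0
  have s1 := chkChoices_sound hg A hA Fend st (Nat.pow 2 b0)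
    (Nat.pow_lt_pow_right (by norm_num) b0.2) hst h1
  have s2 : Nat.card (stF A Fend) = 1 := by
    have : stF A Fend = ⊥ := by
      rw [eq_bot_iff]
      intro t ht
      rw [mem_stF] at ht
      rw [Subgroup.mem_bot]
      ext x
      rw [chkRun_sound hg cert (hA t ht.1) cnt Fend hF h2 ht.2 x]; rfl
    rw [this]; simp
  rw [s2, mul_one] at s1
  exact le_trans s0 (Nat.mul_le_mul_left _ s1)

end Geo

end Cfsg.Agent.SporRec.R3.Base
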