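import Mathlib

/-! Abstract rank three configurations: adjacency, regularity, the parameters `lam`, `mu`,
counting identities. -/

set_option autoImplicit false

namespace Cfsg.Agent.SporRec.R3.Config

open Finset

/-- A transitive permutation group `G` on `Ω`, a point `α`, an action of `H` identified with the
stabiliser of `α`, with exactly three orbits `{α}`, `Δ`, `Λ` of different lengths. -/
structure Conf (Ω : Type*) [Fintype Ω] [DecidableEq Ω] (H : Type*) [Group H] where
  G : Subgroup (Equiv.Perm Ω)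
  α : Ω
  act : H →* Equiv.Perm Ω
  Δ : Finset Ω
  Λ : Finset Ω
  trans : ∀ x y : Ω, ∃ g ∈ G, g x = y
  act_mem : ∀ h, act h ∈ G
  act_fix : ∀ h, act h α = α
  act_surj : ∀ g ∈ G, g α = α → ∃ h, act h = g
  hΔ : ∀ h, ∀ x ∈ Δ, act h x ∈ Δ
  hΛ : ∀ h, ∀ x ∈ Λ, act h x ∈ Λ
  tΔ : ∀ x ∈ Δ, ∀ y ∈ Δ, ∃ h, act h x = y
  tΛ : ∀ x ∈ Λ, ∀ y ∈ Λ, ∃ h, act h x = y
  cover : ∀ x, x = α ∨ x ∈ Δ ∨ x ∈ Λ
  αΔ : α ∉ Δ
  αΛ : α ∉ Λ
  disj : Disjoint Δ Λ
  neΔ : Δ.Nonempty
  neΛ : Λ.Nonempty
  card_ne : Δ.card ≠ Λ.card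

namespace Conf

variable {Ω : Type*} [Fintype Ω] [DecidableEq Ω] {H : Type*} [Group H] (C : Conf Ω H)

/-- adjacency in the orbital graph of `Δ` -/
def adj (x y : Ω) : Prop := ∃ g ∈ C.G, g C.α = x ∧ g⁻¹ y ∈ C.Δ

noncomputable instance adjDec (x : Ω) : DecidablePred (C.adj x) := fun _ => Classical.dec _
noncomputable instance adjDec2 (x y : Ω) : Decidable (C.adj x y) := Classical.dec _

theorem adj_iff {g : Equiv.Perm Ω} (hg : g ∈ C.G) {x : Ω} (hx : g C.α = x) (y : Ω) :
    C.adj x y ↔ g⁻¹ y ∈ C.Δ := by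
  constructor
  · rintro ⟨g', hg', hx', hy⟩
    have h1 : g⁻¹ * g' ∈ C.G := C.G.mul_mem (C.G.inv_mem hg) hg'
    have h2 : (g⁻¹ * g') C.α = C.α := by
      rw [Equiv.Perm.mul_apply, hx', ← hx]; simp
    obtain ⟨h, hh⟩ := C.act_surj _ h1 h2
    have := C.hΔ h _ hy
    rw [hh] at this
    simpa [Equiv.Perm.mul_apply] using this
  · intro h; exact ⟨g, hg, hx, h⟩

theorem adj_smul {g : Equiv.Perm Ω} (hg : g ∈ C.G) (x y : Ω) :
    C.adj (g x) (g y) ↔ C.adj x y := by
  obtain ⟨u, hu, hux⟩ := C.trans C.α x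
  rw [C.adj_iff hu hux, C.adj_iff (C.G.mul_mem hg hu) (x := g x) (by simp [Equiv.Perm.mul_apply, hux])]
  simp [mul_inv_rev, Equiv.Perm.mul_apply]

theorem adj_act (h : H) (x y : Ω) : C.adj (C.act h x) (C.act h y) ↔ C.adj x y :=
  C.adj_smul (C.act_mem h) x y

theorem adj_alpha (y : Ω) : C.adj C.α y ↔ y ∈ C.Δ := by
  rw [C.adj_iff C.G.one_mem (x := C.α) (by simp)]; simp

/-- neighbours -/
noncomputable def N (x : Ω) : Finset Ω := univ.filter (C.adj x)

theorem mem_N (x y : Ω) : y ∈ C.N x ↔ C.adj x y := by simp [N]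

theorem N_alpha : C.N C.α = C.Δ := by ext y; rw [mem_N, adj_alpha]

theorem N_smul {g : Equiv.Perm Ω} (hg : g ∈ C.G) (x : Ω) : C.N (g x) = (C.N x).map g.toEmbedding := by
  ext y
  rw [mem_N, Finset.mem_map_equiv, mem_N, ← C.adj_smul hg x]
  simp

theorem card_N (x : Ω) : (C.N x).card = C.Δ.card := by
  obtain ⟨g, hg, hx⟩ := C.trans C.α x
  rw [← hx, C.N_smul hg, Finset.card_map, C.N_alpha]

theorem adj_alpha_symm (x : Ω) : C.adj x C.α ↔ x ∈ C.Δ := by
  classical
  -- in-neighbours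
  let M : Ω → Finset Ω := fun y => univ.filter fun x => C.adj x y
  have hM : ∀ x y, x ∈ M y ↔ C.adj x y := fun x y => by simp [M]
  have hMc : ∀ y, (M y).card = (M C.α).card := by
    intro y
    obtain ⟨g, hg, hx⟩ := C.trans C.α y
    have : M (g C.α) = (M C.α).map g.toEmbedding := by
      ext z
      rw [hM, Finset.mem_map_equiv, hM, ← C.adj_smul hg _ C.α]
      simp
    rw [← hx, this, Finset.card_map]
  have hsum : ∑ x, (C.N x).card = ∑ y, (M y).card := by
    have := Finset.sum_card_bipartiteAbove_eq_sum_card_bipartiteBelow (s := (univ : Finset Ω))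
      (t := (univ : Finset Ω)) (fun x y => C.adj x y)
    exact this
  have hpos : 0 < Fintype.card Ω := Fintype.card_pos_iff.mpr ⟨C.α⟩
  have hcard : (M C.α).card = C.Δ.card := by
    rw [Finset.sum_congr rfl (fun x _ => C.card_N x), Finset.sum_congr rfl (fun y _ => hMc y)] at hsum
    simp only [Finset.sum_const, smul_eq_mul, Finset.card_univ] at hsum
    exact (Nat.eq_of_mul_eq_mul_left hpos hsum).symm
  have hinv : ∀ h x, x ∈ M C.α → C.act h x ∈ M C.α := by
    intro h x hx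
    rw [hM] at hx ⊢
    have := (C.adj_act h x C.α).2 hx
    rwa [C.act_fix] at this
  have hα : C.α ∉ M C.α := by rw [hM, C.adj_alpha]; exact C.αΔ
  have key : M C.α = C.Δ := by
    by_cases hx : ∃ x ∈ C.Δ, x ∈ M C.α
    · obtain ⟨x, hxΔ, hxM⟩ := hx
      have hsub : C.Δ ⊆ M C.α := by
        intro y hy
        obtain ⟨h, rfl⟩ := C.tΔ x hxΔ y hy
        exact hinv h x hxM
      exact (Finset.eq_of_subset_of_card_le hsub (le_of_eq hcard)).symm
    · exfalso
      push Not at hx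
      have hsubΛ : M C.α ⊆ C.Λ := by
        intro y hy
        rcases C.cover y with h | h | h
        · exact absurd (h ▸ hy) hα
        · exact absurd hy (hx y h)
        · exact h
      have hne : (M C.α).Nonempty := by
        rw [← Finset.card_pos, hcard]; exact C.neΔ.card_pos
      obtain ⟨y, hy⟩ := hne
      have hΛ' : C.Λ ⊆ M C.α := by
        intro z hz
        obtain ⟨h, rfl⟩ := C.tΛ y (hsubΛ hy) z hz
        exact hinv h y hy
      have : M C.α = C.Λ := Finset.Subset.antisymm hsubΛ hΛ'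
      exact C.card_ne (by rw [← hcard, this])
  rw [← hM, key]

theorem adj_symm {x y : Ω} (h : C.adj x y) : C.adj y x := by
  obtain ⟨g, hg, hy⟩ := C.trans C.α y
  rw [C.adj_iff hg hy]
  have : C.adj (g⁻¹ x) C.α := by
    rw [← C.adj_smul hg]; simpa [hy] using h
  exact (C.adj_alpha_symm _).1 this

theorem adj_comm (x y : Ω) : C.adj x y ↔ C.adj y x := ⟨C.adj_symm, C.adj_symm⟩

theorem not_adj_self (x : Ω) : ¬ C.adj x x := by
  obtain ⟨g, hg, hx⟩ := C.trans C.α x
  rw [C.adj_iff hg hx, ← hx]; simpa using C.αΔ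

/-- number of common neighbours -/
noncomputable def cn (x y : Ω) : ℕ := (univ.filter fun z => C.adj x z ∧ C.adj y z).card

theorem cn_smul {g : Equiv.Perm Ω} (hg : g ∈ C.G) (x y : Ω) : C.cn (g x) (g y) = C.cn x y := by
  classical
  unfold cn
  have : (univ.filter fun z => C.adj (g x) z ∧ C.adj (g y) z) =
      (univ.filter fun z => C.adj x z ∧ C.adj y z).map g.toEmbedding := by
    ext z
    rw [Finset.mem_map_equiv]
    simp only [mem_filter, mem_univ, true_and]
    rw [← C.adj_smul hg x, ← C.adj_smul hg y]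
    simp
  rw [this, Finset.card_map]

theorem cn_self (x : Ω) : C.cn x x = C.Δ.card := by
  unfold cn
  have : (univ.filter fun z => C.adj x z ∧ C.adj x z) = C.N x := by ext z; simp [mem_N]
  rw [this, C.card_N]

/-- `lam` -/
noncomputable def lam : ℕ := C.cn C.α C.neΔ.choose
/-- `mu` -/
noncomputable def mu : ℕ := C.cn C.α C.neΛ.choose

theorem cn_adj {x y : Ω} (h : C.adj x y) : C.cn x y = C.lam := by
  obtain ⟨g, hg, hx⟩ := C.trans C.α x
  have h1 := (C.adj_iff hg hx y).1 h
  obtain ⟨k, hk⟩ := C.tΔ _ C.neΔ.choose_spec _ h1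
  have e1 : C.cn x y = C.cn C.α (g⁻¹ y) := by
    rw [← C.cn_smul hg C.α]; simp [hx]
  rw [e1, ← hk]
  have := C.cn_smul (C.act_mem k) C.α C.neΔ.choose
  rw [C.act_fix] at this
  exact this

theorem cn_nonadj {x y : Ω} (hne : x ≠ y) (h : ¬ C.adj x y) : C.cn x y = C.mu := by
  obtain ⟨g, hg, hx⟩ := C.trans C.α x
  have h1 := mt (C.adj_iff hg hx y).2 h
  have h2 : g⁻¹ y ∈ C.Λ := by
    rcases C.cover (g⁻¹ y) with h | h | h
    · exfalso; apply hne
      rw [Equiv.Perm.inv_eq_iff_eq] at h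
      rw [h, hx]
    · exact absurd h h1
    · exact h
  obtain ⟨k, hk⟩ := C.tΛ _ C.neΛ.choose_spec _ h2
  have e1 : C.cn x y = C.cn C.α (g⁻¹ y) := by
    rw [← C.cn_smul hg C.α]; simp [hx]
  rw [e1, ← hk]
  have := C.cn_smul (C.act_mem k) C.α C.neΛ.choose
  rw [C.act_fix] at this
  exact this

/-- for `x ∈ Λ`: number of neighbours in `Δ` is `mu` -/
theorem card_Δ_adj {x : Ω} (hx : x ∈ C.Λ) : (C.Δ.filter fun d => C.adj d x).card = C.mu := by
  have hne : C.α ≠ x := fun h => C.αΛ (h ▸ hx)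
  have hna : ¬ C.adj C.α x := by
    rw [C.adj_alpha]; exact fun h => (Finset.disjoint_left.1 C.disj) h hx
  rw [← C.cn_nonadj hne hna]
  unfold cn
  congr 1
  ext z
  simp only [mem_filter, mem_univ, true_and, C.adj_alpha, C.adj_comm x z]

/-- for `d ∈ Δ`: number of neighbours in `Δ` is `lam` -/
theorem card_Δ_adj' {d : Ω} (hd : d ∈ C.Δ) : (C.Δ.filter fun z => C.adj d z).card = C.lam := by
  rw [← C.cn_adj ((C.adj_alpha d).2 hd)]
  unfold cn
  congr 1
  ext z
  simp only [mem_filter, mem_univ, true_and, C.adj_alpha]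

/-- for `d ∈ Δ`: number of neighbours in `Λ` -/
theorem card_Λ_adj {d : Ω} (hd : d ∈ C.Δ) :
    (C.Λ.filter fun z => C.adj d z).card + C.lam + 1 = C.Δ.card := by
  classical
  have h1 : C.N d = ((C.Λ.filter fun z => C.adj d z) ∪ (C.Δ.filter fun z => C.adj d z)) ∪ {C.α} := by
    ext z
    simp only [mem_N, mem_union, mem_filter, mem_singleton]
    constructor
    · intro h
      rcases C.cover z with h' | h' | h'
      · exact Or.inr h'
      · exact Or.inl (Or.inr ⟨h', h⟩)
      · exact Or.inl (Or.inl ⟨h', h⟩)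
    · rintro ((⟨_, h⟩ | ⟨_, h⟩) | h)
      · exact h
      · exact h
      · rw [h, C.adj_comm]; exact (C.adj_alpha d).2 hd
  have hd1 : Disjoint (C.Λ.filter fun z => C.adj d z) (C.Δ.filter fun z => C.adj d z) := by
    rw [Finset.disjoint_left]
    intro z hz hz'
    exact (Finset.disjoint_left.1 C.disj) (mem_filter.1 hz').1 (mem_filter.1 hz).1
  have hd2 : Disjoint ((C.Λ.filter fun z => C.adj d z) ∪ (C.Δ.filter fun z => C.adj d z)) {C.α} := by
    rw [Finset.disjoint_singleton_right]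
    simp only [mem_union, mem_filter, not_or, not_and]
    exact ⟨fun h => absurd h C.αΛ, fun h => absurd h C.αΔ⟩
  have h2 := C.card_N d
  rw [h1, card_union_of_disjoint hd2, card_union_of_disjoint hd1, C.card_Δ_adj' hd, card_singleton] at h2
  exact h2

/-- for `x ∈ Λ`: number of neighbours in `Λ` -/
theorem card_Λ_adj' {x : Ω} (hx : x ∈ C.Λ) :
    (C.Λ.filter fun z => C.adj x z).card + C.mu = C.Δ.card := by
  classical
  have h1 : C.N x = ((C.Λ.filter fun z => C.adj x z) ∪ (C.Δ.filter fun z => C.adj z x)) := by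
    ext z
    simp only [mem_N, mem_union, mem_filter]
    constructor
    · intro h
      rcases C.cover z with h' | h' | h'
      · exfalso
        rw [h', C.adj_comm, C.adj_alpha] at h
        exact (Finset.disjoint_left.1 C.disj) h hx
      · exact (Or.inr ⟨h', C.adj_symm h⟩)
      · exact (Or.inl ⟨h', h⟩)
    · rintro (⟨_, h⟩ | ⟨_, h⟩)
      · exact h
      · exact C.adj_symm h
  have hd1 : Disjoint (C.Λ.filter fun z => C.adj x z) (C.Δ.filter fun z => C.adj z x) := by
    rw [Finset.disjoint_left]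
    intro z hz hz'
    exact (Finset.disjoint_left.1 C.disj) (mem_filter.1 hz').1 (mem_filter.1 hz).1
  have h2 := C.card_N x
  rw [h1, card_union_of_disjoint hd1, C.card_Δ_adj hx] at h2
  exact h2

/-- the basic identity `k (k - 1 - lam) = l mu` -/
theorem k_l_identity (c : ℕ) (hc : c + C.lam + 1 = C.Δ.card) : C.Δ.card * c = C.Λ.card * C.mu := by
  classical
  have hsum : ∑ d ∈ C.Δ, (C.Λ.filter fun z => C.adj d z).card =
      ∑ x ∈ C.Λ, (C.Δ.filter fun d => C.adj d x).card :=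
    Finset.sum_card_bipartiteAbove_eq_sum_card_bipartiteBelow (fun x y => C.adj x y)
  rw [Finset.sum_congr rfl (fun x hx => show _ = c by have := C.card_Λ_adj hx; omega),
    Finset.sum_congr rfl (fun y hy => C.card_Δ_adj hy)] at hsum
  simpa using hsum

end Conf

end Cfsg.Agent.SporRec.R3.Config
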