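import Cfsg.Agent.SporRec.R3.Base

/-! Groups acting on a point-line geometry given by packed tables. -/

set_option autoImplicit false
set_option linter.unusedSectionVars false

namespace Cfsg.Agent.SporRec.R3.Geom

open Cfsg.Agent.SporRec.R3.Kernel Cfsg.Agent.SporRec.R3.Search Cfsg.Agent.SporRec.R3.Base
open Cfsg.Agent.SporRec.R3.Base.Geo

variable {ι : Type} {H : Type*} [Group H] (g : Geo) (nl : ℕ)

/-- the generators map lines to lines -/
noncomputable def chkCompat (tabP tabL : ι → ℕ) (gens : List ι) : Bool :=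
  allL (fun x => allB (fun l => Nat.beq
    (orS (fun k => Nat.pow 2 (look (tabP x) (look g.L2P (Nat.add (Nat.mul g.s1 l) k)))) g.s1)
    (g.lineMask (look (tabL x) l))) nl) gens

/-- `P2L` lists exactly the lines through a point -/
noncomputable def chkInc : Bool :=
  Bool.rec false
    (allB (fun l => allS (fun k => anyS (fun j => Nat.beq
      (look g.P2L (Nat.add (Nat.mul g.t1 (look g.L2P (Nat.add (Nat.mul g.s1 l) k))) j)) l) g.t1) g.s1) nl)
    (allB (fun x => allS (fun k => Nat.beq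
      (tb (g.lineMask (look g.P2L (Nat.add (Nat.mul g.t1 x) k))) x) 1) g.t1) g.n)

variable {g nl}

theorem line_lt (hg : g.chkGeo nl = true) {l y : ℕ} (hl : l < nl)
    (hy : (g.lineMask l).testBit y = true) : y < g.n := by
  unfold chkGeo at hg
  rw [and3, Bool.and_eq_true, allB_iff, allB_iff] at hg
  rw [lineMask_iff] at hy
  obtain ⟨k, hk, rfl⟩ := hy
  have h1 := hg.1 l hl
  rw [allS_iff] at h1
  have h2 := h1 k hk
  rw [Nat.ble_eq] at h2
  exact h2

theorem p2l_lt (hg : g.chkGeo nl = true) {x k : ℕ} (hx : x < g.n) (hk : k < g.t1) :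
    look g.P2L (g.t1 * x + k) < nl := by
  unfold chkGeo at hg
  rw [and3, Bool.and_eq_true, allB_iff, allB_iff] at hg
  have h1 := hg.2 x hx
  rw [allS_iff] at h1
  have h2 := h1 k hk
  rw [Nat.ble_eq] at h2
  exact h2

/-- incidence read from either table -/
theorem inc_iff (_hg : g.chkGeo nl = true) (hi : chkInc g nl = true) {x l : ℕ} (hx : x < g.n) (hl : l < nl) :
    (g.lineMask l).testBit x = true ↔ ∃ k < g.t1, look g.P2L (g.t1 * x + k) = l := by
  unfold chkInc at hi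
  rw [and3, Bool.and_eq_true, allB_iff, allB_iff] at hi
  obtain ⟨h1, h2⟩ := hi
  constructor
  · intro h
    rw [lineMask_iff] at h
    obtain ⟨k, hk, rfl⟩ := h
    have a1 := h2 l hl
    rw [allS_iff] at a1
    have a2 := a1 k hk
    rw [anyS_iff] at a2
    obtain ⟨j, hj, a3⟩ := a2
    rw [Nat.beq_eq] at a3
    exact ⟨j, hj, a3⟩
  · rintro ⟨k, hk, rfl⟩
    have a1 := h1 x hx
    rw [allS_iff] at a1
    have a2 := a1 k hk
    exact tb_one a2

theorem nb_iff_line (hg : g.chkGeo nl = true) (hi : chkInc g nl = true) {x y : ℕ} (hx : x < g.n) :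
    (g.nb x).testBit y = true ↔
      ∃ l < nl, (g.lineMask l).testBit x = true ∧ (g.lineMask l).testBit y = true := by
  rw [nb_iff]
  constructor
  · rintro ⟨k, hk, h⟩
    have hl := p2l_lt hg hx hk
    exact ⟨_, hl, (inc_iff hg hi hx hl).2 ⟨k, hk, rfl⟩, h⟩
  · rintro ⟨l, hl, h1, h2⟩
    obtain ⟨k, hk, rfl⟩ := (inc_iff hg hi hx hl).1 h1
    exact ⟨k, hk, h2⟩

theorem nb_symm (hg : g.chkGeo nl = true) (hi : chkInc g nl = true) {x y : ℕ} (hx : x < g.n)
    (hy : y < g.n) : (g.nb x).testBit y = true ↔ (g.nb y).testBit x = true := by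
  rw [nb_iff_line hg hi hx, nb_iff_line hg hi hy]
  constructor
  · rintro ⟨l, hl, h1, h2⟩; exact ⟨l, hl, h2, h1⟩
  · rintro ⟨l, hl, h1, h2⟩; exact ⟨l, hl, h2, h1⟩

/-- the action respects incidence -/
def Incl (ρP : H →* Equiv.Perm (Fin g.n)) (ρL : H →* Equiv.Perm (Fin nl)) : Prop :=
  ∀ (h : H) (l : Fin nl) (x : Fin g.n), (g.lineMask l).testBit x = true ↔
    (g.lineMask (ρL h l : Fin nl)).testBit (ρP h x : Fin g.n) = true

theorem incl_of_chk (gen : ι → H) (hclo : Subgroup.closure (Set.range gen) = ⊤)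
    (gens : List ι) (hgens : ∀ x, x ∈ gens)
    (ρP : H →* Equiv.Perm (Fin g.n)) (ρL : H →* Equiv.Perm (Fin nl)) (tabP tabL : ι → ℕ)
    (hP : ∀ x (y : Fin g.n), ((ρP (gen x) y : Fin g.n) : ℕ) = look (tabP x) y)
    (hL : ∀ x (y : Fin nl), ((ρL (gen x) y : Fin nl) : ℕ) = look (tabL x) y)
    (hg : g.chkGeo nl = true)
    (h : chkCompat g nl tabP tabL gens = true) : Incl ρP ρL := by
  intro u
  have hu : u ∈ Subgroup.closure (Set.range gen) := by rw [hclo]; trivial
  induction hu using Subgroup.closure_induction with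
  | mem u hu =>
    obtain ⟨x, rfl⟩ := hu
    intro l y
    unfold chkCompat at h
    rw [allL_iff] at h
    have h1 := h x (hgens x)
    rw [allB_iff] at h1
    have h2 := h1 l l.2
    rw [Nat.beq_eq] at h2
    rw [hL, ← h2, orS_testBit, lineMask_iff, hP]
    simp only [two_pow_testBit]
    constructor
    · rintro ⟨k, hk, e⟩
      refine ⟨k, hk, ?_⟩
      change look (tabP x) (look g.L2P (g.s1 * l + k)) = _
      rw [e]
    · rintro ⟨k, hk, e⟩
      refine ⟨k, hk, ?_⟩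
      change look (tabP x) (look g.L2P (g.s1 * l + k)) = _ at e
      have hlt : look g.L2P (g.s1 * l + k) < g.n :=
        line_lt hg l.2 ((lineMask_iff g l _).2 ⟨k, hk, rfl⟩)
      have e2 : ρP (gen x) ⟨_, hlt⟩ = ρP (gen x) y := by
        apply Fin.ext; rw [hP, hP]; exact e
      have := (ρP (gen x)).injective e2
      exact congrArg Fin.val this
  | one => intro l y; simp
  | mul u v _ _ hu hv =>
    intro l y
    rw [map_mul, map_mul, Equiv.Perm.mul_apply, Equiv.Perm.mul_apply, hv l y, hu]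
  | inv u _ hu =>
    intro l y
    rw [hu (ρL u⁻¹ l) (ρP u⁻¹ y), map_inv, map_inv]; simp

theorem nb_inv {ρP : H →* Equiv.Perm (Fin g.n)} {ρL : H →* Equiv.Perm (Fin nl)}
    (hg : g.chkGeo nl = true) (hi : chkInc g nl = true) (hI : Incl ρP ρL) (h : H) (x y : Fin g.n) :
    (g.nb x).testBit y = true ↔ (g.nb (ρP h x : Fin g.n)).testBit (ρP h y : Fin g.n) = true := by
  rw [nb_iff_line hg hi x.2, nb_iff_line hg hi (ρP h x).2]
  constructor
  · rintro ⟨l, hl, h1, h2⟩
    exact ⟨(ρL h ⟨l, hl⟩ : Fin nl), (ρL h ⟨l, hl⟩).2, (hI h ⟨l, hl⟩ x).1 h1, (hI h ⟨l, hl⟩ y).1 h2⟩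
  · rintro ⟨l, hl, h1, h2⟩
    refine ⟨(ρL h⁻¹ ⟨l, hl⟩ : Fin nl), (ρL h⁻¹ ⟨l, hl⟩).2, ?_, ?_⟩
    · have := (hI h⁻¹ ⟨l, hl⟩ (ρP h x)).1 h1
      rwa [← Equiv.Perm.mul_apply, ← map_mul, inv_mul_cancel, map_one, Equiv.Perm.one_apply] at this
    · have := (hI h⁻¹ ⟨l, hl⟩ (ρP h y)).1 h2
      rwa [← Equiv.Perm.mul_apply, ← map_mul, inv_mul_cancel, map_one, Equiv.Perm.one_apply] at this

end Cfsg.Agent.SporRec.R3.Geom
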