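import Cfsg.Agent.SporRec.R3.YPart

/-! Orbit counting for a homomorphism into a permutation group, and the parametrisation of `Λ`
from an equality of point stabilisers. -/

set_option autoImplicit false
set_option linter.unusedSectionVars false

namespace Cfsg.Agent.SporRec.R3.Orb

open Finset Cfsg.Agent.SporRec.R3.Config Cfsg.Agent.SporRec.R3.YPart

variable {H X : Type*} [Group H]

/-- the stabiliser of a point -/
def stab (ρ : H →* Equiv.Perm X) (x : X) : Subgroup H where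
  carrier := {h | ρ h x = x}
  one_mem' := by simp
  mul_mem' := by
    intro a b (ha : ρ a x = x) (hb : ρ b x = x)
    change ρ (a * b) x = x
    rw [map_mul, Equiv.Perm.mul_apply, hb, ha]
  inv_mem' := by
    intro a (ha : ρ a x = x)
    change ρ a⁻¹ x = x
    rw [map_inv, Equiv.Perm.inv_eq_iff_eq, ha]

theorem mem_stab {ρ : H →* Equiv.Perm X} {x : X} {h : H} : h ∈ stab ρ x ↔ ρ h x = x := Iff.rfl

/-- the orbit of a point under a subgroup -/
def orb (ρ : H →* Equiv.Perm X) (P : Subgroup H) (x : X) : Set X := {y | ∃ p ∈ P, ρ p x = y}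

theorem mem_orb {ρ : H →* Equiv.Perm X} {P : Subgroup H} {x y : X} :
    y ∈ orb ρ P x ↔ ∃ p ∈ P, ρ p x = y := Iff.rfl

theorem self_mem_orb (ρ : H →* Equiv.Perm X) (P : Subgroup H) (x : X) : x ∈ orb ρ P x :=
  ⟨1, P.one_mem, by simp⟩

theorem orb_mono {ρ : H →* Equiv.Perm X} {P Q : Subgroup H} (h : P ≤ Q) (x : X) :
    orb ρ P x ⊆ orb ρ Q x := fun _ ⟨p, hp, e⟩ => ⟨p, h hp, e⟩

theorem orb_smul {ρ : H →* Equiv.Perm X} {P : Subgroup H} {x y : X} {p : H} (hp : p ∈ P)
    (hy : y ∈ orb ρ P x) : ρ p y ∈ orb ρ P x := by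
  obtain ⟨q, hq, rfl⟩ := hy
  exact ⟨p * q, P.mul_mem hp hq, by rw [map_mul, Equiv.Perm.mul_apply]⟩

theorem orb_eq {ρ : H →* Equiv.Perm X} {P : Subgroup H} {x y : X} (hy : y ∈ orb ρ P x) :
    orb ρ P y = orb ρ P x := by
  obtain ⟨q, hq, rfl⟩ := hy
  ext z
  constructor
  · rintro ⟨p, hp, rfl⟩
    exact ⟨p * q, P.mul_mem hp hq, by rw [map_mul, Equiv.Perm.mul_apply]⟩
  · rintro ⟨p, hp, rfl⟩
    refine ⟨p * q⁻¹, P.mul_mem hp (P.inv_mem hq), ?_⟩
    rw [map_mul, Equiv.Perm.mul_apply, map_inv]; simp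

/-- orbit-stabiliser -/
theorem orb_card [Finite H] (ρ : H →* Equiv.Perm X) (P : Subgroup H) (x : X) :
    (orb ρ P x).ncard * Nat.card (P ⊓ stab ρ x : Subgroup H) = Nat.card P := by
  classical
  let _ : MulAction P X := MulAction.compHom X (ρ.comp P.subtype)
  have e1 : orb ρ P x = MulAction.orbit P x := by
    ext y
    constructor
    · rintro ⟨p, hp, rfl⟩; exact ⟨⟨p, hp⟩, rfl⟩
    · rintro ⟨p, rfl⟩; exact ⟨p, p.2, rfl⟩
  have e2 : Nat.card (P ⊓ stab ρ x : Subgroup H) = Nat.card (MulAction.stabilizer P x) := by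
    apply Nat.card_congr
    exact {
      toFun := fun h => ⟨⟨h.1, h.2.1⟩, h.2.2⟩
      invFun := fun h => ⟨h.1.1, h.1.2, h.2⟩
      left_inv := fun h => rfl
      right_inv := fun h => rfl }
  rw [e1, e2, ← Nat.card_coe_set_eq]
  have h3 := Nat.card_congr (MulAction.orbitEquivQuotientStabilizer P x)
  rw [h3, ← Subgroup.card_eq_card_quotient_mul_card_subgroup]

/-- index form: full orbit -/
theorem orb_card_top [Finite H] (ρ : H →* Equiv.Perm X) (x : X) [Finite X] (ht : ∀ y, ∃ h, ρ h x = y) :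
    Nat.card X * Nat.card (stab ρ x) = Nat.card H := by
  have h := orb_card ρ ⊤ x
  have e1 : orb ρ ⊤ x = Set.univ := by
    ext y
    obtain ⟨u, hu⟩ := ht y
    exact ⟨fun _ => trivial, fun _ => ⟨u, trivial, hu⟩⟩
  rw [e1, Set.ncard_univ, top_inf_eq] at h
  rw [h]
  exact Nat.card_congr Subgroup.topEquiv.toEquiv

/-- stabilisers of points in the same orbit are conjugate -/
theorem mem_stab_conj {ρ : H →* Equiv.Perm X} {x : X} {h g : H} :
    g ∈ stab ρ (ρ h x) ↔ h⁻¹ * g * h ∈ stab ρ x := by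
  rw [mem_stab, mem_stab]
  simp only [map_mul, Equiv.Perm.mul_apply, map_inv]
  rw [Equiv.Perm.inv_eq_iff_eq]

/-- a subgroup with the order of a group containing it is that group -/
theorem eq_of_le_of_card [Finite H] {P Q : Subgroup H} (h : P ≤ Q) (hc : Nat.card Q ≤ Nat.card P) : P = Q := by
  apply SetLike.coe_injective
  exact Set.eq_of_subset_of_ncard_le h hc

/-- a two-group acting on an odd number of points has a fixed point -/
theorem exists_fixed {p : ℕ} [Fact p.Prime] [Finite H] [Finite X] (ρ : H →* Equiv.Perm X) (T : Subgroup H) (n : ℕ)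
    (hT : Nat.card T = p ^ n) (hX : ¬ p ∣ Nat.card X) : ∃ x, T ≤ stab ρ x := by
  classical
  let _ : MulAction T X := MulAction.compHom X (ρ.comp T.subtype)
  have hp : IsPGroup p T := IsPGroup.of_card hT
  obtain ⟨x, hx⟩ := hp.nonempty_fixed_point_of_prime_not_dvd_card X hX
  exact ⟨x, fun t ht => hx ⟨t, ht⟩⟩

variable {Ω : Type*} [Fintype Ω] [DecidableEq Ω]
variable {Y : Type*} [Fintype Y] [DecidableEq Y]

/-- the parametrisation of `Λ` from an equality of stabilisers -/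
noncomputable def ofStab (C : Conf Ω H) (ρ : H →* Equiv.Perm Y) {c : Ω} (hc : c ∈ C.Λ) (y1 : Y)
    (ht : ∀ y, ∃ h, ρ h y1 = y) (hs : stab C.act c = stab ρ y1) : YMap C ρ where
  f y := C.act (ht y).choose c
  inj := by
    intro y z h
    have h1 : (ht z).choose⁻¹ * (ht y).choose ∈ stab C.act c := by
      rw [mem_stab, map_mul, Equiv.Perm.mul_apply]
      dsimp only at h
      rw [h, map_inv]; simp
    rw [hs, mem_stab, map_mul, Equiv.Perm.mul_apply, (ht y).choose_spec, map_inv,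
      Equiv.Perm.inv_eq_iff_eq, (ht z).choose_spec] at h1
    exact h1
  mem y := C.hΛ _ _ hc
  surj x hx := by
    obtain ⟨h, hh⟩ := C.tΛ c hc x hx
    refine ⟨ρ h y1, ?_⟩
    have h1 : h⁻¹ * (ht (ρ h y1)).choose ∈ stab ρ y1 := by
      rw [mem_stab, map_mul, Equiv.Perm.mul_apply, (ht (ρ h y1)).choose_spec, map_inv]; simp
    rw [← hs, mem_stab, map_mul, Equiv.Perm.mul_apply, map_inv, Equiv.Perm.inv_eq_iff_eq, hh] at h1
    exact h1
  eqv h y := by
    have h1 : (h * (ht y).choose)⁻¹ * (ht (ρ h y)).choose ∈ stab ρ y1 := by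
      rw [mem_stab, map_mul, Equiv.Perm.mul_apply, (ht (ρ h y)).choose_spec, map_inv,
        Equiv.Perm.inv_eq_iff_eq, map_mul, Equiv.Perm.mul_apply, (ht y).choose_spec]
    rw [← hs, mem_stab, map_mul, Equiv.Perm.mul_apply, map_inv, Equiv.Perm.inv_eq_iff_eq, map_mul,
      Equiv.Perm.mul_apply] at h1
    exact h1

end Cfsg.Agent.SporRec.R3.Orb
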