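import Cfsg.Agent.SporRec.R3.YPart
import Cfsg.Agent.SporRec.R3.Kernel

/-! The equation `|S d ∩ N(y)| = a [y ∈ S d] + b` from the suborbit data of `Y`. -/

set_option autoImplicit false
set_option linter.unusedSectionVars false

namespace Cfsg.Agent.SporRec.R3.Scheme

open Finset Cfsg.Agent.SporRec.R3.Config Cfsg.Agent.SporRec.R3.YPart Cfsg.Agent.SporRec.R3.Kernel

variable {Ω : Type*} [Fintype Ω] [DecidableEq Ω] {H : Type*} [Group H]
variable {Y : Type*} [Fintype Y] [DecidableEq Y]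
variable {C : Conf Ω H} {ρ : H →* Equiv.Perm Y}

/-- the class function `cls` has the property that points of the same class are conjugate
under the stabiliser of `y0` -/
def StabTrans (ρ : H →* Equiv.Perm Y) (y0 : Y) (cls : Y → ℕ) : Prop :=
  ∀ y z : Y, cls y = cls z → ∃ h, ρ h y0 = y0 ∧ ρ h y = z

/-- the points of class `c` -/
def D (cls : Y → ℕ) (c : ℕ) : Finset Y := univ.filter fun y => cls y = c

theorem mem_D (cls : Y → ℕ) (c : ℕ) (y : Y) : y ∈ D cls c ↔ cls y = c := by simp [D]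

theorem D_sub_or_disj (M : YMap C ρ) {y0 : Y} {cls : Y → ℕ} (hst : StabTrans ρ y0 cls) (c : ℕ) :
    D cls c ⊆ M.A y0 ∨ Disjoint (D cls c) (M.A y0) := by
  apply M.sub_or_disj
  intro y hy z hz
  rw [mem_D] at hy hz
  exact hst y z (by rw [hy, hz])

theorem mem_A_rho (M : YMap C ρ) (h : H) (y0 w : Y) :
    w ∈ M.A (ρ h y0) ↔ ρ h⁻¹ w ∈ M.A y0 := by
  rw [← M.A_act h y0 (ρ h⁻¹ w), ← Equiv.Perm.mul_apply, ← map_mul]; simp

/-- the value of `m y0 z` on a class -/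
theorem m_class (M : YMap C ρ) {y0 : Y} {cls : Y → ℕ} (hst : StabTrans ρ y0 cls) {c0 : ℕ}
    (hA : M.A y0 = D cls c0) {c p : ℕ} (h : H) (hr : cls (ρ h y0) = c)
    (hp : (univ.filter fun w => cls w = c0 ∧ cls (ρ h⁻¹ w) = c0).card = p)
    (z : Y) (hz : cls z = c) : M.m y0 z + p = C.cn (M.f y0) (M.f z) := by
  classical
  obtain ⟨s, hs0, hs⟩ := hst (ρ h y0) z (by rw [hr, hz])
  rw [← M.m_add y0 z]
  congr 1
  have e := M.A_inter_act s y0 (ρ h y0)
  rw [hs0, hs] at e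
  rw [e, ← hp]
  congr 1
  ext w
  rw [mem_inter, mem_A_rho, hA, mem_D, mem_D, mem_filter]
  simp

/-- the main equation -/
theorem eqn (M : YMap C ρ) {y0 : Y} {cls : Y → ℕ} (mval : ℕ → ℕ) (valid : ℕ → Prop)
    (hm : ∀ z, valid (cls z) → M.m y0 z = mval (cls z)) (c1 : ℕ) (hv1 : valid c1)
    (n1 trow : ℕ) (hn1 : (D cls c1).card = n1)
    (hrow : ∀ q ∈ D cls c1, ∃ h, ρ h y0 = q ∧
      (∀ q' ∈ D cls c1, valid (cls (ρ h⁻¹ q'))) ∧
      ∑ q' ∈ D cls c1, mval (cls (ρ h⁻¹ q')) = trow)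
    (a b : ℤ)
    (harith : (n1 : ℤ) * trow + a ^ 2 * C.mu + b ^ 2 * C.Δ.card - 2 * a * (n1 * mval c1)
      - 2 * b * (n1 * C.mu) + 2 * a * b * C.mu = 0) :
    ∀ d ∈ C.Δ, ((M.S d ∩ D cls c1).card : ℤ) = a * (if y0 ∈ M.S d then 1 else 0) + b := by
  classical
  have hsq := sumsq C.Δ M.S (D cls c1) y0 a b
  have e1 : ∀ q q', ((C.Δ.filter fun d => q ∈ M.S d ∧ q' ∈ M.S d).card : ℤ) = M.m q q' := fun _ _ => rfl
  simp only [e1, M.m_self] at hsq
  have e2 : (∑ q ∈ D cls c1, ∑ q' ∈ D cls c1, (M.m q q' : ℤ)) = n1 * trow := by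
    rw [← hn1, ← nsmul_eq_mul, ← sum_const]
    apply sum_congr rfl
    intro q hq
    obtain ⟨h, h0, hval, hs⟩ := hrow q hq
    rw [← hs]
    push_cast
    apply sum_congr rfl
    intro q' hq'
    rw [← hm _ (hval q' hq'), ← M.m_act h y0 (ρ h⁻¹ q'), h0, ← Equiv.Perm.mul_apply, ← map_mul]
    simp
  have e3 : (∑ q ∈ D cls c1, (M.m y0 q : ℤ)) = n1 * mval c1 := by
    rw [← hn1]
    rw [sum_congr rfl (g := fun _ => (mval c1 : ℤ))]
    · simp
    · intro q hq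
      rw [mem_D] at hq
      rw [hm q (by rw [hq]; exact hv1), hq]
  have e4 : (∑ q ∈ D cls c1, (C.mu : ℤ)) = n1 * C.mu := by
    rw [← hn1]; simp
  rw [e2, e3, e4] at hsq
  have hz : ∑ d ∈ C.Δ, (((M.S d ∩ D cls c1).card : ℤ) - a * (if y0 ∈ M.S d then 1 else 0) - b) ^ 2 = 0 := by
    rw [hsq]; linarith
  intro d hd
  have := (sum_eq_zero_iff_of_nonneg (fun d _ => sq_nonneg _)).1 hz d hd
  have h2 := pow_eq_zero_iff (two_ne_zero) |>.1 this
  linarith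

/-- transported version -/
theorem eqn_transport (M : YMap C ρ) {y0 : Y} {D1 : Finset Y} {a b : ℤ}
    (h0 : ∀ d ∈ C.Δ, ((M.S d ∩ D1).card : ℤ) = a * (if y0 ∈ M.S d then 1 else 0) + b)
    (h : H) (d : Ω) (hd : d ∈ C.Δ) :
    ((D1.filter fun q => ρ h q ∈ M.S d).card : ℤ) = a * (if ρ h y0 ∈ M.S d then 1 else 0) + b := by
  classical
  have hd' := C.hΔ h⁻¹ d hd
  have hkey : ∀ q, q ∈ M.S (C.act h⁻¹ d) ↔ ρ h q ∈ M.S d := by
    intro q
    rw [← M.S_act h (C.act h⁻¹ d) q, ← Equiv.Perm.mul_apply, ← map_mul]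
    simp
  have := h0 _ hd'
  rw [inter_comm, ← filter_mem_eq_inter] at this
  simp only [hkey] at this
  exact this

end Cfsg.Agent.SporRec.R3.Scheme
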