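import Cfsg.Agent.SporRec.R3.Scheme

/-! Kernel checkers for the suborbit data. -/

set_option autoImplicit false
set_option linter.unusedSectionVars false

namespace Cfsg.Agent.SporRec.R3.SchemeK

open Finset Cfsg.Agent.SporRec.R3.Config Cfsg.Agent.SporRec.R3.YPart Cfsg.Agent.SporRec.R3.Kernel
open Cfsg.Agent.SporRec.R3.Scheme

variable {ι : Type} {H : Type*} [Group H] {n : ℕ}

/-- stabiliser words `W` fix `0`, and every non-root point is moved down inside its class -/
noncomputable def chkStab (n : ℕ) (tab : ι → ℕ) (W : List (List ι)) (cls root : ℕ → ℕ) : Bool :=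
  Bool.rec false
    (allB (fun i => Bool.rec
        (anyL (fun w => Bool.rec false (Nat.beq (cls (evalW tab w i)) (cls i))
          (Nat.ble (Nat.succ (evalW tab w i)) i)) W)
        true (Nat.beq i (root (cls i)))) n)
    (allL (fun w => Nat.beq (evalW tab w 0) 0) W)

theorem stabTrans_of_chk (hn : 0 < n) (tab : ι → ℕ) (gen : ι → H) (ρ : H →* Equiv.Perm (Fin n))
    (hgen : ∀ g (y : Fin n), ((ρ (gen g) y : Fin n) : ℕ) = look (tab g) y)
    (W : List (List ι)) (cls root : ℕ → ℕ) (h : chkStab n tab W cls root = true) :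
    StabTrans ρ ⟨0, hn⟩ (fun y => cls y.val) := by
  unfold chkStab at h
  rw [and3, Bool.and_eq_true, allL_iff, allB_iff] at h
  obtain ⟨h1, h2⟩ := h
  have key : ∀ (k : ℕ) (y : Fin n), y.val = k → ∃ g, ρ g ⟨0, hn⟩ = ⟨0, hn⟩ ∧
      ((ρ g y : Fin n) : ℕ) = root (cls y.val) := by
    intro k
    induction k using Nat.strong_induction_on with
    | _ k ih =>
      intro y hy
      have h3 := h2 y.val y.2
      rw [or3, Bool.or_eq_true, Nat.beq_eq, anyL_iff] at h3
      rcases h3 with h3 | ⟨w, hw, h3⟩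
      · exact ⟨1, by simp, by simpa using h3⟩
      · rw [and3, Bool.and_eq_true, Nat.ble_eq, Nat.beq_eq] at h3
        obtain ⟨h4, h5⟩ := h3
        have e := evalW_spec gen ρ tab hgen w y
        obtain ⟨g, hg0, hg⟩ := ih (evalW tab w y.val) (by rw [← hy]; exact h4) (ρ (gw gen w) y) e
        refine ⟨g * gw gen w, ?_, ?_⟩
        · rw [map_mul, Equiv.Perm.mul_apply]
          have e0 : ρ (gw gen w) ⟨0, hn⟩ = ⟨0, hn⟩ := by
            apply Fin.ext
            rw [evalW_spec gen ρ tab hgen w ⟨0, hn⟩]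
            have := h1 w hw
            rw [Nat.beq_eq] at this
            exact this
          rw [e0, hg0]
        · rw [map_mul, Equiv.Perm.mul_apply, hg, e, h5]
  intro y z hyz
  obtain ⟨g, hg0, hg⟩ := key _ y rfl
  obtain ⟨g', hg0', hg'⟩ := key _ z rfl
  refine ⟨g'⁻¹ * g, ?_, ?_⟩
  · rw [map_mul, Equiv.Perm.mul_apply, hg0, map_inv, Equiv.Perm.inv_eq_iff_eq, hg0']
  · have : ρ g y = ρ g' z := Fin.ext (by rw [hg, hg']; exact congrArg root hyz)
    rw [map_mul, Equiv.Perm.mul_apply, this, map_inv]; simp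

theorem card_filter_fin (P : ℕ → Bool) :
    (univ.filter fun w : Fin n => P w = true).card = sumB (fun i => b2n (P i)) n := by
  rw [sumB_eq, card_filter, Finset.sum_range]
  simp [b2n_eq]

/-- the class `c` is the interval `[lo, lo+len)` -/
noncomputable def chkRange (n : ℕ) (cls : ℕ → ℕ) (c lo len : ℕ) : Bool :=
  Bool.rec false
    (allB (fun i => Bool.rec
        (Bool.rec true false (Bool.rec false (Nat.ble (Nat.succ i) (Nat.add lo len)) (Nat.ble lo i)))
        (Bool.rec false (Nat.ble (Nat.succ i) (Nat.add lo len)) (Nat.ble lo i))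
        (Nat.beq (cls i) c)) n)
    (Nat.ble (Nat.add lo len) n)

theorem chkRange_spec {cls : ℕ → ℕ} {c lo len : ℕ} (h : chkRange n cls c lo len = true) :
    lo + len ≤ n ∧ ∀ i < n, (cls i = c ↔ lo ≤ i ∧ i < lo + len) := by
  unfold chkRange at h
  rw [and3, Bool.and_eq_true, Nat.ble_eq, allB_iff] at h
  refine ⟨h.1, fun i hi => ?_⟩
  have := h.2 i hi
  rw [and3] at this
  by_cases hc : cls i = c
  · have e : Nat.beq (cls i) c = true := by rw [Nat.beq_eq]; exact hc
    rw [e] at this
    change (Nat.ble lo i && Nat.ble (Nat.succ i) (Nat.add lo len)) = true at this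
    rw [Bool.and_eq_true, Nat.ble_eq, Nat.ble_eq] at this
    exact ⟨fun _ => ⟨this.1, this.2⟩, fun _ => hc⟩
  · have e : Nat.beq (cls i) c = false := by
      rw [Bool.eq_false_iff, ne_eq, Nat.beq_eq]; exact hc
    rw [e] at this
    refine ⟨fun h => absurd h hc, fun h2 => ?_⟩
    exfalso
    have h3 : (Nat.ble lo i && Nat.ble (Nat.succ i) (Nat.add lo len)) = true := by
      rw [Bool.and_eq_true, Nat.ble_eq, Nat.ble_eq]; exact ⟨h2.1, h2.2⟩
    rw [h3] at this
    exact Bool.false_ne_true this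

theorem sum_D {cls : ℕ → ℕ} {c lo len : ℕ} (h : chkRange n cls c lo len = true) (F : ℕ → ℕ) :
    ∑ q ∈ D (fun y : Fin n => cls y.val) c, F q.val = ∑ j ∈ range len, F (lo + j) := by
  obtain ⟨h1, h2⟩ := chkRange_spec h
  unfold D
  rw [sum_filter, Finset.sum_fin_eq_sum_range]
  have : ∑ j ∈ range len, F (lo + j) = ∑ i ∈ Ico lo (lo + len), F i := by
    rw [Finset.sum_Ico_eq_sum_range]; simp
  rw [this]
  symm
  apply Finset.sum_subset_zero_on_sdiff
  · intro i hi
    rw [mem_Ico] at hi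
    rw [mem_range]; omega
  · intro i hi
    rw [mem_sdiff, mem_range, mem_Ico] at hi
    rw [dif_pos hi.1]
    by_cases hc : cls i = c
    · exact absurd ((h2 i hi.1).1 hc) hi.2
    · rw [if_neg hc]
  · intro i hi
    rw [mem_Ico] at hi
    rw [dif_pos (by omega : i < n), if_pos]
    exact (h2 i (by omega)).2 hi

theorem card_D {cls : ℕ → ℕ} {c lo len : ℕ} (h : chkRange n cls c lo len = true) :
    (D (fun y : Fin n => cls y.val) c).card = len := by
  have := sum_D h (fun _ => 1)
  simpa using this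

/-- count of `w` of class `c0` mapped by the word `wi` into class `c0` -/
noncomputable def cntC (n : ℕ) (tab : ι → ℕ) (cls : ℕ → ℕ) (c0 : ℕ) (wi : List ι) : ℕ :=
  sumB (fun i => b2n (Bool.rec false (Nat.beq (cls (evalW tab wi i)) c0) (Nat.beq (cls i) c0))) n

theorem cntC_spec (tab : ι → ℕ) (gen : ι → H) (ρ : H →* Equiv.Perm (Fin n))
    (hgen : ∀ g (y : Fin n), ((ρ (gen g) y : Fin n) : ℕ) = look (tab g) y)
    (inv : ι → ι) (hinv : ∀ g, gen (inv g) = (gen g)⁻¹)
    (cls : ℕ → ℕ) (c0 : ℕ) (w : List ι) :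
    (univ.filter fun y : Fin n => cls y.val = c0 ∧ cls (ρ (gw gen w)⁻¹ y : Fin n).val = c0).card =
      cntC n tab cls c0 (winv inv w) := by
  unfold cntC
  rw [← card_filter_fin]
  congr 1
  ext y
  simp only [mem_filter, mem_univ, true_and, and3, Bool.and_eq_true, Nat.beq_eq]
  rw [← gw_winv gen inv hinv, evalW_spec gen ρ tab hgen]

/-- row check: for every `j < len` the word `Wq j` maps `0` to `lo + j`, all values are valid
classes and the sum is `trow` -/
noncomputable def chkRows (tab : ι → ℕ) (inv : ι → ι) (cls mval : ℕ → ℕ) (vmax : ℕ) (Wq : ℕ → List ι)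
    (lo len trow : ℕ) : Bool :=
  allB (fun j => Bool.rec false
    (Bool.rec false
      (allS (fun j' => Nat.ble (cls (evalW tab (winv inv (Wq j)) (Nat.add lo j'))) vmax) len)
      (Nat.beq (sumS (fun j' => mval (cls (evalW tab (winv inv (Wq j)) (Nat.add lo j')))) len) trow))
    (Nat.beq (evalW tab (Wq j) 0) (Nat.add lo j))) len

theorem chkRows_spec (hn : 0 < n) (tab : ι → ℕ) (gen : ι → H) (ρ : H →* Equiv.Perm (Fin n))
    (hgen : ∀ g (y : Fin n), ((ρ (gen g) y : Fin n) : ℕ) = look (tab g) y)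
    (inv : ι → ι) (hinv : ∀ g, gen (inv g) = (gen g)⁻¹)
    {cls mval : ℕ → ℕ} {vmax : ℕ} {Wq : ℕ → List ι} {c lo len trow : ℕ}
    (hr : chkRange n cls c lo len = true)
    (h : chkRows tab inv cls mval vmax Wq lo len trow = true) :
    ∀ q ∈ D (fun y : Fin n => cls y.val) c, ∃ g, ρ g ⟨0, hn⟩ = q ∧
      (∀ q' ∈ D (fun y : Fin n => cls y.val) c, cls (ρ g⁻¹ q' : Fin n).val ≤ vmax) ∧
      ∑ q' ∈ D (fun y : Fin n => cls y.val) c, mval (cls (ρ g⁻¹ q' : Fin n).val) = trow := by
  obtain ⟨hr1, hr2⟩ := chkRange_spec hr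
  intro q hq
  rw [mem_D] at hq
  have hq' := (hr2 q.val q.2).1 hq
  unfold chkRows at h
  rw [allB_iff] at h
  have h1 := h (q.val - lo) (by omega)
  rw [and3, Bool.and_eq_true, and3, Bool.and_eq_true, Nat.beq_eq, Nat.beq_eq, allS_iff] at h1
  obtain ⟨h2, h3, h4⟩ := h1
  have e : ∀ y : Fin n, ((ρ (gw gen (Wq (q.val - lo)))⁻¹ y : Fin n) : ℕ) =
      evalW tab (winv inv (Wq (q.val - lo))) y.val := by
    intro y
    rw [← gw_winv gen inv hinv, evalW_spec gen ρ tab hgen]
  refine ⟨gw gen (Wq (q.val - lo)), ?_, ?_, ?_⟩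
  · apply Fin.ext
    rw [evalW_spec gen ρ tab hgen]
    change evalW tab (Wq (q.val - lo)) 0 = q.val
    rw [h2]
    change lo + (q.val - lo) = q.val
    omega
  · intro q' hq'
    rw [mem_D] at hq'
    have h5 := (hr2 q'.val q'.2).1 hq'
    rw [e]
    have h6 := h4 (q'.val - lo) (by omega)
    rw [Nat.ble_eq] at h6
    have : Nat.add lo (q'.val - lo) = q'.val := by change lo + (q'.val - lo) = q'.val; omega
    rwa [this] at h6
  · simp only [e]
    rw [sum_D hr (fun i => mval (cls (evalW tab (winv inv (Wq (q.val - lo))) i)))]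
    rw [← h3, sumS_eq]
    rfl

/-- every point of `(lo, lo+len)` is moved down inside the interval by one of the letters -/
noncomputable def chkReach (tab : ι → ℕ) (S : List ι) (lo len : ℕ) : Bool :=
  allB (fun j => Bool.rec
    (anyL (fun x => Bool.rec false (Nat.ble (Nat.succ (look (tab x) (Nat.add lo j))) (Nat.add lo j))
      (Nat.ble lo (look (tab x) (Nat.add lo j)))) S)
    true (Nat.beq j 0)) len

theorem reach_of_chk (tab : ι → ℕ) (gen : ι → H) (ρ : H →* Equiv.Perm (Fin n))
    (hgen : ∀ g (y : Fin n), ((ρ (gen g) y : Fin n) : ℕ) = look (tab g) y)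
    (S : List ι) (lo len : ℕ) (h : chkReach tab S lo len = true) :
    ∀ y : Fin n, lo ≤ y.val → y.val < lo + len →
      ∃ g ∈ Subgroup.closure (gen '' {x | x ∈ S}), ((ρ g y : Fin n) : ℕ) = lo := by
  unfold chkReach at h
  rw [allB_iff] at h
  have key : ∀ (k : ℕ) (y : Fin n), y.val = k → lo ≤ y.val → y.val < lo + len →
      ∃ g ∈ Subgroup.closure (gen '' {x | x ∈ S}), ((ρ g y : Fin n) : ℕ) = lo := by
    intro k
    induction k using Nat.strong_induction_on with
    | _ k ih =>
      intro y hy h1 h2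
      have h3 := h (y.val - lo) (by omega)
      have e : Nat.add lo (y.val - lo) = y.val := by change lo + (y.val - lo) = y.val; omega
      rw [or3, Bool.or_eq_true, Nat.beq_eq, anyL_iff, e] at h3
      rcases h3 with h3 | ⟨x, hx, h3⟩
      · exact ⟨1, Subgroup.one_mem _, by simp; omega⟩
      · rw [and3, Bool.and_eq_true, Nat.ble_eq, Nat.ble_eq] at h3
        obtain ⟨h4, h5⟩ := h3
        have e1 := hgen x y
        obtain ⟨g, hg, hg'⟩ := ih (look (tab x) y.val) (by rw [← hy]; exact h5) (ρ (gen x) y) e1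
          (by rw [e1]; exact h4) (by rw [e1]; have : look (tab x) y.val + 1 ≤ y.val := h5; omega)
        refine ⟨g * gen x, Subgroup.mul_mem _ hg (Subgroup.subset_closure ⟨x, hx, rfl⟩), ?_⟩
        rw [map_mul, Equiv.Perm.mul_apply, hg']
  intro y
  exact key y.val y rfl

end Cfsg.Agent.SporRec.R3.SchemeK
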