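import Cfsg.Agent.SporRec.R3.SuzData
import Cfsg.Agent.SporRec.R3.SchemeK
import Cfsg.Agent.SporRec.R3.Geom

/-! The group `H = ⟨a,...,f⟩` acting on the 1782 points, the 1365 points and the 1365 lines. -/

set_option autoImplicit false

noncomputable section

namespace Cfsg.Agent.SporRec.R3.SuzAct

open Cfsg.Agent.SporRec.R3.Kernel Cfsg.Agent.SporRec.R3.Search Cfsg.Agent.SporRec.R3.Base
open Cfsg.Agent.SporRec.R3.Base.Geo Cfsg.Agent.SporRec.R3.Geom Cfsg.Agent.SporRec.R3.SuzData
open Cfsg.Agent.SporRec.R3.Scheme Cfsg.Agent.SporRec.R3.SchemeK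

theorem chkO (x : Gen) : chkPerm 1782 (tabO x) (tabO x) = true := by
  cases x <;> decide +kernel
theorem chkP (x : Gen) : chkPerm 1365 (tabP x) (tabP x) = true := by
  cases x <;> decide +kernel
theorem chkL (x : Gen) : chkPerm 1365 (tabL x) (tabL x) = true := by
  cases x <;> decide +kernel
theorem chkOg : chkPerm 1782 Og Og = true := by decide +kernel

theorem hgeo : geo.chkGeo 1365 = true := by decide +kernel
theorem hinc : chkInc geo 1365 = true := by decide +kernel
theorem hcompat : chkCompat geo 1365 tabP tabL [.a, .b, .c, .d, .e, .f] = true := by decide +kernel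
theorem hstP : chkStab 1365 tabP WP cls root = true := by decide +kernel
theorem hstL : chkStab 1365 tabL WL cls root = true := by decide +kernel

/-- the points table and the table on the 1782 points agree -/
theorem hshift : allL (fun x => allB (fun y => Nat.beq (look (tabO x) (Nat.add 417 y))
    (Nat.add 417 (look (tabP x) y))) 1365) [.a, .b, .c, .d, .e, .f] = true := by decide +kernel

theorem hzero : allL (fun x => Nat.beq (look (tabO x) 0) 0) [.a, .b, .c, .d, .e, .f] = true := by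
  decide +kernel

theorem hone : allL (fun x => Nat.beq (look (tabO x) 1) 1) [.a, .b, .c, .d, .e] = true := by
  decide +kernel

theorem hreachΔ : chkReach tabO [.a, .b, .c, .d, .e, .f] 1 416 = true := by decide +kernel
theorem hreachJ1 : chkReach tabO [.a, .b, .c, .d, .e] 2 315 = true := by decide +kernel
theorem hreachJ2 : chkReach tabO [.a, .b, .c, .d, .e] 317 100 = true := by decide +kernel

theorem mem_gens (x : Gen) : x ∈ [Gen.a, .b, .c, .d, .e, .f] := by cases x <;> decide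

/-- generators as permutations -/
def pO (x : Gen) : Equiv.Perm (Fin 1782) := mkPerm 1782 (tabO x) (tabO x) (chkO x)
/-- generators as permutations of the hexagon points -/
def pP (x : Gen) : Equiv.Perm (Fin 1365) := mkPerm 1365 (tabP x) (tabP x) (chkP x)
/-- generators as permutations of the hexagon lines -/
def pL (x : Gen) : Equiv.Perm (Fin 1365) := mkPerm 1365 (tabL x) (tabL x) (chkL x)

/-- generator triples -/
def gen0 (x : Gen) : Equiv.Perm (Fin 1782) × Equiv.Perm (Fin 1365) × Equiv.Perm (Fin 1365) :=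
  (pO x, pP x, pL x)

/-- the seventh generator -/
def pOg : Equiv.Perm (Fin 1782) := mkPerm 1782 Og Og chkOg

/-- the Suzuki group on 1782 points -/
def Sp : Subgroup (Equiv.Perm (Fin 1782)) := Subgroup.closure (insert pOg (Set.range pO))

/-- the group -/
def Hs : Subgroup (Equiv.Perm (Fin 1782) × Equiv.Perm (Fin 1365) × Equiv.Perm (Fin 1365)) :=
  Subgroup.closure (Set.range gen0)

/-- generators -/
def gen (x : Gen) : Hs := ⟨gen0 x, Subgroup.subset_closure ⟨x, rfl⟩⟩

/-- action on the 1782 points -/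
def ρO : Hs →* Equiv.Perm (Fin 1782) := (MonoidHom.fst _ _).comp Hs.subtype
/-- action on the hexagon points -/
def ρP : Hs →* Equiv.Perm (Fin 1365) :=
  ((MonoidHom.fst _ _).comp (MonoidHom.snd _ _)).comp Hs.subtype
/-- action on the hexagon lines -/
def ρL : Hs →* Equiv.Perm (Fin 1365) :=
  ((MonoidHom.snd _ _).comp (MonoidHom.snd _ _)).comp Hs.subtype

theorem hgenO (x : Gen) (y : Fin 1782) : ((ρO (gen x) y : Fin 1782) : ℕ) = look (tabO x) y := rfl
theorem hgenP (x : Gen) (y : Fin 1365) : ((ρP (gen x) y : Fin 1365) : ℕ) = look (tabP x) y := rfl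
theorem hgenL (x : Gen) (y : Fin 1365) : ((ρL (gen x) y : Fin 1365) : ℕ) = look (tabL x) y := rfl

theorem gen_clo : Subgroup.closure (Set.range gen) = ⊤ := by
  have h : Set.range gen = ((↑) : Hs → _) ⁻¹' (Set.range gen0) := by
    ext u
    constructor
    · rintro ⟨x, rfl⟩; exact ⟨x, rfl⟩
    · rintro ⟨x, hx⟩; exact ⟨x, Subtype.ext hx⟩
  rw [h]
  exact Subgroup.closure_closure_coe_preimage

theorem gen_sq (x : Gen) : gen x * gen x = 1 := by
  apply Subtype.ext
  refine Prod.ext ?_ (Prod.ext ?_ ?_)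
  · ext y
    change look (tabO x) (look (tabO x) y) = y
    exact (chkPerm_spec (chkO x) y y.2).2.1
  · ext y
    change look (tabP x) (look (tabP x) y) = y
    exact (chkPerm_spec (chkP x) y y.2).2.1
  · ext y
    change look (tabL x) (look (tabL x) y) = y
    exact (chkPerm_spec (chkL x) y y.2).2.1

theorem gen_inv (x : Gen) : gen (id x) = (gen x)⁻¹ := eq_inv_of_mul_eq_one_left (gen_sq x)

theorem incl : Incl (g := geo) (nl := 1365) ρP ρL :=
  incl_of_chk gen gen_clo [.a, .b, .c, .d, .e, .f] mem_gens ρP ρL tabP tabL hgenP hgenL hgeo hcompat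

/-- base point -/
def y0 : Fin 1365 := ⟨0, by norm_num⟩

theorem stP : StabTrans ρP y0 (fun y => cls y.val) :=
  stabTrans_of_chk (by norm_num) tabP gen ρP hgenP WP cls root hstP
theorem stL : StabTrans ρL y0 (fun y => cls y.val) :=
  stabTrans_of_chk (by norm_num) tabL gen ρL hgenL WL cls root hstL

theorem cls_cases (i : ℕ) : (i = 0 ∧ cls i = 0) ∨ (1 ≤ i ∧ i ≤ 20 ∧ cls i = 1) ∨
    (21 ≤ i ∧ i ≤ 340 ∧ cls i = 2) ∨ (341 ≤ i ∧ cls i = 3) := by
  unfold cls
  by_cases h0 : i ≤ 0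
  · left
    have : Nat.ble i 0 = true := by rw [Nat.ble_eq]; exact h0
    rw [this]; exact ⟨by omega, rfl⟩
  · have e0 : Nat.ble i 0 = false := by rw [Bool.eq_false_iff, ne_eq, Nat.ble_eq]; exact h0
    rw [e0]
    by_cases h1 : i ≤ 20
    · right; left
      have : Nat.ble i 20 = true := by rw [Nat.ble_eq]; exact h1
      rw [this]; exact ⟨by omega, h1, rfl⟩
    · have e1 : Nat.ble i 20 = false := by rw [Bool.eq_false_iff, ne_eq, Nat.ble_eq]; exact h1
      rw [e1]
      by_cases h2 : i ≤ 340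
      · right; right; left
        have : Nat.ble i 340 = true := by rw [Nat.ble_eq]; exact h2
        rw [this]; exact ⟨by omega, h2, rfl⟩
      · right; right; right
        have e2 : Nat.ble i 340 = false := by rw [Bool.eq_false_iff, ne_eq, Nat.ble_eq]; exact h2
        rw [e2]; exact ⟨by omega, rfl⟩

theorem cls_zero {i : ℕ} (h : cls i = 0) : i = 0 := by
  rcases cls_cases i with h' | h' | h' | h' <;> omega

/-- check that the root words reach the class roots -/
theorem hrP : (Bool.rec false (Bool.rec false (Nat.beq (evalW tabP (rP.getD 2 []) 0) 341)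
    (Nat.beq (evalW tabP (rP.getD 1 []) 0) 21)) (Nat.beq (evalW tabP (rP.getD 0 []) 0) 1) : Bool) = true := by
  decide +kernel
theorem hrL : (Bool.rec false (Bool.rec false (Nat.beq (evalW tabL (rL.getD 2 []) 0) 341)
    (Nat.beq (evalW tabL (rL.getD 1 []) 0) 21)) (Nat.beq (evalW tabL (rL.getD 0 []) 0) 1) : Bool) = true := by
  decide +kernel

theorem reach_root {n : ℕ} (hn : 0 < n) {H : Type*} [Group H] (tab : Gen → ℕ) (gen : Gen → H)
    (ρ : H →* Equiv.Perm (Fin n))
    (hgen : ∀ g (y : Fin n), ((ρ (gen g) y : Fin n) : ℕ) = look (tab g) y)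
    (w : List Gen) (r : ℕ) (hr : r < n) (h : evalW tab w 0 = r) :
    ρ (gw gen w) ⟨0, hn⟩ = ⟨r, hr⟩ := by
  apply Fin.ext
  rw [evalW_spec gen ρ tab hgen]; exact h

theorem trans_aux (tab : Gen → ℕ) (ρ : Hs →* Equiv.Perm (Fin 1365))
    (hgen : ∀ g (y : Fin 1365), ((ρ (gen g) y : Fin 1365) : ℕ) = look (tab g) y)
    (hst : StabTrans ρ y0 (fun y => cls y.val)) (w1 w2 w3 : List Gen)
    (h1 : evalW tab w1 0 = 1) (h2 : evalW tab w2 0 = 21) (h3 : evalW tab w3 0 = 341) (y : Fin 1365) :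
    ∃ h, ρ h y0 = y := by
  have aux : ∀ (w : List Gen) (r : ℕ) (hr : r < 1365), evalW tab w 0 = r → cls y.val = cls r →
      ∃ h, ρ h y0 = y := by
    intro w r hr hw hc
    obtain ⟨s, _, hs⟩ := hst ⟨r, hr⟩ y hc.symm
    refine ⟨s * gw gen w, ?_⟩
    rw [map_mul, Equiv.Perm.mul_apply]
    have := reach_root (by norm_num : 0 < 1365) tab gen ρ hgen w r hr hw
    change ρ s (ρ (gw gen w) ⟨0, by norm_num⟩) = y
    rw [this, hs]
  rcases cls_cases y.val with h | h | h | h
  · exact ⟨1, by apply Fin.ext; simp [y0, h.1]⟩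
  · refine aux w1 1 (by norm_num) h1 ?_
    rw [h.2.2]; rcases cls_cases 1 with h' | h' | h' | h' <;> omega
  · refine aux w2 21 (by norm_num) h2 ?_
    rw [h.2.2]; rcases cls_cases 21 with h' | h' | h' | h' <;> omega
  · refine aux w3 341 (by norm_num) h3 ?_
    rw [h.2]; rcases cls_cases 341 with h' | h' | h' | h' <;> omega

theorem trP (y : Fin 1365) : ∃ h, ρP h y0 = y := by
  have := hrP
  rw [and3, and3, Bool.and_eq_true, Bool.and_eq_true, Nat.beq_eq, Nat.beq_eq, Nat.beq_eq] at this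
  exact trans_aux tabP ρP hgenP stP _ _ _ this.1 this.2.1 this.2.2 y

theorem trL (y : Fin 1365) : ∃ h, ρL h y0 = y := by
  have := hrL
  rw [and3, and3, Bool.and_eq_true, Bool.and_eq_true, Nat.beq_eq, Nat.beq_eq, Nat.beq_eq] at this
  exact trans_aux tabL ρL hgenL stL _ _ _ this.1 this.2.1 this.2.2 y

/-- embedding of the hexagon points -/
def emb (y : Fin 1365) : Fin 1782 := ⟨417 + y.val, by omega⟩

theorem emb_inj : Function.Injective emb := by
  intro x y h
  have := congrArg Fin.val h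
  simp only [emb] at this
  exact Fin.ext (by omega)

/-- induction principle for `Hs` -/
theorem Hs_induction {p : Hs → Prop} (hgenp : ∀ x, p (gen x)) (h1 : p 1)
    (hmul : ∀ u v, p u → p v → p (u * v)) (u : Hs) : p u := by
  have hu : u ∈ Subgroup.closure (Set.range gen) := by rw [gen_clo]; trivial
  induction hu using Subgroup.closure_induction'' with
  | mem u hu => obtain ⟨x, rfl⟩ := hu; exact hgenp x
  | inv_mem u hu =>
    obtain ⟨x, rfl⟩ := hu
    rw [← gen_inv]; exact hgenp x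
  | one => exact h1
  | mul u v _ _ hu hv => exact hmul u v hu hv

theorem ρO_emb (h : Hs) (y : Fin 1365) : ρO h (emb y) = emb (ρP h y) := by
  revert y
  refine Hs_induction (p := fun h => ∀ y, ρO h (emb y) = emb (ρP h y)) ?_ ?_ ?_ h
  · intro x y
    have h1 := hshift
    rw [allL_iff] at h1
    have h2 := h1 x (mem_gens x)
    rw [allB_iff] at h2
    have h3 := h2 y.val y.2
    rw [Nat.beq_eq] at h3
    apply Fin.ext
    rw [hgenO]
    change look (tabO x) (417 + y.val) = 417 + ((ρP (gen x) y : Fin 1365) : ℕ)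
    rw [hgenP]; exact h3
  · intro y; simp
  · intro u v hu hv y
    rw [map_mul, map_mul, Equiv.Perm.mul_apply, Equiv.Perm.mul_apply, hv, hu]

/-- the point 0 -/
def o0 : Fin 1782 := ⟨0, by norm_num⟩
/-- the point 1 -/
def d0 : Fin 1782 := ⟨1, by norm_num⟩

theorem ρO_zero (h : Hs) : ρO h o0 = o0 := by
  refine Hs_induction (p := fun h => ρO h o0 = o0) ?_ ?_ ?_ h
  · intro x
    have h1 := hzero
    rw [allL_iff] at h1
    have h2 := h1 x (mem_gens x)
    rw [Nat.beq_eq] at h2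
    exact Fin.ext h2
  · simp
  · intro u v hu hv
    rw [map_mul, Equiv.Perm.mul_apply, hv, hu]

/-- the 416 points -/
def Δ0 : Finset (Fin 1782) := Finset.univ.filter fun y => 1 ≤ y.val ∧ y.val < 417
/-- the 1365 points -/
def Λ0 : Finset (Fin 1782) := Finset.univ.filter fun y => 417 ≤ y.val

theorem mem_Δ0 (y : Fin 1782) : y ∈ Δ0 ↔ 1 ≤ y.val ∧ y.val < 417 := by simp [Δ0]
theorem mem_Λ0 (y : Fin 1782) : y ∈ Λ0 ↔ 417 ≤ y.val := by simp [Λ0]

theorem Λ0_emb (x : Fin 1782) (hx : x ∈ Λ0) : ∃ y, emb y = x := by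
  rw [mem_Λ0] at hx
  exact ⟨⟨x.val - 417, by omega⟩, Fin.ext (by simp only [emb]; omega)⟩

theorem emb_mem (y : Fin 1365) : emb y ∈ Λ0 := by rw [mem_Λ0]; simp only [emb]; omega

theorem invΛ (h : Hs) (x : Fin 1782) (hx : x ∈ Λ0) : ρO h x ∈ Λ0 := by
  obtain ⟨y, rfl⟩ := Λ0_emb x hx
  rw [ρO_emb]; exact emb_mem _

theorem invΔ (h : Hs) (x : Fin 1782) (hx : x ∈ Δ0) : ρO h x ∈ Δ0 := by
  by_contra hc
  rw [mem_Δ0] at hx hc
  have h2 : ρO h x = o0 ∨ ρO h x ∈ Λ0 := by
    rw [mem_Λ0]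
    by_cases h0 : (ρO h x).val = 0
    · left; exact Fin.ext h0
    · right; omega
  rcases h2 with h2 | h2
  · have h3 := congrArg (ρO h⁻¹) h2
    rw [ρO_zero, ← Equiv.Perm.mul_apply, ← map_mul, inv_mul_cancel, map_one, Equiv.Perm.one_apply] at h3
    have := congrArg Fin.val h3
    change x.val = 0 at this
    omega
  · have h3 := invΛ h⁻¹ _ h2
    rw [← Equiv.Perm.mul_apply, ← map_mul, inv_mul_cancel, map_one, Equiv.Perm.one_apply, mem_Λ0] at h3
    omega

theorem reachΔ (x : Fin 1782) (hx : x ∈ Δ0) : ∃ h, ρO h x = d0 := by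
  rw [mem_Δ0] at hx
  obtain ⟨g, _, hg⟩ := reach_of_chk tabO gen ρO hgenO _ 1 416 hreachΔ x hx.1 (by omega)
  exact ⟨g, Fin.ext hg⟩

theorem transΔ (x y : Fin 1782) (hx : x ∈ Δ0) (hy : y ∈ Δ0) : ∃ h, ρO h x = y := by
  obtain ⟨u, hu⟩ := reachΔ x hx
  obtain ⟨v, hv⟩ := reachΔ y hy
  refine ⟨v⁻¹ * u, ?_⟩
  rw [map_mul, Equiv.Perm.mul_apply, hu, ← hv, map_inv]; simp

theorem transΛ (x y : Fin 1782) (hx : x ∈ Λ0) (hy : y ∈ Λ0) : ∃ h, ρO h x = y := by
  obtain ⟨x', rfl⟩ := Λ0_emb x hx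
  obtain ⟨y', rfl⟩ := Λ0_emb y hy
  obtain ⟨u, hu⟩ := trP x'
  obtain ⟨v, hv⟩ := trP y'
  refine ⟨v * u⁻¹, ?_⟩
  rw [ρO_emb, map_mul, Equiv.Perm.mul_apply, ← hu, map_inv]
  simp [hv]

/-- the subgroup `⟨a,...,e⟩` fixes `d0` -/
theorem J_fix (g : Hs) (hg : g ∈ Subgroup.closure (gen '' {x | x ∈ [Gen.a, .b, .c, .d, .e]})) :
    ρO g d0 = d0 := by
  induction hg using Subgroup.closure_induction with
  | mem u hu =>
    obtain ⟨x, hx, rfl⟩ := hu
    have h1 := hone
    rw [allL_iff] at h1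
    have h2 := h1 x hx
    rw [Nat.beq_eq] at h2
    exact Fin.ext h2
  | one => simp
  | mul u v _ _ hu hv => rw [map_mul, Equiv.Perm.mul_apply, hv, hu]
  | inv u _ hu => rw [map_inv, Equiv.Perm.inv_eq_iff_eq, hu]

end Cfsg.Agent.SporRec.R3.SuzAct
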