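import Cfsg.Agent.SporRec.R3.SuzAct
import Cfsg.Agent.SporRec.R3.Orb

/-! Subgroups of `H` of order `184320` are stabilisers of points or of lines of the hexagon. -/

set_option autoImplicit false
set_option exponentiation.threshold 2000

noncomputable section

namespace Cfsg.Agent.SporRec.R3.SuzP1

open Cfsg.Agent.SporRec.R3.Kernel Cfsg.Agent.SporRec.R3.Search Cfsg.Agent.SporRec.R3.Base
open Cfsg.Agent.SporRec.R3.Base.Geo Cfsg.Agent.SporRec.R3.Geom Cfsg.Agent.SporRec.R3.SuzData
open Cfsg.Agent.SporRec.R3.Scheme Cfsg.Agent.SporRec.R3.SchemeK Cfsg.Agent.SporRec.R3.SuzAct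
open Cfsg.Agent.SporRec.R3.Orb

/-- the twenty points collinear with 0: the common neighbours form a line -/
def chkLine : Bool := allS (fun i => anyS (fun k => Nat.beq
  (Nat.land (geo.nb 0) (geo.nb (Nat.succ i))) (geo.lineMask (look p2l k))) 5) 20
theorem hLine : chkLine = true := by decide +kernel
theorem hnb0 : Nat.beq (geo.nb 0) (Nat.sub (Nat.pow 2 21) 1) = true := by decide +kernel
theorem hnb20 : Nat.beq (geo.nb2 0) (Nat.sub (Nat.pow 2 341) 1) = true := by decide +kernel
/-- different lines have different point sets -/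
def chkDist : Bool := allB (fun l => allS (fun j => Bool.rec
   (Bool.rec true false (Nat.beq (geo.lineMask (look p2l (Nat.add (Nat.mul 5 (look l2p (Nat.mul 5 l))) j)))
      (geo.lineMask l)))
   true (Nat.beq (look p2l (Nat.add (Nat.mul 5 (look l2p (Nat.mul 5 l))) j)) l)) 5) 1365
theorem hDist : chkDist = true := by decide +kernel

theorem rng0 : chkRange 1365 cls 0 0 1 = true := by decide +kernel
theorem rng1 : chkRange 1365 cls 1 1 20 = true := by decide +kernel
theorem rng2 : chkRange 1365 cls 2 21 320 = true := by decide +kernel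
theorem rng3 : chkRange 1365 cls 3 341 1024 = true := by decide +kernel

theorem nb0_iff (y : ℕ) : (geo.nb 0).testBit y = true ↔ y ≤ 20 := by
  have h := hnb0
  rw [Nat.beq_eq] at h
  rw [h]
  change (2 ^ 21 - 1).testBit y = true ↔ _
  rw [Nat.testBit_two_pow_sub_one, decide_eq_true_eq]
  omega

theorem nb20_iff (y : ℕ) : (geo.nb2 0).testBit y = true ↔ y ≤ 340 := by
  have h := hnb20
  rw [Nat.beq_eq] at h
  rw [h]
  change (2 ^ 341 - 1).testBit y = true ↔ _
  rw [Nat.testBit_two_pow_sub_one, decide_eq_true_eq]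
  omega

theorem line_inj {l l' : ℕ} (hl : l < 1365) (hl' : l' < 1365)
    (h : geo.lineMask l' = geo.lineMask l) : l' = l := by
  have hd := hDist
  unfold chkDist at hd
  rw [allB_iff] at hd
  have h1 := hd l hl
  rw [allS_iff] at h1
  -- the first point of `l`
  have h2 : (geo.lineMask l).testBit (look l2p (5 * l)) = true := by
    rw [lineMask_iff]; exact ⟨0, by decide, rfl⟩
  have hx : look l2p (5 * l) < 1365 := line_lt hgeo hl h2
  rw [← h] at h2
  obtain ⟨k, hk, e⟩ := (inc_iff hgeo hinc hx hl').1 h2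
  have h3 := h1 k hk
  have e' : look p2l (Nat.add (Nat.mul 5 (look l2p (Nat.mul 5 l))) k) = l' := e
  rw [e', h, or3, Bool.or_eq_true, Nat.beq_eq] at h3
  rcases h3 with h3 | h3
  · exact h3
  · have : Nat.beq (geo.lineMask l) (geo.lineMask l) = true := by rw [Nat.beq_eq]
    rw [this] at h3
    exact absurd h3 (by decide)

theorem nbInv (h : Hs) (x y : Fin 1365) : (geo.nb x.val).testBit y.val = true ↔
    (geo.nb (ρP h x).val).testBit (ρP h y).val = true := nb_inv hgeo hinc incl h x y

theorem lineInv (h : Hs) (l x : Fin 1365) : (geo.lineMask l.val).testBit x.val = true ↔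
    (geo.lineMask (ρL h l).val).testBit (ρP h x).val = true := incl h l x

theorem ρ_inv_apply {X : Type*} (ρ : Hs →* Equiv.Perm X) (h : Hs) (x : X) : ρ h (ρ h⁻¹ x) = x := by
  rw [← Equiv.Perm.mul_apply, ← map_mul, mul_inv_cancel, map_one, Equiv.Perm.one_apply]

theorem ρ_inv_apply' {X : Type*} (ρ : Hs →* Equiv.Perm X) (h : Hs) (x : X) : ρ h⁻¹ (ρ h x) = x := by
  rw [← Equiv.Perm.mul_apply, ← map_mul, inv_mul_cancel, map_one, Equiv.Perm.one_apply]

theorem card_orb_eq_D {c : ℕ} {x : Fin 1365} (hx : cls x.val = c) :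
    orb ρP (stab ρP y0) x = {y : Fin 1365 | cls y.val = c} := by
  ext y
  constructor
  · rintro ⟨h, hh, rfl⟩
    rw [mem_stab] at hh
    have a1 : (x.val ≤ 20 ↔ (ρP h x).val ≤ 20) := by
      have := nbInv h y0 x
      rw [hh] at this
      change ((geo.nb 0).testBit x.val = true ↔ (geo.nb 0).testBit (ρP h x).val = true) at this
      rwa [nb0_iff, nb0_iff] at this
    have a2 : (x.val ≤ 340 ↔ (ρP h x).val ≤ 340) := by
      rw [← nb20_iff, ← nb20_iff, nb2_iff, nb2_iff]
      constructor
      · rintro ⟨p, hp1, hp2⟩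
        have hpn : p < 1365 := nb_lt geo hgeo (x := 0) (by decide) hp1
        refine ⟨(ρP h ⟨p, hpn⟩).val, ?_, ?_⟩
        · have := (nbInv h y0 ⟨p, hpn⟩).1 hp1
          rw [hh] at this; exact this
        · exact (nbInv h ⟨p, hpn⟩ x).1 hp2
      · rintro ⟨p, hp1, hp2⟩
        have hpn : p < 1365 := nb_lt geo hgeo (x := 0) (by decide) hp1
        have hh' : ρP h⁻¹ y0 = y0 := by rw [map_inv, Equiv.Perm.inv_eq_iff_eq, hh]
        refine ⟨(ρP h⁻¹ ⟨p, hpn⟩).val, ?_, ?_⟩
        · have := (nbInv h⁻¹ y0 ⟨p, hpn⟩).1 hp1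
          rw [hh'] at this; exact this
        · have := (nbInv h⁻¹ ⟨p, hpn⟩ (ρP h x)).1 hp2
          rwa [ρ_inv_apply'] at this
    have a0 : (x.val = 0 ↔ (ρP h x).val = 0) := by
      constructor
      · intro e
        have : x = y0 := Fin.ext e
        rw [this, hh]; rfl
      · intro e
        have : ρP h x = y0 := Fin.ext e
        rw [← hh] at this
        have := (ρP h).injective this
        rw [this]; rfl
    change cls (ρP h x).val = c
    rw [← hx]
    rcases cls_cases x.val with h1 | h1 | h1 | h1 <;>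
      rcases cls_cases (ρP h x).val with h2 | h2 | h2 | h2 <;> omega
  · intro hy
    have hy' : cls y.val = c := hy
    obtain ⟨h, h0, h1⟩ := stP x y (by change cls x.val = cls y.val; rw [hx, hy'])
    exact ⟨h, h0, h1⟩

theorem ncard_D {c lo len : ℕ} (h : chkRange 1365 cls c lo len = true) :
    {y : Fin 1365 | cls y.val = c}.ncard = len := by
  rw [← card_D (n := 1365) h, ← Set.ncard_coe_finset]
  congr 1
  ext y
  simp [D]

theorem card_stab (hH : Nat.card Hs = 251596800) : Nat.card (stab ρP y0) = 184320 := by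
  have := orb_card_top ρP y0 trP
  rw [hH, Nat.card_fin] at this
  omega

theorem card_stabL (hH : Nat.card Hs = 251596800) (l : Fin 1365) : Nat.card (stab ρL l) = 184320 := by
  have := orb_card_top ρL l (fun y => by
    obtain ⟨u, hu⟩ := trL y
    obtain ⟨v, hv⟩ := trL l
    exact ⟨u * v⁻¹, by rw [map_mul, Equiv.Perm.mul_apply, ← hv, map_inv]; simp [hu]⟩)
  rw [hH, Nat.card_fin] at this
  omega

/-- conjugate of a subgroup -/
theorem card_conj {P : Subgroup Hs} (h : Hs) : Nat.card (P.map (MulAut.conj h).toMonoidHom) = Nat.card P :=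
  Nat.card_congr (Subgroup.equivMapOfInjective P _ (MulAut.conj h).injective).symm.toEquiv

theorem two_power_orbit (hH : Nat.card Hs = 251596800) (T : Subgroup Hs) (hT : Nat.card T = 2 ^ 12)
    (hTs : T ≤ stab ρP y0) (x : Fin 1365) (hx : x ≠ y0) :
    4 ≤ (orb ρP T x).ncard ∧ (cls x.val ≠ 1 → 64 ≤ (orb ρP T x).ncard) := by
  have e1 := orb_card ρP T x
  rw [hT] at e1
  have e2 := orb_card ρP (stab ρP y0) x
  rw [card_stab hH, card_orb_eq_D rfl] at e2
  have hd : Nat.card (T ⊓ stab ρP x : Subgroup Hs) ∣ Nat.card (stab ρP y0 ⊓ stab ρP x : Subgroup Hs) :=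
    Subgroup.card_dvd_of_le (inf_le_inf_right _ hTs)
  have hd2 : Nat.card (T ⊓ stab ρP x : Subgroup Hs) ∣ 4096 := ⟨_, by rw [mul_comm]; exact e1.symm⟩
  have key : ∀ {c lo len q : ℕ}, chkRange 1365 cls c lo len = true → cls x.val = c → 0 < len →
      len * q = 184320 → ∀ {g : ℕ}, Nat.gcd 4096 q = g → 0 < g → 4096 / g ≤ (orb ρP T x).ncard := by
    intro c lo len q hr hc hlen hq g hg hg0
    rw [hc, ncard_D hr] at e2
    have e3 : Nat.card (stab ρP y0 ⊓ stab ρP x : Subgroup Hs) = q := by
      apply Nat.eq_of_mul_eq_mul_left hlen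
      rw [e2, hq]
    rw [e3] at hd
    have hd3 : Nat.card (T ⊓ stab ρP x : Subgroup Hs) ∣ g := hg ▸ Nat.dvd_gcd hd2 hd
    have hle := Nat.le_of_dvd hg0 hd3
    rw [Nat.div_le_iff_le_mul_add_pred hg0]
    have h4 : (orb ρP T x).ncard * Nat.card (T ⊓ stab ρP x : Subgroup Hs) ≤ (orb ρP T x).ncard * g :=
      Nat.mul_le_mul_left _ hle
    rw [e1] at h4
    have : 4096 ≤ g * (orb ρP T x).ncard := by rw [mul_comm]; exact h4
    omega
  rcases cls_cases x.val with h | h | h | h
  · exact absurd (Fin.ext h.1) hx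
  · have := key rng1 h.2.2 (by norm_num) (q := 9216) (by norm_num) (g := 1024) (by decide) (by norm_num)
    exact ⟨by omega, fun h' => absurd h.2.2 h'⟩
  · have := key rng2 h.2.2 (by norm_num) (q := 576) (by norm_num) (g := 64) (by decide) (by norm_num)
    exact ⟨by omega, fun _ => by omega⟩
  · have := key rng3 h.2 (by norm_num) (q := 180) (by norm_num) (g := 4) (by decide) (by norm_num)
    exact ⟨by omega, fun _ => by omega⟩

/-- case of a subgroup with a Sylow two-subgroup fixing `y0` -/
theorem aux (hH : Nat.card Hs = 251596800) (P T : Subgroup Hs) (hP : Nat.card P = 184320)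
    (hT : Nat.card T = 2 ^ 12) (hTP : T ≤ P) (hTs : T ≤ stab ρP y0) :
    P = stab ρP y0 ∨ ∃ l, P = stab ρL l := by
  have e1 := orb_card ρP P y0
  rw [hP] at e1
  have hge : 4096 ≤ Nat.card (P ⊓ stab ρP y0 : Subgroup Hs) := by
    have : Nat.card T ≤ Nat.card (P ⊓ stab ρP y0 : Subgroup Hs) :=
      Subgroup.card_le_of_le (le_inf hTP hTs)
    rw [hT] at this; exact this
  have h45 : (orb ρP P y0).ncard ≤ 45 := by
    by_contra hc
    push Not at hc
    have : 46 * 4096 ≤ (orb ρP P y0).ncard * Nat.card (P ⊓ stab ρP y0 : Subgroup Hs) :=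
      Nat.mul_le_mul hc hge
    rw [e1] at this
    omega
  by_cases hall : ∀ x ∈ orb ρP P y0, x = y0
  · left
    apply eq_of_le_of_card
    · intro p hp
      exact hall _ ⟨p, hp, rfl⟩
    · rw [hP, card_stab hH]
  · right
    push Not at hall
    obtain ⟨x, hxO, hx⟩ := hall
    -- orbits of `T` inside the orbit
    have hsub : ∀ z ∈ orb ρP P y0, z ≠ y0 → (orb ρP T z).ncard + 1 ≤ (orb ρP P y0).ncard := by
      intro z hz hz0
      have h1 : insert y0 (orb ρP T z) ⊆ orb ρP P y0 := by
        intro w hw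
        rcases hw with rfl | hw
        · exact self_mem_orb _ _ _
        · rw [← orb_eq hz]; exact orb_mono hTP z hw
      have h2 : y0 ∉ orb ρP T z := by
        rintro ⟨t, ht, e⟩
        have h3 : ρP t y0 = y0 := hTs ht
        rw [← h3] at e
        exact hz0 ((ρP t).injective e)
      rw [← Set.ncard_insert_of_notMem h2 (Set.toFinite _)]
      exact Set.ncard_le_ncard h1 (Set.toFinite _)
    have hcls : ∀ z ∈ orb ρP P y0, z ≠ y0 → cls z.val = 1 := by
      intro z hz hz0
      by_contra hc
      have h1 := (two_power_orbit hH T hT hTs z hz0).2 hc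
      have h2 := hsub z hz hz0
      omega
    have h5 : 5 ≤ (orb ρP P y0).ncard := by
      have h1 := (two_power_orbit hH T hT hTs x hx).1
      have h2 := hsub x hxO hx
      omega
    -- the orbit is a clique
    have hnb : ∀ z ∈ orb ρP P y0, (geo.nb 0).testBit z.val = true := by
      intro z hz
      rw [nb0_iff]
      by_cases hz0 : z = y0
      · rw [hz0]; simp [y0]
      · have := hcls z hz hz0
        rcases cls_cases z.val with h | h | h | h <;> omega
    have hclq : ∀ z ∈ orb ρP P y0, (geo.nb x.val).testBit z.val = true := by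
      intro z hz
      obtain ⟨p, hp, e⟩ := hxO
      have h1 : ρP p⁻¹ z ∈ orb ρP P y0 := orb_smul (P.inv_mem hp) hz
      have h2 := hnb _ h1
      have h3 := (nbInv p y0 (ρP p⁻¹ z)).1 h2
      rw [e, ρ_inv_apply] at h3
      exact h3
    -- the line
    have hx1 := hcls x hxO hx
    have hx2 : 1 ≤ x.val ∧ x.val ≤ 20 := by
      rcases cls_cases x.val with h | h | h | h <;> omega
    have hL := hLine
    unfold chkLine at hL
    rw [allS_iff] at hL
    have hL1 := hL (x.val - 1) (by omega)
    rw [anyS_iff] at hL1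
    obtain ⟨k, hk, hL2⟩ := hL1
    rw [Nat.beq_eq] at hL2
    have hl : look p2l k < 1365 := by
      have := p2l_lt (g := geo) (nl := 1365) hgeo (x := 0) (k := k) (by decide) hk
      rw [Nat.mul_zero, Nat.zero_add] at this
      exact this
    have hmask : ∀ z ∈ orb ρP P y0, (geo.lineMask (look p2l k)).testBit z.val = true := by
      intro z hz
      rw [← hL2]
      change ((geo.nb 0) &&& (geo.nb (x.val - 1 + 1))).testBit z.val = true
      rw [Nat.testBit_and, Bool.and_eq_true, show x.val - 1 + 1 = x.val by omega]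
      exact ⟨hnb z hz, hclq z hz⟩
    -- the orbit is the whole line
    have hline : {z : Fin 1365 | (geo.lineMask (look p2l k)).testBit z.val = true}.ncard ≤ 5 := by
      have h1 : {z : Fin 1365 | (geo.lineMask (look p2l k)).testBit z.val = true} ⊆
          (fun z : Fin 1365 => z.val) ⁻¹' ((Finset.range 5).image fun j => look l2p (5 * look p2l k + j) : Finset ℕ) := by
        intro z hz
        have hz' : (geo.lineMask (look p2l k)).testBit z.val = true := hz
        rw [lineMask_iff] at hz'
        obtain ⟨j, hj, e⟩ := hz'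
        rw [Set.mem_preimage, Finset.mem_coe, Finset.mem_image]
        exact ⟨j, Finset.mem_range.2 hj, e⟩
      have h2 : ((fun z : Fin 1365 => z.val) ⁻¹' ((Finset.range 5).image fun j => look l2p (5 * look p2l k + j) : Finset ℕ)).ncard ≤ 5 := by
        have h3 : ((fun z : Fin 1365 => z.val) ⁻¹' ((Finset.range 5).image fun j => look l2p (5 * look p2l k + j) : Finset ℕ)).ncard
            = ((fun z : Fin 1365 => z.val) '' ((fun z : Fin 1365 => z.val) ⁻¹' ((Finset.range 5).image fun j => look l2p (5 * look p2l k + j) : Finset ℕ))).ncard :=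
          (Set.ncard_image_of_injective _ Fin.val_injective).symm
        rw [h3]
        calc _ ≤ (((Finset.range 5).image fun j => look l2p (5 * look p2l k + j) : Finset ℕ) : Set ℕ).ncard :=
              Set.ncard_le_ncard (Set.image_preimage_subset _ _) (Set.toFinite _)
          _ ≤ 5 := by
              rw [Set.ncard_coe_finset]
              exact le_trans Finset.card_image_le (by simp)
      exact le_trans (Set.ncard_le_ncard h1 (Set.toFinite _)) h2
    have hEq : orb ρP P y0 = {z : Fin 1365 | (geo.lineMask (look p2l k)).testBit z.val = true} :=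
      Set.eq_of_subset_of_ncard_le (fun z hz => hmask z hz) (le_trans hline h5) (Set.toFinite _)
    refine ⟨⟨look p2l k, hl⟩, ?_⟩
    apply eq_of_le_of_card
    · intro p hp
      rw [mem_stab]
      apply Fin.ext
      apply line_inj hl (ρL p ⟨look p2l k, hl⟩).2
      apply Nat.eq_of_testBit_eq
      intro z
      rw [Bool.eq_iff_iff]
      constructor
      · intro hz
        have hzn : z < 1365 := line_lt hgeo (ρL p ⟨look p2l k, hl⟩).2 hz
        have h1 := (lineInv p ⟨look p2l k, hl⟩ (ρP p⁻¹ ⟨z, hzn⟩)).2 (by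
          rw [ρ_inv_apply]
          exact hz)
        have h2 : ρP p⁻¹ ⟨z, hzn⟩ ∈ orb ρP P y0 := by rw [hEq]; exact h1
        have h3 := orb_smul hp h2
        rw [ρ_inv_apply, hEq] at h3
        exact h3
      · intro hz
        have hzn : z < 1365 := line_lt hgeo hl hz
        have h2 : (⟨z, hzn⟩ : Fin 1365) ∈ orb ρP P y0 := by rw [hEq]; exact hz
        have h3 := orb_smul (P.inv_mem hp) h2
        rw [hEq] at h3
        have h4 := (lineInv p ⟨look p2l k, hl⟩ (ρP p⁻¹ ⟨z, hzn⟩)).1 h3
        rwa [ρ_inv_apply] at h4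
    · rw [hP, card_stabL hH]

/-- the subgroups of order `184320` -/
theorem parabolic (hH : Nat.card Hs = 251596800) (P : Subgroup Hs) (hP : Nat.card P = 184320) :
    (∃ y, P = stab ρP y) ∨ ∃ l, P = stab ρL l := by
  have : Finite Hs := Nat.finite_of_card_ne_zero (by rw [hH]; norm_num)
  have : Fact (Nat.Prime 2) := ⟨Nat.prime_two⟩
  obtain ⟨T', hT'⟩ := Sylow.exists_subgroup_card_pow_prime (G := P) 2 (n := 12) (by rw [hP]; norm_num)
  set T : Subgroup Hs := T'.map P.subtype with hTdef
  have hT : Nat.card T = 2 ^ 12 := by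
    rw [hTdef, ← hT']
    exact (Nat.card_congr (Subgroup.equivMapOfInjective T' _ P.subtype_injective).toEquiv).symm
  have hTP : T ≤ P := by
    rintro _ ⟨t, _, rfl⟩; exact t.2
  obtain ⟨y1, hy1⟩ := exists_fixed (p := 2) ρP T 12 hT (by rw [Nat.card_fin]; norm_num)
  obtain ⟨h, hh⟩ := trP y1
  have hconj : ∀ (Q : Subgroup Hs), Q.map (MulAut.conj h⁻¹).toMonoidHom ≤ stab ρP y0 ↔ Q ≤ stab ρP y1 := by
    intro Q
    constructor
    · intro hQ q hq
      have h1 := hQ ⟨q, hq, rfl⟩
      rw [← hh, mem_stab_conj]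
      simpa [MulAut.conj_apply] using h1
    · rintro hQ _ ⟨q, hq, rfl⟩
      have h1 := hQ hq
      rw [← hh, mem_stab_conj] at h1
      simpa [MulAut.conj_apply] using h1
  rcases aux hH (P.map (MulAut.conj h⁻¹).toMonoidHom) (T.map (MulAut.conj h⁻¹).toMonoidHom)
    (by rw [card_conj, hP]) (by rw [card_conj, hT]) (Subgroup.map_mono hTP) ((hconj T).2 hy1) with h1 | ⟨l, h1⟩
  · left
    refine ⟨y1, ?_⟩
    apply eq_of_le_of_card ((hconj P).1 h1.le)
    rw [hP]
    have := orb_card_top ρP y1 (fun y => by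
      obtain ⟨u, hu⟩ := trP y
      exact ⟨u * h⁻¹, by rw [map_mul, Equiv.Perm.mul_apply, ← hh, map_inv]; simp [hu]⟩)
    rw [hH, Nat.card_fin] at this
    omega
  · right
    refine ⟨ρL h l, ?_⟩
    ext p
    rw [mem_stab_conj, ← h1]
    constructor
    · intro hp
      exact ⟨p, hp, by simp [MulAut.conj_apply]⟩
    · rintro ⟨q, hq, e⟩
      have : q = p := by
        have e' : h⁻¹ * q * h = h⁻¹ * p * h := by simpa [MulAut.conj_apply] using e
        simpa using e'
      exact this ▸ hq

end Cfsg.Agent.SporRec.R3.SuzP1
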