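import Cfsg.Agent.SporRec.R3.SuzP1

/-! Parameters of a rank three configuration over `H` with `Λ` the points (or the lines) of the
hexagon, and the neighbourhoods in `Λ` of the points of `Δ`. -/

set_option autoImplicit false
set_option exponentiation.threshold 2000

noncomputable section

namespace Cfsg.Agent.SporRec.R3.SuzS

open Finset
open Cfsg.Agent.SporRec.R3.Config Cfsg.Agent.SporRec.R3.YPart
open Cfsg.Agent.SporRec.R3.Kernel Cfsg.Agent.SporRec.R3.Search Cfsg.Agent.SporRec.R3.SuzData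
open Cfsg.Agent.SporRec.R3.Scheme Cfsg.Agent.SporRec.R3.SchemeK Cfsg.Agent.SporRec.R3.SuzAct
open Cfsg.Agent.SporRec.R3.Orb Cfsg.Agent.SporRec.R3.SuzP1

/-- values of `m y0` on the classes -/
def mval (c : ℕ) : ℕ := Nat.rec 96 (fun c _ => Nat.rec 48 (fun _ _ => 24) c) c

/-- class function -/
def cl (y : Fin 1365) : ℕ := cls y.val

/-- the words `1..20` -/
def nth (l : List (List Gen)) : ℕ → List Gen :=
  List.rec (motive := fun _ => ℕ → List Gen) (fun _ => [])
    (fun w _ ih i => Nat.rec w (fun i _ => ih i) i) l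

/-- iterate a table -/
def itab (T a i : ℕ) : ℕ := Nat.rec i (fun _ ih => look T ih) a

/-- the labels: entry `32 l + 5 a + b` at `y` means `y = F1^a F2^b rep_l` -/
def chkLabels (lab rep F1 F2 : ℕ) : Bool :=
  allB (fun y => Bool.rec false (Nat.beq (itab F1 (Nat.div (Nat.land (look lab y) 31) 5)
    (itab F2 (Nat.mod (Nat.land (look lab y) 31) 5) (look rep (Nat.shiftRight (look lab y) 5)))) y)
    (Nat.ble (Nat.succ (Nat.shiftRight (look lab y) 5)) 57)) 1365

/-- table of a word -/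
def chkWordT (tab : Gen → ℕ) (w : List Gen) (F : ℕ) : Bool :=
  allB (fun y => Nat.beq (evalW tab w y) (look F y)) 1365

/-- the equations come from the words -/
def chkEqs (tab : Gen → ℕ) (lab rep EQ : ℕ) (W : List (List Gen)) : Bool :=
  allS (fun i => Bool.rec false
    (allS (fun s => Nat.beq (look EQ (Nat.add (Nat.mul 20 i) s))
      (Nat.shiftRight (look lab (evalW tab (nth W i) (Nat.succ s))) 5)) 20)
    (Nat.beq (evalW tab (nth W i) 0) (look rep i))) 57

/-- all the data for points or for lines -/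
structure Side (ρ : Hs →* Equiv.Perm (Fin 1365)) where
  tab : Gen → ℕ
  hgen : ∀ g (y : Fin 1365), ((ρ (gen g) y : Fin 1365) : ℕ) = look (tab g) y
  hst : StabTrans ρ y0 cl
  tr : ∀ y, ∃ h, ρ h y0 = y
  r1 : List Gen
  r2 : List Gen
  h1 : Nat.beq (evalW tab r1 0) 1 = true
  h2 : Nat.beq (evalW tab r2 0) 21 = true
  c1 : Nat.beq (cntC 1365 tab cls 2 (winv id r1)) 48 = true
  c2 : Nat.beq (cntC 1365 tab cls 2 (winv id r2)) 76 = true
  q : ℕ → List Gen
  rows : chkRows tab id cls mval 2 q 1 20 624 = true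
  lab : ℕ
  rep : ℕ
  F1 : ℕ
  F2 : ℕ
  EQ : ℕ
  W : List (List Gen)
  labels : chkLabels lab rep F1 F2 = true
  w1 : chkWordT tab f1 F1 = true
  w2 : chkWordT tab f2 F2 = true
  eqs : chkEqs tab lab rep EQ W = true
  labr : chkLab 57 20 EQ = true

/-- points -/
def sideP : Side ρP where
  tab := tabP
  hgen := hgenP
  hst := stP
  tr := trP
  r1 := nth rP 0
  r2 := nth rP 1
  h1 := by decide +kernel
  h2 := by decide +kernel
  c1 := by decide +kernel
  c2 := by decide +kernel
  q := nth qP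
  rows := by decide +kernel
  lab := labP
  rep := repP
  F1 := F1P
  F2 := F2P
  EQ := EQP
  W := wP
  labels := by decide +kernel
  w1 := by decide +kernel
  w2 := by decide +kernel
  eqs := by decide +kernel
  labr := by decide +kernel

/-- lines -/
def sideL : Side ρL where
  tab := tabL
  hgen := hgenL
  hst := stL
  tr := trL
  r1 := nth rL 0
  r2 := nth rL 1
  h1 := by decide +kernel
  h2 := by decide +kernel
  c1 := by decide +kernel
  c2 := by decide +kernel
  q := nth qL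
  rows := by decide +kernel
  lab := labL
  rep := repL
  F1 := F1L
  F2 := F2L
  EQ := EQL
  W := wL
  labels := by decide +kernel
  w1 := by decide +kernel
  w2 := by decide +kernel
  eqs := by decide +kernel
  labr := by decide +kernel

theorem card_cl {c lo len : ℕ} (h : chkRange 1365 cls c lo len = true) : (D cl c).card = len :=
  card_D (n := 1365) h

theorem mem_cl (c : ℕ) (y : Fin 1365) : y ∈ D cl c ↔ cls y.val = c := mem_D cl c y

theorem cl_lt (y : Fin 1365) : cl y < 4 := by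
  unfold cl
  rcases cls_cases y.val with h | h | h | h <;> omega

theorem cl_y0 : cl y0 = 0 := by
  change cls 0 = 0
  rcases cls_cases 0 with h | h | h | h <;> omega

theorem params {ρ : Hs →* Equiv.Perm (Fin 1365)} {Ω : Type*} [Fintype Ω] [DecidableEq Ω]
    (C : Conf Ω Hs) (hΔ : C.Δ.card = 416) (M : YMap C ρ) (hst : StabTrans ρ y0 cl) :
    C.mu = 96 ∧ C.lam = 100 ∧ M.A y0 = D cl 2 := by
  classical
  have hΛ : C.Λ.card = 1365 := by rw [M.card_Λ, Fintype.card_fin]
  obtain ⟨d, hd⟩ := C.neΔ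
  have hS := M.card_S hd
  have hkl := C.k_l_identity (415 - C.lam) (by omega)
  rw [hΔ, hΛ] at hkl
  have hA := M.card_A y0
  rw [hΔ] at hA hS
  have h4 : (M.A y0).card = ∑ c ∈ range 4, ((M.A y0).filter fun y => cl y = c).card :=
    card_eq_sum_card_fiberwise (f := cl) (t := range 4) (fun y _ => by
      rw [Finset.coe_range]; exact cl_lt y)
  have hc : ∀ c len, (D cl c).card = len →
      (((M.A y0).filter fun y => cl y = c).card = len ∧ D cl c ⊆ M.A y0) ∨
        ((M.A y0).filter fun y => cl y = c).card = 0 := by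
    intro c len hlen
    rcases D_sub_or_disj M hst c with h | h
    · left
      refine ⟨?_, h⟩
      rw [← hlen]
      refine congrArg Finset.card ?_
      ext y
      rw [mem_filter, mem_D]
      exact ⟨fun h' => h'.2, fun h' => ⟨h ((mem_D _ _ _).2 h'), h'⟩⟩
    · right
      rw [card_eq_zero, filter_eq_empty_iff]
      intro y hy hyc
      exact (Finset.disjoint_left.1 h) ((mem_D _ _ _).2 hyc) hy
  have h0 : ((M.A y0).filter fun y => cl y = 0).card = 0 := by
    rw [card_eq_zero, filter_eq_empty_iff]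
    intro y hy hyc
    have : y = y0 := Fin.ext (cls_zero hyc)
    rw [this] at hy
    exact M.self_notMem_A y0 hy
  have e1 := hc 1 20 (card_cl rng1)
  have e2 := hc 2 320 (card_cl rng2)
  have e3 := hc 3 1024 (card_cl rng3)
  rw [sum_range_succ, sum_range_succ, sum_range_succ, sum_range_one, h0] at h4
  have key : ((M.A y0).filter fun y => cl y = 2).card = 320 ∧ (M.A y0).card = 320 ∧ C.mu = 96 ∧
      C.lam = 100 := by
    rcases e1 with ⟨e1, -⟩ | e1 <;> rcases e2 with ⟨e2, -⟩ | e2 <;> rcases e3 with ⟨e3, -⟩ | e3 <;>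
      rw [e1, e2, e3] at h4 <;> omega
  obtain ⟨k1, k2, k3, k4⟩ := key
  refine ⟨k3, k4, ?_⟩
  rcases e2 with ⟨-, e2⟩ | e2
  · exact (eq_of_subset_of_card_le e2 (by rw [k2, card_cl rng2])).symm
  · omega

/-- values of `m` -/
theorem mval_spec {ρ : Hs →* Equiv.Perm (Fin 1365)} (sd : Side ρ) {Ω : Type*} [Fintype Ω] [DecidableEq Ω]
    (C : Conf Ω Hs) (hΔ : C.Δ.card = 416) (M : YMap C ρ) (z : Fin 1365) (hz : cl z ≤ 2) :
    M.m y0 z = mval (cl z) := by
  classical
  obtain ⟨hmu, hlam, hA⟩ := params C hΔ M sd.hst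
  have gg : ∀ (w : List Gen) (r : ℕ), r < 1365 → evalW sd.tab w 0 = r → cl (ρ (gw gen w) y0) = cls r := by
    intro w r hr hw
    unfold cl
    rw [evalW_spec gen ρ sd.tab sd.hgen]
    change cls (evalW sd.tab w 0) = _
    rw [hw]
  have hm : ∀ (w : List Gen) (c p : ℕ), cl (ρ (gw gen w) y0) = c →
      cntC 1365 sd.tab cls 2 (winv id w) = p → cl z = c → M.m y0 z + p = C.cn (M.f y0) (M.f z) := by
    intro w c p h1 h2 h3
    refine m_class M sd.hst hA (c := c) (p := p) (gw gen w) h1 ?_ z h3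
    rw [← h2]
    exact cntC_spec sd.tab gen ρ sd.hgen id gen_inv cls 2 w
  by_cases h0 : cl z = 0
  · have : z = y0 := Fin.ext (cls_zero h0)
    rw [h0, this, M.m_self, hmu]; rfl
  have hne : M.f y0 ≠ M.f z := by
    intro e
    apply h0
    rw [← M.inj e]; exact cl_y0
  by_cases h1 : cl z = 1
  · have e1 := hm sd.r1 1 48 (by
      rw [gg sd.r1 1 (by norm_num) (by have := sd.h1; rw [Nat.beq_eq] at this; exact this)]
      rcases cls_cases 1 with h | h | h | h <;> omega)
      (by have := sd.c1; rw [Nat.beq_eq] at this; exact this) h1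
    have e2 : ¬ C.adj (M.f y0) (M.f z) := by
      rw [← M.mem_A, hA, mem_D, h1]; norm_num
    rw [C.cn_nonadj hne e2, hmu] at e1
    rw [h1]
    change _ = 48
    omega
  · have h2 : cl z = 2 := by omega
    have e1 := hm sd.r2 2 76 (by
      rw [gg sd.r2 21 (by norm_num) (by have := sd.h2; rw [Nat.beq_eq] at this; exact this)]
      rcases cls_cases 21 with h | h | h | h <;> omega)
      (by have := sd.c2; rw [Nat.beq_eq] at this; exact this) h2
    have e2 : C.adj (M.f y0) (M.f z) := by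
      rw [← M.mem_A, hA, mem_D, h2]
    rw [C.cn_adj e2, hlam] at e1
    rw [h2]
    change _ = 24
    omega

/-- the main equation -/
theorem main_eqn {ρ : Hs →* Equiv.Perm (Fin 1365)} (sd : Side ρ) {Ω : Type*} [Fintype Ω] [DecidableEq Ω]
    (C : Conf Ω Hs) (hΔ : C.Δ.card = 416) (M : YMap C ρ) (d : Ω) (hd : d ∈ C.Δ) (h : Hs) :
    (((D cl 1).filter fun q => ρ h q ∈ M.S d).card : ℤ) = 7 * (if ρ h y0 ∈ M.S d then 1 else 0) + 3 := by
  classical
  obtain ⟨hmu, hlam, hA⟩ := params C hΔ M sd.hst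
  apply eqn_transport M _ h d hd
  apply eqn M mval (fun c => c ≤ 2) (mval_spec sd C hΔ M) 1 (by norm_num) 20 624 (card_cl rng1)
  · exact chkRows_spec (by norm_num) sd.tab gen ρ sd.hgen id gen_inv rng1 sd.rows
  · rw [hmu, hΔ]
    change (20 : ℤ) * 624 + 7 ^ 2 * (96 : ℕ) + 3 ^ 2 * (416 : ℕ) - 2 * 7 * (20 * (48 : ℕ))
      - 2 * 3 * (20 * (96 : ℕ)) + 2 * 7 * 3 * (96 : ℕ) = 0
    norm_num

/-- equality of words on the three sets -/
def chkEqW (v w : List Gen) : Bool :=
  Bool.rec false (Bool.rec false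
    (allB (fun y => Nat.beq (evalW tabO v y) (evalW tabO w y)) 1782)
    (allB (fun y => Nat.beq (evalW tabP v y) (evalW tabP w y)) 1365))
    (allB (fun y => Nat.beq (evalW tabL v y) (evalW tabL w y)) 1365)

theorem gw_eq {v w : List Gen} (h : chkEqW v w = true) : gw gen v = gw gen w := by
  unfold chkEqW at h
  rw [and3, and3, Bool.and_eq_true, Bool.and_eq_true, allB_iff, allB_iff, allB_iff] at h
  obtain ⟨hL, hP, hO⟩ := h
  have key : ∀ {n : ℕ} (ρ : Hs →* Equiv.Perm (Fin n)) (tab : Gen → ℕ)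
      (_ : ∀ g (y : Fin n), ((ρ (gen g) y : Fin n) : ℕ) = look (tab g) y)
      (_ : ∀ i < n, Nat.beq (evalW tab v i) (evalW tab w i) = true), ρ (gw gen v) = ρ (gw gen w) := by
    intro n ρ tab hg hh
    ext y
    rw [evalW_spec gen ρ tab hg, evalW_spec gen ρ tab hg]
    have := hh y.val y.2
    rw [Nat.beq_eq] at this
    exact this
  apply Subtype.ext
  exact Prod.ext (key ρO tabO hgenO hO) (Prod.ext (key ρP tabP hgenP hP) (key ρL tabL hgenL hL))

/-- first element of order five -/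
def a1 : Hs := gw gen f1
/-- second element of order five -/
def a2 : Hs := gw gen f2

theorem a1_pow : a1 ^ 5 = 1 := by
  have h : gw gen (f1 ++ f1 ++ f1 ++ f1 ++ f1) = gw gen [] := gw_eq (by decide +kernel)
  rw [gw_append, gw_append, gw_append, gw_append, gw_nil] at h
  rw [← h]; unfold a1; simp only [pow_succ, pow_zero, one_mul]

theorem a2_pow : a2 ^ 5 = 1 := by
  have h : gw gen (f2 ++ f2 ++ f2 ++ f2 ++ f2) = gw gen [] := gw_eq (by decide +kernel)
  rw [gw_append, gw_append, gw_append, gw_append, gw_nil] at h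
  rw [← h]; unfold a2; simp only [pow_succ, pow_zero, one_mul]

theorem a12_comm : Commute a1 a2 := by
  have h : gw gen (f1 ++ f2) = gw gen (f2 ++ f1) := gw_eq (by decide +kernel)
  rw [gw_append, gw_append] at h
  exact h

/-- the group of order 25 -/
def T5 : Subgroup Hs where
  carrier := {g | ∃ a b : ℤ, g = a1 ^ a * a2 ^ b}
  one_mem' := ⟨0, 0, by simp⟩
  mul_mem' := by
    rintro _ _ ⟨a, b, rfl⟩ ⟨c, d, rfl⟩
    refine ⟨a + c, b + d, ?_⟩
    rw [zpow_add, zpow_add]
    have := (a12_comm.zpow_zpow c b).eq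
    calc a1 ^ a * a2 ^ b * (a1 ^ c * a2 ^ d) = a1 ^ a * (a2 ^ b * a1 ^ c) * a2 ^ d := by group
      _ = a1 ^ a * (a1 ^ c * a2 ^ b) * a2 ^ d := by rw [this]
      _ = _ := by group
  inv_mem' := by
    rintro _ ⟨a, b, rfl⟩
    refine ⟨-a, -b, ?_⟩
    rw [mul_inv_rev, ← zpow_neg, ← zpow_neg]
    exact (a12_comm.zpow_zpow (-a) (-b)).eq.symm

theorem a1_mem : a1 ∈ T5 := ⟨1, 0, by simp⟩
theorem a2_mem : a2 ∈ T5 := ⟨0, 1, by simp⟩

theorem T5_p : IsPGroup 5 T5 := by
  rintro ⟨_, ⟨a, b, rfl⟩⟩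
  refine ⟨1, ?_⟩
  apply Subtype.ext
  change (a1 ^ a * a2 ^ b) ^ (5 ^ 1) = 1
  rw [pow_one, (a12_comm.zpow_zpow a b).mul_pow, ← zpow_natCast, ← zpow_mul, mul_comm a, zpow_mul,
    zpow_natCast, a1_pow, ← zpow_natCast, ← zpow_mul, mul_comm b, zpow_mul, zpow_natCast, a2_pow]
  simp

/-- a point of `Δ` fixed by the group of order 25 -/
theorem exists_fixed_d {Ω : Type*} [Fintype Ω] [DecidableEq Ω] (C : Conf Ω Hs) (hΔ : C.Δ.card = 416) :
    ∃ d ∈ C.Δ, ∀ t ∈ T5, C.act t d = d := by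
  classical
  let _ : MulAction T5 {x // x ∈ C.Δ} :=
    { smul := fun t x => ⟨C.act t x, C.hΔ _ _ x.2⟩
      one_smul := fun x => Subtype.ext (by
        change C.act (1 : Hs) x = x; simp)
      mul_smul := fun s t x => Subtype.ext (by
        change C.act ((s : Hs) * t) x = C.act s (C.act t x); simp) }
  have : Fact (Nat.Prime 5) := ⟨by norm_num⟩
  obtain ⟨x, hx⟩ := T5_p.nonempty_fixed_point_of_prime_not_dvd_card {x // x ∈ C.Δ} (by
    rw [Nat.card_eq_fintype_card, Fintype.card_coe, hΔ]; norm_num)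
  exact ⟨x, x.2, fun t ht => congrArg Subtype.val (hx ⟨t, ht⟩)⟩

theorem itab_spec {ρ : Hs →* Equiv.Perm (Fin 1365)} {F : ℕ} {g : Hs}
    (h : ∀ y : Fin 1365, look F y = (ρ g y).val) (a : ℕ) (y : Fin 1365) :
    itab F a y = (ρ (g ^ a) y).val := by
  induction a with
  | zero => simp [itab]
  | succ a ih =>
    change look F (itab F a y) = _
    rw [ih, h, pow_succ', map_mul, Equiv.Perm.mul_apply]

theorem wordT_spec {ρ : Hs →* Equiv.Perm (Fin 1365)} (sd : Side ρ) {w : List Gen} {F : ℕ}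
    (h : chkWordT sd.tab w F = true) (y : Fin 1365) : look F y = (ρ (gw gen w) y).val := by
  unfold chkWordT at h
  rw [allB_iff] at h
  have := h y.val y.2
  rw [Nat.beq_eq] at this
  rw [← this, evalW_spec gen ρ sd.tab sd.hgen]

theorem eq_spec {ρ : Hs →* Equiv.Perm (Fin 1365)} (sd : Side ρ) {i : ℕ} (hi : i < 57) :
    (ρ (gw gen (nth sd.W i)) y0).val = look sd.rep i ∧ ∀ s < 20, look sd.EQ (20 * i + s) =
      Nat.shiftRight (look sd.lab (evalW sd.tab (nth sd.W i) (s + 1))) 5 := by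
  have h := sd.eqs
  unfold chkEqs at h
  rw [allS_iff] at h
  have h1 := h i hi
  rw [and3, Bool.and_eq_true, Nat.beq_eq, allS_iff] at h1
  refine ⟨?_, fun s hs => ?_⟩
  · rw [evalW_spec gen ρ sd.tab sd.hgen]; exact h1.1
  · have h2 := h1.2 s hs
    rw [Nat.beq_eq] at h2
    exact h2

section
open Classical in
/-- the 0/1 vector of a subset -/
def xv (rep : ℕ) (S : Finset (Fin 1365)) (l : ℕ) : Bool :=
  decide (∃ z : Fin 1365, z.val = look rep l ∧ z ∈ S)
end

theorem xv_rep {rep : ℕ} {S : Finset (Fin 1365)} {l : ℕ} {z : Fin 1365} (hz : z.val = look rep l) :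
    xv rep S l = true ↔ z ∈ S := by
  unfold xv
  rw [decide_eq_true_eq]
  constructor
  · rintro ⟨z', h1, h2⟩
    have : z' = z := Fin.ext (by rw [h1, hz])
    exact this ▸ h2
  · intro h; exact ⟨z, hz, h⟩

theorem label {ρ : Hs →* Equiv.Perm (Fin 1365)} (sd : Side ρ) {Ω : Type*} [Fintype Ω] [DecidableEq Ω]
    (C : Conf Ω Hs) (M : YMap C ρ) {d : Ω} (hd : ∀ t ∈ T5, C.act t d = d) (y : Fin 1365) :
    xv sd.rep (M.S d) (Nat.shiftRight (look sd.lab y) 5) = true ↔ y ∈ M.S d := by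
  have h := sd.labels
  unfold chkLabels at h
  rw [allB_iff] at h
  have h1 := h y.val y.2
  rw [and3, Bool.and_eq_true, Nat.ble_eq, Nat.beq_eq] at h1
  obtain ⟨hl, h2⟩ := h1
  generalize Nat.shiftRight (look sd.lab y) 5 = l at hl h2 ⊢
  generalize Nat.div (Nat.land (look sd.lab y) 31) 5 = a at h2
  generalize Nat.mod (Nat.land (look sd.lab y) 31) 5 = b at h2
  have hr := (eq_spec sd (i := l) hl).1
  rw [xv_rep hr]
  rw [← hr, itab_spec (wordT_spec sd sd.w2), itab_spec (wordT_spec sd sd.w1)] at h2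
  have h3 : ρ (a1 ^ a * a2 ^ b) (ρ (gw gen (nth sd.W l)) y0) = y := by
    rw [map_mul, Equiv.Perm.mul_apply]
    exact Fin.ext h2
  have h4 := M.S_act (a1 ^ a * a2 ^ b) d (ρ (gw gen (nth sd.W l)) y0)
  rw [h3, hd _ (T5.mul_mem (T5.pow_mem a1_mem _) (T5.pow_mem a2_mem _))] at h4
  exact h4.symm

theorem system {ρ : Hs →* Equiv.Perm (Fin 1365)} (sd : Side ρ) {Ω : Type*} [Fintype Ω] [DecidableEq Ω]
    (C : Conf Ω Hs) (hΔ : C.Δ.card = 416) (M : YMap C ρ) {d : Ω} (hdΔ : d ∈ C.Δ)
    (hd : ∀ t ∈ T5, C.act t d = d) : ∀ i < 57,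
    ∑ s ∈ Finset.range 20, b2n (xv sd.rep (M.S d) (look sd.EQ (20 * i + s))) =
      if xv sd.rep (M.S d) i = true then 10 else 3 := by
  classical
  intro i hi
  obtain ⟨h1, h2⟩ := eq_spec sd hi
  have hm := main_eqn sd C hΔ M d hdΔ (gw gen (nth sd.W i))
  have h3 : (((D cl 1).filter fun q => ρ (gw gen (nth sd.W i)) q ∈ M.S d).card) =
      ∑ s ∈ Finset.range 20, b2n (xv sd.rep (M.S d) (look sd.EQ (20 * i + s))) := by
    rw [card_filter]
    have h4 := sum_D (n := 1365) rng1 (fun j => b2n (xv sd.rep (M.S d)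
      (Nat.shiftRight (look sd.lab (evalW sd.tab (nth sd.W i) j)) 5)))
    have h5 : ∀ s ∈ Finset.range 20, b2n (xv sd.rep (M.S d) (look sd.EQ (20 * i + s))) =
       b2n (xv sd.rep (M.S d) (Nat.shiftRight (look sd.lab (evalW sd.tab (nth sd.W i) (1 + s))) 5)) := by
      intro s hs
      rw [h2 s (Finset.mem_range.1 hs), add_comm s 1]
    rw [sum_congr rfl h5, ← h4]
    apply sum_congr rfl
    intro q _
    rw [b2n_eq, ← evalW_spec gen ρ sd.tab sd.hgen (nth sd.W i) q]
    simp only [label sd C M hd]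
  rw [h3] at hm
  by_cases hx : xv sd.rep (M.S d) i = true
  · rw [if_pos ((xv_rep (S := M.S d) h1).1 hx)] at hm
    rw [if_pos hx]
    omega
  · rw [if_neg (fun h => hx ((xv_rep (S := M.S d) h1).2 h))] at hm
    rw [if_neg hx]
    omega

theorem runP : run 57 20 EQP 10 3 true SOL certP 0 (2 ^ 57 - 1) = true := by decide +kernel
theorem runL : run 57 20 EQL 10 3 false 0 certL 0 (2 ^ 57 - 1) = true := by decide +kernel

/-- lines are impossible -/
theorem no_lines {Ω : Type*} [Fintype Ω] [DecidableEq Ω] (C : Conf Ω Hs) (hΔ : C.Δ.card = 416)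
    (M : YMap C ρL) : False := by
  obtain ⟨d, hdΔ, hd⟩ := exists_fixed_d C hΔ
  have := (search_sound false 0 certL sideL.labr runL (system sideL C hΔ M hdΔ hd)).1
  exact absurd this (by decide)

/-- the neighbourhood of a fixed point is known -/
theorem points {Ω : Type*} [Fintype Ω] [DecidableEq Ω] (C : Conf Ω Hs) (hΔ : C.Δ.card = 416)
    (M : YMap C ρP) : ∃ d ∈ C.Δ, ∀ y : Fin 1365,
      y ∈ M.S d ↔ SOL.testBit (Nat.shiftRight (look labP y) 5) = true := by
  obtain ⟨d, hdΔ, hd⟩ := exists_fixed_d C hΔ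
  refine ⟨d, hdΔ, fun y => ?_⟩
  have := (search_sound true SOL certP sideP.labr runP (system sideP C hΔ M hdΔ hd)).2
  rw [← label sideP C M hd y]
  have hl : Nat.shiftRight (look labP y) 5 < 57 := by
    have h := sideP.labels
    unfold chkLabels at h
    rw [allB_iff] at h
    have h1 := h y.val y.2
    rw [and3, Bool.and_eq_true, Nat.ble_eq] at h1
    exact h1.1
  rw [← this _ hl]
  rfl

end Cfsg.Agent.SporRec.R3.SuzS
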